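import Groth.Agent.WLocalLib.Reduced
import Mathlib

/-!
Weakly étale morphisms of schemes on affine pieces.
-/

set_option autoImplicit false

open AlgebraicGeometry CategoryTheory Limits

universe u

namespace Groth.Agent.WLocalLib

theorem weaklyEtale_of_specMap {R S : Type u} [CommRing R] [CommRing S] [Algebra R S]
    [h : WeaklyEtale (Spec.map (CommRingCat.ofHom (algebraMap R S)))] : Algebra.WeaklyEtale R S := by
  have h1 : (algebraMap R S).Flat := (HasRingHomProperty.Spec_iff (P := @Flat)).1 h.flat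
  have h2 := h.flat_diagonal
  rw [diagonal_SpecMap, MorphismProperty.cancel_right_of_respectsIso @Flat,
    HasRingHomProperty.Spec_iff (P := @Flat)] at h2
  exact ⟨RingHom.flat_algebraMap_iff.1 h1, h2⟩

theorem weaklyEtale_appLE {X Y : Scheme.{u}} (f : X ⟶ Y) [WeaklyEtale f] {V : Y.Opens}
    (hV : IsAffineOpen V) {U : X.Opens} (hU : IsAffineOpen U) (e : U ≤ f ⁻¹ᵁ V) :
    letI := (f.appLE V U e).hom.toAlgebra
    Algebra.WeaklyEtale Γ(Y, V) Γ(X, U) := by
  letI := (f.appLE V U e).hom.toAlgebra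
  haveI : IsAffine V.toScheme := hV
  haveI : IsAffine U.toScheme := hU
  haveI : WeaklyEtale (Spec.map (CommRingCat.ofHom (algebraMap Γ(Y, V) Γ(X, U)))) := by
    have h0 : WeaklyEtale (f.resLE V U e) := inferInstance
    rw [MorphismProperty.arrow_mk_iso_iff @WeaklyEtale (arrowIsoSpecΓOfIsAffine _)] at h0
    have h1 : CommRingCat.ofHom (algebraMap Γ(Y, V) Γ(X, U)) =
        V.topIso.inv ≫ (f.resLE V U e).appTop ≫ U.topIso.hom := by
      show f.appLE V U e = _
      rw [Iso.eq_inv_comp]
      exact (arrowResLEAppIso f V U e).hom.w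
    rw [h1, Spec.map_comp, Spec.map_comp, MorphismProperty.cancel_right_of_respectsIso @WeaklyEtale,
      MorphismProperty.cancel_left_of_respectsIso @WeaklyEtale]
    exact h0
  exact weaklyEtale_of_specMap

theorem isReduced_of_weaklyEtale_scheme {X Y : Scheme.{u}} (f : X ⟶ Y) [WeaklyEtale f] [IsReduced Y] :
    IsReduced X := by
  haveI : ∀ x : X, _root_.IsReduced (X.presheaf.stalk x) := fun x => by
    obtain ⟨V, hV, hxV, -⟩ := exists_isAffineOpen_mem_and_subset (x := f x) (U := ⊤) trivial
    obtain ⟨U, hU, hxU, hUV⟩ := exists_isAffineOpen_mem_and_subset (x := x) (U := f ⁻¹ᵁ V) hxV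
    letI := (f.appLE V U hUV).hom.toAlgebra
    haveI := weaklyEtale_appLE f hV hU hUV
    haveI : _root_.IsReduced Γ(X, U) := isReduced_of_weaklyEtale Γ(Y, V) Γ(X, U)
    letI := TopCat.Presheaf.algebra_section_stalk X.presheaf (⟨x, hxU⟩ : U)
    haveI := hU.isLocalization_stalk ⟨x, hxU⟩
    exact isReduced_localizationPreserves (hU.primeIdealOf ⟨x, hxU⟩).asIdeal.primeCompl
      (X.presheaf.stalk x) inferInstance
  exact isReduced_of_isReduced_stalk X

end Groth.Agent.WLocalLib
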