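import Groth.Agent.WLocalLib.WContrConstr
import Groth.Agent.Hensel.QuasiFinite
import Groth.Agent.Hensel.Idempotent
import Mathlib

/-!
Quasi-finite algebras over profinite spectra with separably closed residue fields, and finite
algebras over w-contractible rings.
-/

set_option autoImplicit false

open Topology
open scoped TensorProduct

universe u

namespace Groth.Agent.WLocalLib

theorem flat_of_isReduced_of_t1 {R : Type u} [CommRing R] [IsReduced R] [T1Space (PrimeSpectrum R)]
    (M : Type u) [AddCommGroup M] [Module R M] : Module.Flat R M := by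
  refine Module.flat_of_localized_maximal M fun P hP => ?_
  haveI : Ring.KrullDimLE 0 R := Ring.KrullDimLE.mk₀ fun I hI =>
    (PrimeSpectrum.isClosed_singleton_iff_isMaximal ⟨I, hI⟩).1 isClosed_singleton
  haveI : Ring.KrullDimLE 0 (Localization.AtPrime P) :=
    Ring.KrullDimLE.mk₀ fun Q hQ => by
      have h1 : Q ≤ IsLocalRing.maximalIdeal (Localization.AtPrime P) := IsLocalRing.le_maximalIdeal hQ.ne_top
      have h2 : Q.under R = P := by
        refine ((Ideal.IsPrime.isMaximal' inferInstance).eq_of_le hP.ne_top ?_)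
        exact (Ideal.comap_mono h1).trans Localization.AtPrime.comap_maximalIdeal.le
      rw [show Q = IsLocalRing.maximalIdeal (Localization.AtPrime P) from by
        rw [← IsLocalization.map_comap P.primeCompl (Localization.AtPrime P) Q, h2]
        exact Localization.AtPrime.map_eq_maximalIdeal]
      exact IsLocalRing.maximalIdeal.isMaximal _
  letI : Field (Localization.AtPrime P) := Ring.KrullDimLE.isField_of_isReduced.toField
  haveI : Module.Flat (Localization.AtPrime P) (LocalizedModule P.primeCompl M) := inferInstance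
  exact Module.Flat.trans R (Localization.AtPrime P) (LocalizedModule P.primeCompl M)

theorem isClosed_singleton_of_quasiFinite {R C : Type u} [CommRing R] [CommRing C] [Algebra R C]
    [T1Space (PrimeSpectrum R)] [Algebra.QuasiFinite R C] (q : PrimeSpectrum C) :
    IsClosed ({q} : Set (PrimeSpectrum C)) :=
  isClosed_singleton_of_comap (algebraMap R C) (fun q q' he hle =>
    PrimeSpectrum.ext (Algebra.QuasiFinite.eq_of_le_of_under_eq q.asIdeal q'.asIdeal hle he))
    q isClosed_singleton

theorem ker_le_of_comap_eq {R C : Type u} [CommRing R] [CommRing C] [Algebra R C]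
    [Algebra.QuasiFinite R C] (y : PrimeSpectrum C)
    (hres : IsSepClosed (y.asIdeal.comap (algebraMap R C)).ResidueField)
    (P : PrimeSpectrum (C ⊗[R] C))
    (h1 : PrimeSpectrum.comap (Algebra.TensorProduct.includeLeftRingHom : C →+* C ⊗[R] C) P = y)
    (h2 : PrimeSpectrum.comap (Algebra.TensorProduct.includeRight : C →ₐ[R] C ⊗[R] C).toRingHom P = y) :
    RingHom.ker (Algebra.TensorProduct.lmul' R (S := C)).toRingHom ≤ P.asIdeal := by
  let z := y.asIdeal.comap (algebraMap R C)
  haveI : y.asIdeal.LiesOver z := ⟨rfl⟩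
  letI := Localization.AtPrime.algebraOfLiesOver z y.asIdeal
  haveI : IsSepClosed z.ResidueField := hres
  haveI : IsPurelyInseparable z.ResidueField y.asIdeal.ResidueField := inferInstance
  let f1 := Ideal.ResidueField.map y.asIdeal P.asIdeal
    (Algebra.TensorProduct.includeLeftRingHom : C →+* C ⊗[R] C) (congrArg PrimeSpectrum.asIdeal h1).symm
  let f2 := Ideal.ResidueField.map y.asIdeal P.asIdeal
    (Algebra.TensorProduct.includeRight : C →ₐ[R] C ⊗[R] C).toRingHom
    (congrArg PrimeSpectrum.asIdeal h2).symm
  have hc1 : ∀ c : C, f1 (algebraMap C y.asIdeal.ResidueField c) =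
      algebraMap (C ⊗[R] C) P.asIdeal.ResidueField (c ⊗ₜ 1) := fun c => by
    simp [f1, Ideal.ResidueField.map_algebraMap]
  have hc2 : ∀ c : C, f2 (algebraMap C y.asIdeal.ResidueField c) =
      algebraMap (C ⊗[R] C) P.asIdeal.ResidueField (1 ⊗ₜ c) := fun c => by
    simp [f2, Ideal.ResidueField.map_algebraMap]
  have hf : f1 = f2 := by
    refine IsPurelyInseparable.injective_comp_algebraMap z.ResidueField y.asIdeal.ResidueField
      P.asIdeal.ResidueField ?_
    refine Ideal.ResidueField.ringHom_ext (RingHom.ext fun r => ?_)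
    show f1 (algebraMap z.ResidueField y.asIdeal.ResidueField (algebraMap R z.ResidueField r)) =
      f2 (algebraMap z.ResidueField y.asIdeal.ResidueField (algebraMap R z.ResidueField r))
    rw [← IsScalarTower.algebraMap_apply, IsScalarTower.algebraMap_apply R C y.asIdeal.ResidueField,
      hc1, hc2]
    congr 1
    rw [Algebra.algebraMap_eq_smul_one (A := C) r, TensorProduct.smul_tmul]
  have hg : ∀ w, algebraMap (C ⊗[R] C) P.asIdeal.ResidueField w =
      algebraMap (C ⊗[R] C) P.asIdeal.ResidueField (Algebra.TensorProduct.lmul' R (S := C) w ⊗ₜ 1) := by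
    intro w
    induction w using TensorProduct.induction_on with
    | zero => simp
    | tmul a b =>
      rw [show (a ⊗ₜ[R] b : C ⊗[R] C) = (a ⊗ₜ 1) * (1 ⊗ₜ b) by simp, map_mul, ← hc2, ← hf, hc1, ← map_mul,
        Algebra.TensorProduct.tmul_mul_tmul, mul_one]
      simp
    | add x y hx hy => rw [map_add, hx, hy, map_add, TensorProduct.add_tmul, map_add]
  intro w hw
  rw [← Ideal.algebraMap_residueField_eq_zero, hg,
    show Algebra.TensorProduct.lmul' R (S := C) w = 0 from hw, TensorProduct.zero_tmul, map_zero]

/-- Local injectivity. -/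
theorem exists_clopen_injOn {R C : Type u} [CommRing R] [CommRing C] [Algebra R C]
    [T1Space (PrimeSpectrum R)] [Algebra.QuasiFinite R C] [Algebra.FiniteType R C]
    (hres : ∀ p : PrimeSpectrum R, IsSepClosed p.asIdeal.ResidueField) (y : PrimeSpectrum C) :
    ∃ U : Set (PrimeSpectrum C), IsClopen U ∧ y ∈ U ∧
      Set.InjOn (PrimeSpectrum.comap (algebraMap R C)) U := by
  obtain ⟨_, _, _⟩ := isProfinite_of_t1 (fun q : PrimeSpectrum C => isClosed_singleton_of_quasiFinite (R := R) q)
  let μ := (Algebra.TensorProduct.lmul' R (S := C)).toRingHom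
  let p1 := PrimeSpectrum.comap (Algebra.TensorProduct.includeLeftRingHom : C →+* C ⊗[R] C)
  let p2 := PrimeSpectrum.comap (Algebra.TensorProduct.includeRight : C →ₐ[R] C ⊗[R] C).toRingHom
  let W : Set (PrimeSpectrum (C ⊗[R] C)) := (PrimeSpectrum.zeroLocus (RingHom.ker μ : Set (C ⊗[R] C)))ᶜ
  have hW : IsCompact W := (PrimeSpectrum.isCompact_isOpen_iff_ideal.2
    ⟨RingHom.ker μ, KaehlerDifferential.ideal_fg R C, rfl⟩).1
  by_contra! H
  have hne : ∀ U : {U : Set (PrimeSpectrum C) // IsClopen U ∧ y ∈ U},
      (W ∩ (p1 ⁻¹' U.1 ∩ p2 ⁻¹' U.1)).Nonempty := by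
    rintro ⟨U, hU, hyU⟩
    have hni := H U hU hyU
    simp only [Set.InjOn] at hni
    push Not at hni
    obtain ⟨y1, hy1, y2, hy2, he, hne⟩ := hni
    obtain ⟨P, hP1, hP2⟩ := exists_prime_tensor y1 y2 he
    refine ⟨P, fun hP => hne ?_, by show p1 P ∈ U; rw [show p1 P = y1 from hP1]; exact hy1,
      by show p2 P ∈ U; rw [show p2 P = y2 from hP2]; exact hy2⟩
    rw [← range_comap_of_surjective _ μ (fun c => ⟨c ⊗ₜ 1, by simp [μ]⟩)] at hP
    obtain ⟨w, rfl⟩ := hP
    rw [← hP1, ← hP2, ← PrimeSpectrum.comap_comp_apply, ← PrimeSpectrum.comap_comp_apply]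
    congr 1
    exact RingHom.ext fun c => by simp [μ]
  haveI : Nonempty {U : Set (PrimeSpectrum C) // IsClopen U ∧ y ∈ U} := ⟨⟨Set.univ, isClopen_univ, trivial⟩⟩
  obtain ⟨P, hPW, hP⟩ : (W ∩ ⋂ U : {U : Set (PrimeSpectrum C) // IsClopen U ∧ y ∈ U},
      (p1 ⁻¹' U.1 ∩ p2 ⁻¹' U.1)).Nonempty := by
    refine hW.inter_iInter_nonempty _ (fun U => (U.2.1.isClosed.preimage (PrimeSpectrum.continuous_comap _)).inter
      (U.2.1.isClosed.preimage (PrimeSpectrum.continuous_comap _))) fun s => ?_
    classical
    obtain ⟨P, hPW, hP⟩ := hne ⟨⋂ U ∈ s, U.1, isClopen_biInter_finset fun U _ => U.2.1,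
      Set.mem_iInter₂.2 fun U _ => U.2.2⟩
    exact ⟨P, hPW, Set.mem_iInter₂.2 fun U hU => ⟨Set.mem_iInter₂.1 hP.1 U hU, Set.mem_iInter₂.1 hP.2 U hU⟩⟩
  rw [Set.mem_iInter] at hP
  have hy : ∀ x : PrimeSpectrum C,
      (∀ U : {U : Set (PrimeSpectrum C) // IsClopen U ∧ y ∈ U}, x ∈ U.1) → x = y := fun x hx => by
    by_contra hne
    obtain ⟨U, hU, hyU, hxU⟩ := exists_isClopen_of_totally_separated (Ne.symm hne)
    exact hxU (hx ⟨U, hU, hyU⟩)
  exact hPW (ker_le_of_comap_eq y (hres (PrimeSpectrum.comap (algebraMap R C) y)) P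
    (hy _ fun U => (hP U).1) (hy _ fun U => (hP U).2))

theorem extremallyDisconnected_of_openCover {X : Type u} [TopologicalSpace X]
    (h : ∀ x : X, ∃ U : Set X, IsOpen U ∧ x ∈ U ∧ ExtremallyDisconnected U) :
    ExtremallyDisconnected X := by
  refine ⟨fun V hV => ?_⟩
  refine isOpen_iff_mem_nhds.2 fun x hx => ?_
  obtain ⟨U, hU, hxU, hUe⟩ := h x
  have h2 : IsOpen (Subtype.val '' closure (Subtype.val ⁻¹' V : Set U)) :=
    hU.isOpenMap_subtype_val _ (hUe.open_closure _ (hV.preimage continuous_subtype_val))
  refine Filter.mem_of_superset (h2.mem_nhds ⟨⟨x, hxU⟩, ?_, rfl⟩) ?_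
  · rw [← hU.isOpenMap_subtype_val.preimage_closure_eq_closure_preimage continuous_subtype_val]
    exact hx
  · exact (image_closure_subset_closure_image continuous_subtype_val).trans
      (closure_mono (Set.image_preimage_subset _ _))

theorem extremallyDisconnected_of_reduced {R C : Type u} [CommRing R] [IsReduced R] [CommRing C]
    [Algebra R C] [Algebra.QuasiFinite R C] [Algebra.FinitePresentation R C]
    (hres : ∀ p : PrimeSpectrum R, IsSepClosed p.asIdeal.ResidueField)
    [T2Space (PrimeSpectrum R)] [ExtremallyDisconnected (PrimeSpectrum R)] :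
    ExtremallyDisconnected (PrimeSpectrum C) := by
  haveI : Module.Flat R C := flat_of_isReduced_of_t1 C
  have hopen : IsOpenMap (PrimeSpectrum.comap (algebraMap R C)) :=
    PrimeSpectrum.isOpenMap_comap_of_hasGoingDown_of_finitePresentation
  refine extremallyDisconnected_of_openCover fun y => ?_
  obtain ⟨U, hU, hyU, hinj⟩ := exists_clopen_injOn hres y
  refine ⟨U, hU.isOpen, hyU, extremallyDisconnected_of_isOpenEmbedding
    (f := fun x : U => PrimeSpectrum.comap (algebraMap R C) x.1) ?_⟩
  exact IsOpenEmbedding.of_continuous_injective_isOpenMap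
    ((PrimeSpectrum.continuous_comap _).comp continuous_subtype_val)
    (fun a b h => Subtype.ext (hinj a.2 b.2 h)) (hopen.comp hU.isOpen.isOpenMap_subtype_val)

theorem extremallyDisconnected_of_quasiFinite (A B : Type u) [CommRing A]
    [CommRing B] [Algebra A B] [Algebra.QuasiFinite A B] [Algebra.FinitePresentation A B]
    (hres : ∀ p : PrimeSpectrum A, IsSepClosed p.asIdeal.ResidueField)
    [T2Space (PrimeSpectrum A)] [ExtremallyDisconnected (PrimeSpectrum A)] :
    ExtremallyDisconnected (PrimeSpectrum B) := by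
  let N := nilradical A
  let R := A ⧸ N
  haveI : IsReduced R := (Ideal.isRadical_iff_quotient_reduced N).1 (Ideal.radical_isRadical _)
  let C := R ⊗[A] B
  have hπ := Ideal.Quotient.mk_surjective (I := N)
  let eR : PrimeSpectrum R ≃ₜ PrimeSpectrum A :=
    (PrimeSpectrum.isClosedEmbedding_comap_of_surjective R (Ideal.Quotient.mk N) hπ).isEmbedding.toHomeomorphOfSurjective fun p => by
      have : p ∈ Set.range (PrimeSpectrum.comap (Ideal.Quotient.mk N)) := by
        rw [range_comap_of_surjective _ _ hπ, Ideal.mk_ker]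
        exact fun x hx => nilradical_le_prime p.asIdeal hx
      exact this
  haveI : T2Space (PrimeSpectrum R) := eR.isEmbedding.t2Space
  haveI : ExtremallyDisconnected (PrimeSpectrum R) := extremallyDisconnected_of_homeo eR.symm
  have hres' : ∀ p : PrimeSpectrum R, IsSepClosed p.asIdeal.ResidueField := fun p => by
    haveI := hres (eR p)
    exact isSepClosed_of_ringEquiv (RingEquiv.ofBijective _
      ((RingHom.surjectiveOnStalks_of_surjective hπ).residueFieldMap_bijective
        (eR p).asIdeal p.asIdeal rfl))
  haveI := extremallyDisconnected_of_reduced (R := R) (C := C) hres'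
  let ι : B →+* C := (Algebra.TensorProduct.includeRight : B →ₐ[A] C).toRingHom
  have hι : Function.Surjective ι := by
    intro z
    induction z using TensorProduct.induction_on with
    | zero => exact ⟨0, map_zero _⟩
    | tmul r b =>
      obtain ⟨a, rfl⟩ := Ideal.Quotient.mk_surjective r
      refine ⟨a • b, ?_⟩
      show (1 : R) ⊗ₜ[A] (a • b) = Ideal.Quotient.mk N a ⊗ₜ[A] b
      rw [← TensorProduct.smul_tmul, Algebra.smul_def, mul_one]; rfl
    | add x y hx hy =>
      obtain ⟨x, rfl⟩ := hx
      obtain ⟨y, rfl⟩ := hy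
      exact ⟨x + y, map_add _ _ _⟩
  refine extremallyDisconnected_of_homeo
    ((PrimeSpectrum.isClosedEmbedding_comap_of_surjective C ι hι).isEmbedding.toHomeomorphOfSurjective
      fun q => ?_)
  have : q ∈ Set.range (PrimeSpectrum.comap ι) := by
    rw [range_comap_of_surjective _ ι hι]
    intro x hx
    let g : C →ₐ[A] q.asIdeal.ResidueField := Algebra.TensorProduct.lift
      (Ideal.Quotient.liftₐ N (Algebra.ofId A q.asIdeal.ResidueField) fun a ha => by
        show algebraMap A q.asIdeal.ResidueField a = 0
        exact ((mem_nilradical.1 ha).map _).eq_zero)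
      (IsScalarTower.toAlgHom A B q.asIdeal.ResidueField) fun _ _ => Commute.all _ _
    have h2 := congrArg g (show ι x = 0 from hx)
    rw [map_zero] at h2
    erw [Algebra.TensorProduct.lift_tmul] at h2
    rw [map_one, one_mul] at h2
    exact Ideal.algebraMap_residueField_eq_zero.1 h2
  exact this

theorem henselianLocalRing_of_finite (R : Type u) [CommRing R] [HenselianLocalRing R]
    (S : Type u) [CommRing S] [IsLocalRing S] [Algebra R S] [Module.Finite R S] :
    HenselianLocalRing S := by
  rw [← Hensel.henselianRing_maximalIdeal_iff]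
  haveI := Hensel.of_isIntegral (I := IsLocalRing.maximalIdeal R) S
  refine Hensel.of_le_radical (I := (IsLocalRing.maximalIdeal R).map (algebraMap R S)) ?_
  rw [Ideal.radical_eq_sInf]
  refine le_sInf fun P ⟨hP, hPp⟩ => ?_
  have : (P.comap (algebraMap R S)).IsMaximal := by
    have h1 : IsLocalRing.maximalIdeal R ≤ P.comap (algebraMap R S) := Ideal.map_le_iff_le_comap.1 hP
    rw [← (IsLocalRing.maximalIdeal.isMaximal R).eq_of_le (Ideal.comap_ne_top _ hPp.ne_top) h1]
    exact IsLocalRing.maximalIdeal.isMaximal R
  exact (IsLocalRing.eq_maximalIdeal (Ideal.isMaximal_of_isIntegral_of_isMaximal_comap P this)).ge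

theorem isSepClosed_of_isAlgebraic (k E : Type u) [Field k] [Field E] [Algebra k E] [IsSepClosed k]
    [Algebra.IsAlgebraic k E] : IsSepClosed E := by
  refine IsSepClosed.of_exists_root E fun p _ hirr hsep => ?_
  haveI : Algebra.IsAlgebraic k (AlgebraicClosure E) :=
    Algebra.IsAlgebraic.trans k E (AlgebraicClosure E)
  haveI : IsPurelyInseparable k (AlgebraicClosure E) := inferInstance
  haveI : IsPurelyInseparable E (AlgebraicClosure E) := IsPurelyInseparable.tower_top k E (AlgebraicClosure E)
  obtain ⟨x, hx⟩ := IsAlgClosed.exists_aeval_eq_zero (AlgebraicClosure E) p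
    (Polynomial.degree_pos_of_irreducible hirr).ne'
  obtain ⟨e, rfl⟩ := IsPurelyInseparable.inseparable E x (hsep.of_dvd (minpoly.dvd E x hx))
  refine ⟨e, ?_⟩
  rw [Polynomial.aeval_algebraMap_apply, map_eq_zero] at hx
  rwa [Polynomial.coe_aeval_eq_eval] at hx

theorem isStrictlyHenselian_of_finite (R : Type u) [CommRing R] (hR : EtCoh.IsStrictlyHenselianLocalRing R)
    (S : Type u) [CommRing S] [IsLocalRing S] [Algebra R S] [Module.Finite R S] :
    EtCoh.IsStrictlyHenselianLocalRing S := by
  obtain ⟨_, hk⟩ := hR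
  haveI : IsLocalHom (algebraMap R S) := ⟨fun a ha => by
    by_contra h
    have e : (IsLocalRing.maximalIdeal S).comap (algebraMap R S) = IsLocalRing.maximalIdeal R :=
      IsLocalRing.eq_maximalIdeal (Ideal.isMaximal_comap_of_isIntegral_of_isMaximal (R := R) _)
    have h' : a ∈ (IsLocalRing.maximalIdeal S).comap (algebraMap R S) := by
      rw [e]; exact h
    exact h' ha⟩
  haveI : Module.Finite (IsLocalRing.ResidueField R) (IsLocalRing.ResidueField S) := inferInstance
  exact ⟨henselianLocalRing_of_finite R S,
    isSepClosed_of_isAlgebraic (IsLocalRing.ResidueField R) (IsLocalRing.ResidueField S)⟩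

/-- A finite, finitely presented algebra over a w-contractible ring is w-contractible. -/
theorem isWContractible_of_finite (A B : Type u) [CommRing A] [CommRing B]
    [Algebra A B] [Module.Finite A B] [Algebra.FinitePresentation A B]
    (h : EtPBC.IsWContractible A) : EtPBC.IsWContractible B := by
  obtain ⟨hW, hE, hs⟩ := isWContractible_iff.1 h
  haveI := hW.1
  haveI := extremallyDisconnected_closedPoints hW hE
  let c := PrimeSpectrum.comap (algebraMap A B)
  have hcp : ∀ q : PrimeSpectrum B, IsClosed ({q} : Set (PrimeSpectrum B)) ↔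
      IsClosed ({c q} : Set (PrimeSpectrum A)) := fun q => by
    rw [PrimeSpectrum.isClosed_singleton_iff_isMaximal, PrimeSpectrum.isClosed_singleton_iff_isMaximal]
    exact ⟨fun hq => Ideal.isMaximal_comap_of_isIntegral_of_isMaximal (R := A) q.asIdeal,
      Ideal.isMaximal_of_isIntegral_of_isMaximal_comap (R := A) q.asIdeal⟩
  have hWB : ProEtW.IsWLocal (PrimeSpectrum B) := by
    refine ⟨inferInstance, ?_, fun y => ?_⟩
    · simp only [hcp]
      exact hW.2.1.preimage (PrimeSpectrum.continuous_comap _)
    · obtain ⟨M, hM, hyM⟩ := Ideal.exists_le_maximal y.asIdeal y.2.ne_top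
      refine ⟨⟨M, hM.isPrime⟩, ⟨(PrimeSpectrum.isClosed_singleton_iff_isMaximal _).2 hM,
        (PrimeSpectrum.le_iff_specializes y _).1 hyM⟩, fun N ⟨hN, hyN⟩ => ?_⟩
      by_contra hne
      let M' : PrimeSpectrum B := ⟨M, hM.isPrime⟩
      have hcm : c N = c M' := by
        have e1 := toClosed_eq hW ((hcp N).1 hN) (hyN.map (PrimeSpectrum.continuous_comap (algebraMap A B)))
        have e2 := toClosed_eq hW ((hcp M').1 ((PrimeSpectrum.isClosed_singleton_iff_isMaximal M').2 hM))
          (((PrimeSpectrum.le_iff_specializes y M').1 hyM).map (PrimeSpectrum.continuous_comap (algebraMap A B)))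
        exact e1.symm.trans e2
      let m := (c M').asIdeal
      haveI : m.IsMaximal := (PrimeSpectrum.isClosed_singleton_iff_isMaximal (c M')).1
        ((hcp M').1 ((PrimeSpectrum.isClosed_singleton_iff_isMaximal M').2 hM))
      obtain ⟨hH, -⟩ := hs m
      let T := Localization.AtPrime m ⊗[A] B
      haveI : Algebra.QuasiFinite (Localization.AtPrime m) T := inferInstance
      let ι : B →+* T := (Algebra.TensorProduct.includeRight : B →ₐ[A] T).toRingHom
      letI : Algebra B T := Algebra.TensorProduct.rightAlgebra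
      haveI : IsLocalization (Algebra.algebraMapSubmonoid B m.primeCompl) T :=
        isLocalizedModule_iff_isLocalization.1
          ((isLocalizedModule_iff_isBaseChange m.primeCompl (Localization.AtPrime m)
            (Algebra.TensorProduct.includeRight : B →ₐ[A] T).toLinearMap).2 (TensorProduct.isBaseChange A B _))
      have hlift : ∀ Q : PrimeSpectrum B, c Q = c M' → ∃ Q' : PrimeSpectrum T,
          PrimeSpectrum.comap (algebraMap B T) Q' = Q ∧ Q'.asIdeal.IsMaximal := fun Q hQ => by
        have hd : Disjoint (Algebra.algebraMapSubmonoid B m.primeCompl : Set B) (Q.asIdeal : Set B) :=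
          Set.disjoint_left.2 fun b ⟨a, ha, hab⟩ hb => ha (by
            show a ∈ (c M').asIdeal
            rw [← hQ]
            show algebraMap A B a ∈ Q.asIdeal
            rw [hab]; exact hb)
        refine ⟨⟨_, IsLocalization.isPrime_of_isPrime_disjoint _ T _ Q.2 hd⟩,
          PrimeSpectrum.ext (IsLocalization.under_map_of_isPrime_disjoint _ T Q.2 hd), ?_⟩
        let Q' : PrimeSpectrum T := ⟨_, IsLocalization.isPrime_of_isPrime_disjoint _ T _ Q.2 hd⟩
        haveI := Q'.isPrime
        refine @Ideal.isMaximal_of_isIntegral_of_isMaximal_comap (Localization.AtPrime m) _ T _ _ _ Q'.asIdeal Q'.isPrime ?_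
        have e : Q'.asIdeal.comap (algebraMap (Localization.AtPrime m) T) =
            IsLocalRing.maximalIdeal (Localization.AtPrime m) := by
          haveI : (Q'.asIdeal.comap (algebraMap (Localization.AtPrime m) T)).IsPrime := inferInstance
          rw [← IsLocalization.map_comap m.primeCompl (Localization.AtPrime m)
            (Q'.asIdeal.comap (algebraMap (Localization.AtPrime m) T)),
            ← Localization.AtPrime.map_eq_maximalIdeal]
          congr 1
          ext a
          show algebraMap (Localization.AtPrime m) T (algebraMap A (Localization.AtPrime m) a) ∈ Q'.asIdeal ↔ a ∈ (c M').asIdeal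
          rw [show algebraMap (Localization.AtPrime m) T (algebraMap A (Localization.AtPrime m) a) =
            algebraMap B T (algebraMap A B a) by
              show (algebraMap A (Localization.AtPrime m) a) ⊗ₜ[A] (1 : B) = (1 : Localization.AtPrime m) ⊗ₜ[A] algebraMap A B a
              rw [Algebra.algebraMap_eq_smul_one, Algebra.algebraMap_eq_smul_one, TensorProduct.smul_tmul]]
          exact (Set.ext_iff.1 (congrArg (fun I : Ideal B => (I : Set B))
            (IsLocalization.under_map_of_isPrime_disjoint _ T Q.2 hd)) (algebraMap A B a)).trans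
            (SetLike.ext_iff.1 (congrArg PrimeSpectrum.asIdeal hQ) a)
        show (Q'.asIdeal.comap (algebraMap (Localization.AtPrime m) T)).IsMaximal
        rw [e]; exact IsLocalRing.maximalIdeal.isMaximal _
      obtain ⟨N', hN', hN'm⟩ := hlift N hcm
      obtain ⟨M₁, hM₁, hM₁m⟩ := hlift M' rfl
      haveI := Hensel.isArtinianRing_quotient_maximalIdeal (Localization.AtPrime m) T
      haveI : HenselianRing (Localization.AtPrime m) (IsLocalRing.maximalIdeal (Localization.AtPrime m)) :=
        Hensel.henselianRing_maximalIdeal_iff.2 hH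
      obtain ⟨-, hsep⟩ := Hensel.exists_separating_of_surjOn
        ((IsLocalRing.maximalIdeal (Localization.AtPrime m)).map (algebraMap (Localization.AtPrime m) T))
        (Hensel.map_le_jacobson_of_isIntegral (IsLocalRing.jacobson_eq_maximalIdeal ⊥ bot_ne_top).ge)
        (Hensel.surjOn_idempotent T)
      obtain ⟨e, he, heM, heN⟩ := hsep ⟨M₁.asIdeal, hM₁m⟩
      have heN' : e ∈ N'.asIdeal := heN ⟨N'.asIdeal, hN'm⟩ fun h1 => hne (by
        have : N' = M₁ := PrimeSpectrum.ext (congrArg MaximalSpectrum.asIdeal h1)
        rw [← hN', this, hM₁])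
      have hemb := PrimeSpectrum.localization_comap_isEmbedding T (Algebra.algebraMapSubmonoid B m.primeCompl)
      obtain ⟨y', hy'⟩ : y ∈ Set.range (PrimeSpectrum.comap (algebraMap B T)) := by
        rw [PrimeSpectrum.localization_comap_range T (Algebra.algebraMapSubmonoid B m.primeCompl)]
        exact Set.disjoint_left.2 fun b ⟨a, ha, hab⟩ hb => ha (by
          show algebraMap A B a ∈ M
          rw [hab]; exact hyM hb)
      have h1 : y'.asIdeal ≤ M₁.asIdeal := (PrimeSpectrum.le_iff_specializes _ _).2
        (hemb.isInducing.specializes_iff.1 (by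
          rw [hy', hM₁]; exact (PrimeSpectrum.le_iff_specializes y M').1 hyM))
      have h2 : y'.asIdeal ≤ N'.asIdeal := (PrimeSpectrum.le_iff_specializes _ _).2
        (hemb.isInducing.specializes_iff.1 (by rw [hy', hN']; exact hyN))
      rcases y'.2.mem_or_mem (show e * (1 - e) ∈ y'.asIdeal by
        rw [mul_sub, mul_one, he.eq, sub_self]; exact zero_mem _) with h0 | h0
      · exact heM (h1 h0)
      · exact N'.2.ne_top ((Ideal.eq_top_iff_one _).2 (by simpa using add_mem (h2 h0) heN'))
  refine isWContractible_iff.2 ⟨hWB, extremallyDisconnected_piZero hWB ?_, fun M _ => ?_⟩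
  · let I := PrimeSpectrum.vanishingIdeal (ProEtW.closedPoints (PrimeSpectrum A))
    have hI : PrimeSpectrum.zeroLocus (R := A) I = ProEtW.closedPoints (PrimeSpectrum A) :=
      (PrimeSpectrum.zeroLocus_vanishingIdeal_eq_closure _).trans (IsClosed.closure_eq hW.2.1)
    let R := A ⧸ I
    have hπ := Ideal.Quotient.mk_surjective (I := I)
    have hrR : Set.range (PrimeSpectrum.comap (Ideal.Quotient.mk I)) = ProEtW.closedPoints (PrimeSpectrum A) := by
      rw [range_comap_of_surjective _ _ hπ, Ideal.mk_ker, hI]
    let eR : PrimeSpectrum R ≃ₜ ProEtW.closedPoints (PrimeSpectrum A) :=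
      (PrimeSpectrum.isClosedEmbedding_comap_of_surjective R (Ideal.Quotient.mk I) hπ).isEmbedding.toHomeomorph.trans
        (Homeomorph.setCongr hrR)
    obtain ⟨_, _, _⟩ := isProfinite_closedPoints hW
    haveI : T2Space (PrimeSpectrum R) := eR.isEmbedding.t2Space
    haveI : ExtremallyDisconnected (PrimeSpectrum R) := extremallyDisconnected_of_homeo eR.symm
    have hres : ∀ p : PrimeSpectrum R, IsSepClosed p.asIdeal.ResidueField := fun p => by
      let p' := PrimeSpectrum.comap (Ideal.Quotient.mk I) p
      haveI : p'.asIdeal.IsMaximal :=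
        (PrimeSpectrum.isClosed_singleton_iff_isMaximal p').1 (hrR.le ⟨p, rfl⟩)
      obtain ⟨_, hk⟩ := hs p'.asIdeal
      haveI : IsSepClosed p'.asIdeal.ResidueField := hk
      exact isSepClosed_of_ringEquiv (RingEquiv.ofBijective _
        ((RingHom.surjectiveOnStalks_of_surjective hπ).residueFieldMap_bijective
          p'.asIdeal p.asIdeal rfl))
    let C := R ⊗[A] B
    haveI := extremallyDisconnected_of_quasiFinite R C hres
    let ι : B →+* C := (Algebra.TensorProduct.includeRight : B →ₐ[A] C).toRingHom
    have hι : Function.Surjective ι := by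
      intro z
      induction z using TensorProduct.induction_on with
      | zero => exact ⟨0, map_zero _⟩
      | tmul r b =>
        obtain ⟨a, rfl⟩ := Ideal.Quotient.mk_surjective r
        refine ⟨a • b, ?_⟩
        show (1 : R) ⊗ₜ[A] (a • b) = Ideal.Quotient.mk I a ⊗ₜ[A] b
        rw [← TensorProduct.smul_tmul, Algebra.smul_def, mul_one]; rfl
      | add x y hx hy =>
        obtain ⟨x, rfl⟩ := hx
        obtain ⟨y, rfl⟩ := hy
        exact ⟨x + y, map_add _ _ _⟩
    have hr : Set.range (PrimeSpectrum.comap ι) = ProEtW.closedPoints (PrimeSpectrum B) := by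
      rw [range_comap_of_surjective _ ι hι]
      ext q
      refine ⟨fun hq => (hcp q).2 (hI.le fun a ha => hq ?_), fun hq x hx => ?_⟩
      · show ι (algebraMap A B a) = 0
        show (1 : R) ⊗ₜ[A] algebraMap A B a = 0
        rw [Algebra.algebraMap_eq_smul_one, ← TensorProduct.smul_tmul, Algebra.smul_def, mul_one,
          show algebraMap A R a = 0 from Ideal.Quotient.eq_zero_iff_mem.2 ha, TensorProduct.zero_tmul]
      · have hIq : I ≤ q.asIdeal.comap (algebraMap A B) := hI.ge ((hcp q).1 hq)
        let g : C →ₐ[A] B ⧸ q.asIdeal := Algebra.TensorProduct.lift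
          (Ideal.Quotient.liftₐ I (Algebra.ofId A (B ⧸ q.asIdeal)) fun a ha =>
            Ideal.Quotient.eq_zero_iff_mem.2 (hIq ha))
          (Ideal.Quotient.mkₐ A q.asIdeal) fun _ _ => Commute.all _ _
        have h2 := congrArg g (show ι x = 0 from hx)
        rw [map_zero] at h2
        erw [Algebra.TensorProduct.lift_tmul] at h2
        rw [map_one, one_mul] at h2
        exact Ideal.Quotient.eq_zero_iff_mem.1 h2
    exact extremallyDisconnected_of_homeo
      ((PrimeSpectrum.isClosedEmbedding_comap_of_surjective C ι hι).isEmbedding.toHomeomorph.trans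
        (Homeomorph.setCongr hr))
  · let q : PrimeSpectrum B := ⟨M, inferInstance⟩
    let m := (c q).asIdeal
    haveI : m.IsMaximal := (PrimeSpectrum.isClosed_singleton_iff_isMaximal (c q)).1
      ((hcp q).1 ((PrimeSpectrum.isClosed_singleton_iff_isMaximal q).2 ‹_›))
    obtain ⟨hH, hk⟩ := hs m
    haveI : M.LiesOver m := ⟨rfl⟩
    let Am := Localization.AtPrime m
    let T := Am ⊗[A] B
    letI : Algebra B T := Algebra.TensorProduct.rightAlgebra
    haveI : IsLocalization (Algebra.algebraMapSubmonoid B m.primeCompl) T :=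
      isLocalizedModule_iff_isLocalization.1
        ((isLocalizedModule_iff_isBaseChange m.primeCompl Am
          (Algebra.TensorProduct.includeRight : B →ₐ[A] T).toLinearMap).2 (TensorProduct.isBaseChange A B _))
    have hd : Disjoint (Algebra.algebraMapSubmonoid B m.primeCompl : Set B) (M : Set B) :=
      Set.disjoint_left.2 fun b ⟨a, ha, hab⟩ hb => ha (by
        show algebraMap A B a ∈ M
        rw [hab]; exact hb)
    let Q := M.map (algebraMap B T)
    haveI : Q.IsPrime := IsLocalization.isPrime_of_isPrime_disjoint _ T _ inferInstance hd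
    have hQM : Q.comap (algebraMap B T) = M :=
      IsLocalization.under_map_of_isPrime_disjoint _ T inferInstance hd
    have hQm : Q.comap (algebraMap Am T) = IsLocalRing.maximalIdeal Am := by
      rw [← IsLocalization.map_comap m.primeCompl Am (Q.comap (algebraMap Am T)),
        ← Localization.AtPrime.map_eq_maximalIdeal]
      congr 1
      ext a
      show algebraMap Am T (algebraMap A Am a) ∈ Q ↔ algebraMap A B a ∈ M
      rw [show algebraMap Am T (algebraMap A Am a) = algebraMap B T (algebraMap A B a) by
            show (algebraMap A Am a) ⊗ₜ[A] (1 : B) = (1 : Am) ⊗ₜ[A] algebraMap A B a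
            rw [Algebra.algebraMap_eq_smul_one, Algebra.algebraMap_eq_smul_one, TensorProduct.smul_tmul],
        ← Ideal.mem_comap, hQM]
    haveI : Algebra.FiniteType Am T := inferInstance
    haveI : Algebra.QuasiFiniteAt Am Q := inferInstance
    haveI := Hensel.finite_localization (R := Am) Q hQm
    have hT : EtCoh.IsStrictlyHenselianLocalRing (Localization.AtPrime Q) :=
      isStrictlyHenselian_of_finite Am ⟨hH, hk⟩ _
    have hid := (idAt_iff_bijective (A := B) (B := T) ⟨Q, inferInstance⟩).2
      (idAt_of_isLocalization (Algebra.algebraMapSubmonoid B m.primeCompl) ⟨Q, inferInstance⟩)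
    have hbij : ∀ (p : Ideal B) [p.IsPrime] (hp : p = Q.comap (algebraMap B T)),
        Function.Bijective (Localization.localRingHom p Q (algebraMap B T) hp) := by
      intro p _ hp
      subst hp
      exact hid
    exact isStrictlyHenselian_of_ringEquiv (RingEquiv.ofBijective _ (hbij M hQM.symm)).symm hT

end Groth.Agent.WLocalLib
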