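import Groth.Agent.WLocalLib.WeakEtale
import Groth.Agent.S0426Lib
import Groth.Agent.Hensel.Idempotent
import Groth.Prelude.Def_EtBase
import Mathlib

/-!
Olivier's theorem: a weakly étale local homomorphism out of a strictly henselian local ring is
bijective.
-/

set_option autoImplicit false

open scoped TensorProduct
open IsLocalRing

universe u

namespace Groth.Agent.WLocalLib

theorem lmul'_bijective_of_compatibleSMul {A B : Type u} [CommRing A] [CommRing B] [Algebra A B]
    [TensorProduct.CompatibleSMul A B B B] :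
    Function.Bijective (Algebra.TensorProduct.lmul' A (S := B)) := by
  refine ⟨(injective_iff_map_eq_zero _).2 fun z hz => ?_, fun b => ⟨b ⊗ₜ 1, by simp⟩⟩
  suffices h : z = Algebra.TensorProduct.lmul' A (S := B) z ⊗ₜ 1 by
    rw [h, hz, TensorProduct.zero_tmul]
  clear hz
  induction z using TensorProduct.induction_on with
  | zero => simp
  | tmul x y =>
    rw [Algebra.TensorProduct.lmul'_apply_tmul, mul_comm, ← smul_eq_mul y x, TensorProduct.smul_tmul,
      smul_eq_mul, mul_one]
  | add x y hx hy =>
    rw [map_add, TensorProduct.add_tmul, ← hx, ← hy]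

theorem weaklyEtale_of_isLocalization {B B' : Type u} [CommRing B] [CommRing B'] [Algebra B B']
    (S : Submonoid B) [IsLocalization S B'] : Algebra.WeaklyEtale B B' := by
  haveI := IsLocalization.flat B' S
  haveI : TensorProduct.CompatibleSMul B B' B' B' := IsLocalization.tensorProduct_compatibleSMul S B' B' B'
  exact ⟨inferInstance, RingHom.Flat.of_bijective lmul'_bijective_of_compatibleSMul⟩

theorem weaklyEtale_of_isLocalization_base {A A' B : Type u} [CommRing A] [CommRing A'] [CommRing B]
    [Algebra A A'] [Algebra A B] [Algebra A' B] [IsScalarTower A A' B]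
    (S : Submonoid A) [IsLocalization S A'] [Algebra.WeaklyEtale A B] : Algebra.WeaklyEtale A' B := by
  haveI : TensorProduct.CompatibleSMul A A' B B := IsLocalization.tensorProduct_compatibleSMul S A' B B
  haveI : Module.Flat A' B := (Module.flat_iff_of_isLocalization A' S B).2 inferInstance
  let e := Algebra.TensorProduct.equivOfCompatibleSMul A A' A B B
  have h : (Algebra.TensorProduct.lmul' A' (S := B)).toRingHom =
      (Algebra.TensorProduct.lmul' A (S := B)).toRingHom.comp e.toAlgHom.toRingHom := by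
    refine RingHom.ext fun z => ?_
    show Algebra.TensorProduct.lmul' A' (S := B) z = Algebra.TensorProduct.lmul' A (S := B) (e z)
    induction z using TensorProduct.induction_on with
    | zero => simp
    | tmul x y => simp [e, Algebra.TensorProduct.equivOfCompatibleSMul]
    | add x y hx hy => simp only [map_add, hx, hy]
  refine ⟨inferInstance, ?_⟩
  show (Algebra.TensorProduct.lmul' A' (S := B)).toRingHom.Flat
  rw [h]
  exact RingHom.Flat.comp (RingHom.Flat.of_bijective e.bijective) (Algebra.WeaklyEtale.flat_lmul' A B)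

theorem isField_of_weaklyEtale_field {k C : Type u} [Field k] [CommRing C] [IsLocalRing C]
    [Algebra k C] [Algebra.WeaklyEtale k C] : IsField C := by
  refine ⟨exists_pair_ne _, mul_comm, fun {x} hx => isUnit_iff_exists_inv.1 ?_⟩
  by_contra hu
  apply hx
  have hflat : Module.Flat C (C ⧸ Ideal.span {x}) := flat_of_weaklyEtale (A := k) _
  obtain ⟨s, hs, hsx⟩ := exists_kill (φ := algebraMap C (C ⧸ Ideal.span {x}))
    ((RingHom.flat_algebraMap_iff).2 hflat) Ideal.Quotient.mk_surjective x
    (Ideal.Quotient.eq_zero_iff_mem.2 (Ideal.mem_span_singleton_self _))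
  obtain ⟨c, hc⟩ := Ideal.mem_span_singleton'.1 (Ideal.Quotient.eq.1 (hs.trans (map_one _).symm))
  refine ((IsUnit.mul_right_eq_zero ?_).1 hsx)
  by_contra hsu
  refine (maximalIdeal.isMaximal C).ne_top ((Ideal.eq_top_iff_one _).2 ?_)
  rw [show (1 : C) = s - c * x by linear_combination hc]
  exact sub_mem hsu (Ideal.mul_mem_left _ _ hu)

theorem algebraMap_bijective_of_isSepClosed {k C : Type u} [Field k] [IsSepClosed k] [CommRing C]
    [IsLocalRing C] [Algebra k C] [Algebra.WeaklyEtale k C] :
    Function.Bijective (algebraMap k C) := by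
  letI : Field C := (isField_of_weaklyEtale_field (k := k)).toField
  haveI : Algebra.IsSeparable k C := ⟨Groth.Agent.S0426Aux.isSeparable⟩
  exact ⟨(algebraMap k C).injective, IsSepClosed.algebraMap_surjective k C⟩

theorem isSepClosed_residueField_valuationSubring {K : Type u} [Field K] [IsAlgClosed K]
    (V : ValuationSubring K) : IsSepClosed (ResidueField V) := by
  refine IsSepClosed.of_exists_root _ fun p hmonic hirr _ => ?_
  have hl : p ∈ Polynomial.lifts (residue V) :=
    (Polynomial.lifts_iff_coeff_lifts p).2 fun n => residue_surjective _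
  obtain ⟨q, hqp, hqd, hqm⟩ := Polynomial.lifts_and_degree_eq_and_monic hl hmonic
  obtain ⟨x, hx⟩ := IsAlgClosed.exists_aeval_eq_zero K q (hqd.trans_ne (Polynomial.degree_pos_of_irreducible hirr).ne')
  obtain ⟨v, rfl⟩ := IsIntegrallyClosed.isIntegral_iff.1 (show IsIntegral V x from ⟨q, hqm, hx⟩)
  refine ⟨residue V v, ?_⟩
  rw [Polynomial.aeval_algebraMap_apply, map_eq_zero_iff _ (IsFractionRing.injective V K)] at hx
  rw [← hqp, Polynomial.eval_map, Polynomial.eval₂_at_apply]
  rw [Polynomial.coe_aeval_eq_eval] at hx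
  rw [hx, map_zero]

theorem isIdempotent_eq_of_weaklyEtale_valuation {K : Type u} [Field K] [IsAlgClosed K]
    (V : ValuationSubring K) {D : Type u} [CommRing D] [IsLocalRing D] [Algebra V D]
    [IsLocalHom (algebraMap V D)] [Algebra.WeaklyEtale V D] {s : V} (hs : s ≠ 0) {b : D}
    (hb : b * b = algebraMap V D s * b) : b = 0 ∨ b = algebraMap V D s := by
  let G := K ⊗[V] D
  let ι : D →ₐ[V] G := Algebra.TensorProduct.includeRight
  have hι : Function.Injective ι :=
    Algebra.TensorProduct.includeRight_injective (IsFractionRing.injective V K)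
  haveI := isSepClosed_residueField_valuationSubring V
  let k := ResidueField V
  let F := k ⊗[V] D
  have hVm : (maximalIdeal V).map (algebraMap V D) ≤ maximalIdeal D :=
    Ideal.map_le_iff_le_comap.2 fun v hv hu => hv (isUnit_of_map_unit (algebraMap V D) v hu)
  haveI : IsLocalRing F := by
    have hsurj : Function.Surjective (Algebra.TensorProduct.includeRight : D →ₐ[V] F) := by
      intro z
      induction z using TensorProduct.induction_on with
      | zero => exact ⟨0, map_zero _⟩
      | tmul c d =>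
        obtain ⟨v, rfl⟩ := residue_surjective c
        refine ⟨v • d, ?_⟩
        show (1 : k) ⊗ₜ (v • d) = residue V v ⊗ₜ d
        rw [← TensorProduct.smul_tmul, Algebra.smul_def, mul_one]; rfl
      | add x y hx hy =>
        obtain ⟨x, rfl⟩ := hx
        obtain ⟨y, rfl⟩ := hy
        exact ⟨x + y, map_add _ _ _⟩
    let g : F →ₐ[V] ResidueField D := Algebra.TensorProduct.lift
      (IsScalarTower.toAlgHom V k (ResidueField D)) (IsScalarTower.toAlgHom V D (ResidueField D))
      fun _ _ => Commute.all _ _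
    haveI : Nontrivial F := g.toRingHom.domain_nontrivial
    exact IsLocalRing.of_surjective' (Algebra.TensorProduct.includeRight : D →ₐ[V] F).toRingHom hsurj
  have hres : ∀ d : D, ∃ v : V, d - algebraMap V D v ∈ (maximalIdeal V).map (algebraMap V D) := by
    intro d
    obtain ⟨c, hc⟩ := (algebraMap_bijective_of_isSepClosed (k := k) (C := F)).2
      (Algebra.TensorProduct.includeRight d)
    obtain ⟨v, rfl⟩ := residue_surjective c
    refine ⟨v, ?_⟩
    let q : F →ₐ[V] D ⧸ (maximalIdeal V).map (algebraMap V D) := Algebra.TensorProduct.lift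
      (Ideal.quotientMapₐ _ (Algebra.ofId V D) Ideal.le_comap_map)
      (Ideal.Quotient.mkₐ V _) fun _ _ => Commute.all _ _
    have h2 := congrArg q hc
    rw [Algebra.TensorProduct.algebraMap_apply, Algebra.TensorProduct.includeRight_apply,
      Algebra.TensorProduct.lift_tmul, Algebra.TensorProduct.lift_tmul, map_one, map_one,
      mul_one, one_mul] at h2
    exact (Ideal.Quotient.eq.1 h2.symm)
  have hhom : ∀ (Q : Ideal G) [Q.IsPrime], ∃ φ : G →ₐ[K] K, ∀ z, z ∈ Q → φ z = 0 := by
    intro Q _
    haveI : Algebra.WeaklyEtale G (Localization.AtPrime Q) := weaklyEtale_of_isLocalization Q.primeCompl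
    haveI : Algebra.WeaklyEtale K (Localization.AtPrime Q) := Algebra.WeaklyEtale.trans K G _
    let e : K ≃ₐ[K] Localization.AtPrime Q :=
      AlgEquiv.ofBijective (Algebra.ofId K _) algebraMap_bijective_of_isSepClosed
    refine ⟨e.symm.toAlgHom.comp (IsScalarTower.toAlgHom K G _), fun z hz => ?_⟩
    by_contra hne
    have hu : IsUnit (algebraMap G (Localization.AtPrime Q) z) := by
      have h1 := (IsUnit.mk0 _ hne).map e
      rwa [show e ((e.symm.toAlgHom.comp (IsScalarTower.toAlgHom K G (Localization.AtPrime Q))) z) =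
        algebraMap G (Localization.AtPrime Q) z from e.apply_symm_apply _] at h1
    exact (IsLocalization.AtPrime.isUnit_to_map_iff (Localization.AtPrime Q) Q z).1 hu hz
  have hval : ∀ (φ : G →ₐ[K] K) (d : D), φ (ι d) ∈ V := by
    intro φ d
    by_contra hV
    let w : V := ⟨(φ (ι d))⁻¹, (V.mem_or_inv_mem _).resolve_left hV⟩
    have hne : φ (ι d) ≠ 0 := fun h => hV (h ▸ V.zero_mem)
    have hw : w ∈ maximalIdeal V := by
      intro hu
      obtain ⟨w', hw'⟩ := hu.exists_left_inv
      apply hV
      have : (w' : K) * (φ (ι d))⁻¹ = 1 := congrArg Subtype.val hw'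
      rw [← ((mul_inv_eq_one₀ hne).1 this)]
      exact w'.2
    have h0 : φ (ι (algebraMap V D w * d - 1)) = 0 := by
      rw [map_sub, map_mul, map_one, map_sub, map_mul, map_one, AlgHom.commutes,
        IsScalarTower.algebraMap_apply V K G, AlgHom.commutes]
      show (φ (ι d))⁻¹ * φ (ι d) - 1 = 0
      rw [inv_mul_cancel₀ hne, sub_self]
    have hnu : ¬ IsUnit (algebraMap V D w * d - 1) := fun hu => by
      have := ((hu.map ι).map φ); rw [h0] at this; exact not_isUnit_zero this
    refine (maximalIdeal.isMaximal D).ne_top ((Ideal.eq_top_iff_one _).2 ?_)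
    have h1 : algebraMap V D w * d ∈ maximalIdeal D :=
      Ideal.mul_mem_right _ _ (hVm (Ideal.mem_map_of_mem _ hw))
    simpa using sub_mem h1 hnu
  let toV : (G →ₐ[K] K) → (D →ₐ[V] V) := fun φ =>
    { toFun := fun d => ⟨φ (ι d), hval φ d⟩
      map_one' := Subtype.ext (by simp)
      map_mul' := fun _ _ => Subtype.ext (by simp)
      map_zero' := Subtype.ext (by simp)
      map_add' := fun _ _ => Subtype.ext (by simp)
      commutes' := fun v => Subtype.ext (by
        show φ (ι (algebraMap V D v)) = v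
        rw [AlgHom.commutes, IsScalarTower.algebraMap_apply V K G, AlgHom.commutes]; rfl) }
  have heq : ∀ φ φ' : G →ₐ[K] K, ∀ d, φ (ι d) = φ' (ι d) := by
    intro φ φ' d
    let ψ : D ⊗[V] D →ₐ[V] V := Algebra.TensorProduct.lift (toV φ) (toV φ') fun _ _ => Commute.all _ _
    have hm : ∀ (χ : G →ₐ[K] K) (x : D), x ∈ (maximalIdeal V).map (algebraMap V D) →
        residue V (toV χ x) = 0 := fun χ x hx => by
      refine (residue_eq_zero_iff _).2 ?_
      have : (maximalIdeal V).map (algebraMap V D) ≤ (maximalIdeal V).comap (toV χ).toRingHom :=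
        Ideal.map_le_iff_le_comap.2 fun v hv => by
          show toV χ (algebraMap V D v) ∈ maximalIdeal V
          rw [AlgHom.commutes]; exact hv
      exact this hx
    have hsame : ∀ x : D, residue V (toV φ x) = residue V (toV φ' x) := fun x => by
      obtain ⟨v, hv⟩ := hres x
      have e1 := hm φ _ hv
      have e2 := hm φ' _ hv
      rw [map_sub, AlgHom.commutes, map_sub, sub_eq_zero] at e1 e2
      rw [e1, e2]
    have hψ : ∀ z, residue V (ψ z) = residue V (toV φ (Algebra.TensorProduct.lmul' V (S := D) z)) := by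
      intro z
      induction z using TensorProduct.induction_on with
      | zero => simp
      | tmul x y => simp [ψ, hsame y]
      | add x y hx hy => simp only [map_add, hx, hy]
    obtain ⟨s₀, hs₀, hsa⟩ := exists_kill (Algebra.WeaklyEtale.flat_lmul' V D)
      (fun x => ⟨x ⊗ₜ 1, by simp⟩) (d ⊗ₜ[V] 1 - 1 ⊗ₜ[V] d) (by simp)
    have hu : IsUnit (ψ s₀) := by
      refine (IsLocalRing.residue_ne_zero_iff_isUnit _).1 ?_
      rw [hψ, show Algebra.TensorProduct.lmul' V (S := D) s₀ = 1 from hs₀, map_one, map_one]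
      exact one_ne_zero
    have h2 := congrArg ψ hsa
    rw [map_mul, map_zero, hu.mul_right_eq_zero, map_sub, sub_eq_zero] at h2
    simp only [ψ, Algebra.TensorProduct.lift_tmul, map_one, mul_one, one_mul] at h2
    exact congrArg Subtype.val h2
  by_contra hne
  push Not at hne
  have hs' : (algebraMap V K s) ≠ 0 := (map_ne_zero_iff _ (IsFractionRing.injective V K)).2 hs
  let e : G := algebraMap K G (algebraMap V K s)⁻¹ * ι b
  have hse : algebraMap K G (algebraMap V K s) * e = ι b := by
    rw [← mul_assoc, ← map_mul, mul_inv_cancel₀ hs', map_one, one_mul]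
  have hιs : ι (algebraMap V D s) = algebraMap K G (algebraMap V K s) := by
    rw [AlgHom.commutes, IsScalarTower.algebraMap_apply V K G]
  have he : e * e = e := by
    rw [show e * e = algebraMap K G ((algebraMap V K s)⁻¹ * (algebraMap V K s)⁻¹) * ι (b * b) by
      rw [map_mul, map_mul]; ring, hb, map_mul ι, hιs, ← mul_assoc, ← map_mul, mul_assoc,
      inv_mul_cancel₀ hs', mul_one]
  have hnu : ∀ x : G, x * (1 - x) = 0 → x ≠ 0 → ¬ IsUnit (1 - x) := fun x hx hx0 hu =>
    hx0 (hu.mul_left_eq_zero.1 hx)
  have h1 : ¬ IsUnit e := fun hu => hne.2 (hι (by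
    rw [hιs, ← hse, show e = 1 from hu.mul_left_cancel (he.trans (mul_one e).symm), mul_one]))
  have h2 : ¬ IsUnit (1 - e) := hnu e (by rw [mul_sub, mul_one, he, sub_self]) fun h =>
    hne.1 (hι (by rw [map_zero, ← hse, h, mul_zero]))
  obtain ⟨Q₁, hQ₁, heQ₁⟩ := exists_max_ideal_of_mem_nonunits h1
  obtain ⟨Q₂, hQ₂, heQ₂⟩ := exists_max_ideal_of_mem_nonunits h2
  haveI := hQ₁.isPrime
  haveI := hQ₂.isPrime
  obtain ⟨φ₁, hφ₁⟩ := hhom Q₁
  obtain ⟨φ₂, hφ₂⟩ := hhom Q₂
  have e1 : φ₁ (ι b) = 0 := by rw [← hse, map_mul, hφ₁ e heQ₁, mul_zero]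
  have e2 : φ₂ (ι b) = algebraMap V K s := by
    have : φ₂ e = 1 := by
      have := hφ₂ _ heQ₂
      rw [map_sub, map_one, sub_eq_zero] at this
      exact this.symm
    rw [← hse, map_mul, AlgHom.commutes, this, mul_one]
    rfl
  exact hs' (e2.symm.trans ((heq φ₂ φ₁ b).trans e1))

theorem mem_map_inf_of_flat {R C : Type u} [CommRing R] [CommRing C] [Algebra R C] [Module.Flat R C]
    {I J : Ideal R} {b : C} (hI : b ∈ I.map (algebraMap R C)) (hJ : b ∈ J.map (algebraMap R C)) :
    b ∈ (I ⊓ J).map (algebraMap R C) := by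
  let ψ : (R ⧸ I ⊓ J) →ₗ[R] (R ⧸ I) × (R ⧸ J) :=
    (Submodule.mapQ (I ⊓ J) I LinearMap.id inf_le_left).prod
      (Submodule.mapQ (I ⊓ J) J LinearMap.id inf_le_right)
  have hψ : Function.Injective ψ := by
    rw [injective_iff_map_eq_zero]
    intro z hz
    obtain ⟨r, rfl⟩ := Submodule.Quotient.mk_surjective _ z
    have h1 := (Submodule.Quotient.mk_eq_zero I).1 (congrArg Prod.fst hz)
    have h2 := (Submodule.Quotient.mk_eq_zero J).1 (congrArg Prod.snd hz)
    exact (Submodule.Quotient.mk_eq_zero _).2 ⟨h1, h2⟩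
  have hiff : ∀ L : Ideal R, b ∈ L.map (algebraMap R C) ↔
      ((Submodule.Quotient.mk 1 : R ⧸ L) ⊗ₜ[R] b) = 0 := fun L => by
    rw [← (TensorProduct.quotTensorEquivQuotSMul C L).map_eq_zero_iff]
    erw [TensorProduct.quotTensorEquivQuotSMul_mk_tmul]
    rw [one_smul, Submodule.Quotient.mk_eq_zero, Ideal.smul_top_eq_map]
    rfl
  refine (hiff _).2 (Module.Flat.rTensor_preserves_injective_linearMap (M := C) ψ hψ ?_)
  rw [map_zero, LinearMap.rTensor_tmul]
  apply (TensorProduct.prodLeft R R (R ⧸ I) (R ⧸ J) C).injective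
  rw [map_zero, TensorProduct.prodLeft_tmul]
  exact Prod.ext ((hiff I).1 hI) ((hiff J).1 hJ)

/-- An idempotent of the generic fibre of a local weakly étale algebra over a normal domain with
algebraically closed fraction field is trivial. -/
theorem idempotent_eq_of_weaklyEtale_normal {R K : Type u} [CommRing R] [Field K] [IsAlgClosed K]
    [Algebra R K] (hR : Function.Injective (algebraMap R K)) [IsIntegrallyClosedIn R K]
    (hfrac : ∀ x : K, ∃ a s : R, s ≠ 0 ∧ algebraMap R K s * x = algebraMap R K a)
    {C : Type u} [CommRing C] [IsLocalRing C] [Algebra R C] [Algebra.WeaklyEtale R C]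
    {e : K ⊗[R] C} (he : e * e = e) : e = 0 ∨ e = 1 := by
  classical
  haveI : IsDomain R := hR.isDomain
  let ι : C →ₐ[R] K ⊗[R] C := Algebra.TensorProduct.includeRight
  have hι : Function.Injective ι := Algebra.TensorProduct.includeRight_injective hR
  have hden : ∀ z : K ⊗[R] C, ∃ (s : R) (b : C), s ≠ 0 ∧ algebraMap R _ s * z = ι b := by
    intro z
    induction z using TensorProduct.induction_on with
    | zero => exact ⟨1, 0, one_ne_zero, by simp⟩
    | tmul x c =>
      obtain ⟨a, s, hs, hsx⟩ := hfrac x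
      refine ⟨s, a • c, hs, ?_⟩
      show algebraMap R (K ⊗[R] C) s * (x ⊗ₜ c) = (1 : K) ⊗ₜ (a • c)
      rw [Algebra.TensorProduct.algebraMap_apply, Algebra.TensorProduct.tmul_mul_tmul, one_mul, hsx,
        ← TensorProduct.smul_tmul, Algebra.smul_def, mul_one]
    | add x y hx hy =>
      obtain ⟨s, b, hs, hb⟩ := hx
      obtain ⟨s', b', hs', hb'⟩ := hy
      refine ⟨s * s', s' • b + s • b', mul_ne_zero hs hs', ?_⟩
      rw [map_add ι, map_smul ι, map_smul ι, Algebra.smul_def, Algebra.smul_def, map_mul, ← hb, ← hb']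
      ring
  obtain ⟨s, b, hs, hsb⟩ := hden e
  have hsu : IsUnit (algebraMap R (K ⊗[R] C) s) := by
    rw [IsScalarTower.algebraMap_apply R K (K ⊗[R] C)]
    exact (IsUnit.mk0 _ ((map_ne_zero_iff _ hR).2 hs)).map _
  have hbb : b * b = algebraMap R C s * b := hι (by
    rw [map_mul, map_mul, AlgHom.commutes, ← hsb,
      show algebraMap R (K ⊗[R] C) s * e * (algebraMap R _ s * e) =
        algebraMap R _ s * (algebraMap R _ s * (e * e)) by ring, he])
  suffices hmain : b ∈ Ideal.span {algebraMap R C s} by
    obtain ⟨c, hc⟩ := Ideal.mem_span_singleton'.1 hmain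
    have hec : e = ι c := hsu.mul_left_cancel (by
      rw [hsb, ← hc, map_mul, AlgHom.commutes, mul_comm])
    have hcc : c * c = c := hι (by rw [map_mul, ← hec, he])
    by_cases hu : IsUnit c
    · exact Or.inr (by rw [hec, show c = 1 from hu.mul_left_cancel (hcc.trans (mul_one c).symm), map_one])
    · have h1 : IsUnit (1 - c) := (IsLocalRing.isUnit_or_isUnit_one_sub_self c).resolve_left hu
      have h0 : c = 0 := h1.mul_left_eq_zero.1 (by rw [mul_sub, mul_one, hcc, sub_self])
      exact Or.inl (by rw [hec, h0, map_zero])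
  by_contra hbs
  let 𝔄 : Type u := {J : Ideal R // b ∈ J.map (algebraMap R C)}
  have htop : b ∈ (⊤ : Ideal R).map (algebraMap R C) := by rw [Ideal.map_top]; exact Submodule.mem_top
  have hout : ∀ J : 𝔄, ∃ c ∈ J.1, ∀ r : R, r * s ≠ c := fun J => by
    by_contra! H
    refine hbs ((Ideal.map_le_iff_le_comap.2 fun c hc => ?_) J.2)
    obtain ⟨r, rfl⟩ := H c hc
    rw [Ideal.mem_comap, map_mul]
    exact Ideal.mul_mem_left _ _ (Ideal.mem_span_singleton_self _)
  choose c hcJ hcs using hout
  have hV : ∀ J : 𝔄, ∃ V : ValuationSubring K, (∀ r, algebraMap R K r ∈ V) ∧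
      algebraMap R K (c J) / algebraMap R K s ∉ V := fun J => by
    haveI : IsIntegrallyClosedIn (algebraMap R K).range K := by
      rw [Subring.isIntegrallyClosedIn_iff]
      intro x hx
      obtain ⟨p, hp, hpx⟩ := hx
      obtain ⟨q, hq, -, hqm⟩ := Polynomial.lifts_and_degree_eq_and_monic
        (f := (algebraMap R K).rangeRestrict)
        ((Polynomial.lifts_iff_coeff_lifts p).2 fun n => (algebraMap R K).rangeRestrict_surjective _) hp
      obtain ⟨r, hr⟩ := IsIntegrallyClosedIn.isIntegral_iff.1 (show IsIntegral R x from ⟨q, hqm, by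
        rw [← hq, Polynomial.eval₂_map] at hpx
        exact hpx⟩)
      exact ⟨r, hr⟩
    obtain ⟨V, hV1, hV2⟩ := Subring.exists_le_valuationSubring_of_isIntegrallyClosedIn
      (R := (algebraMap R K).range) (x := algebraMap R K (c J) / algebraMap R K s) (by
        rintro ⟨r, hr⟩
        rw [eq_div_iff ((map_ne_zero_iff _ hR).2 hs), ← map_mul] at hr
        exact hcs J r (hR hr))
    exact ⟨V, fun r => hV1 ⟨r, rfl⟩, hV2⟩
  choose V hRV hVc using hV
  haveI : Module.Flat R C := inferInstance
  let Fset : 𝔄 → Set 𝔄 := fun J => {J' | J'.1 ≤ J.1}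
  haveI : Nonempty 𝔄 := ⟨⟨⊤, htop⟩⟩
  have hdir : Directed (· ≥ ·) (fun J : 𝔄 => Filter.principal (Fset J)) := fun J J' => by
    have hmeet : b ∈ (J.1 ⊓ J'.1).map (algebraMap R C) := mem_map_inf_of_flat J.2 J'.2
    exact ⟨⟨J.1 ⊓ J'.1, hmeet⟩, Filter.principal_mono.2 fun J'' (h : J''.1 ≤ J.1 ⊓ J'.1) => (h.trans inf_le_left : J''.1 ≤ J.1),
      Filter.principal_mono.2 fun J'' (h : J''.1 ≤ J.1 ⊓ J'.1) => (h.trans inf_le_right : J''.1 ≤ J'.1)⟩
  haveI : (⨅ J : 𝔄, Filter.principal (Fset J)).NeBot := Filter.iInf_neBot_of_directed' hdir fun J =>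
    Filter.principal_neBot_iff.2 ⟨J, le_refl J.1⟩
  let U : Ultrafilter 𝔄 := Ultrafilter.of (⨅ J : 𝔄, Filter.principal (Fset J))
  have hU : ∀ J, Fset J ∈ U := fun J =>
    Ultrafilter.of_le _ (Filter.mem_iInf_of_mem J (Filter.mem_principal_self _))
  let W : ValuationSubring K :=
    { carrier := {x | {J | x ∈ V J} ∈ U}
      mul_mem' := fun hx hy => Filter.mem_of_superset (Filter.inter_mem hx hy) fun J h =>
        (V J).mul_mem _ _ h.1 h.2
      one_mem' := Filter.mem_of_superset Filter.univ_mem fun J _ => (V J).one_mem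
      add_mem' := fun hx hy => Filter.mem_of_superset (Filter.inter_mem hx hy) fun J h =>
        (V J).add_mem _ _ h.1 h.2
      zero_mem' := Filter.mem_of_superset Filter.univ_mem fun J _ => (V J).zero_mem
      neg_mem' := fun hx => Filter.mem_of_superset hx fun J h => (V J).neg_mem _ h
      mem_or_inv_mem' := fun x => Ultrafilter.union_mem_iff.1
        (Filter.mem_of_superset Filter.univ_mem fun J _ => (V J).mem_or_inv_mem x) }
  have hRW : ∀ r, algebraMap R K r ∈ W := fun r =>
    Filter.mem_of_superset Filter.univ_mem fun J _ => hRV J r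
  -- the element `b` is divisible by `s` after base change to `W`
  let f : R →+* W := (algebraMap R K).codRestrict W.toSubring hRW
  letI : Algebra R W := f.toAlgebra
  haveI : IsScalarTower R W K := IsScalarTower.of_algebraMap_eq fun r => rfl
  have hWs : algebraMap R W s ≠ 0 := fun h => hs (hR ((congrArg Subtype.val h).trans (map_zero _).symm))
  let D := W ⊗[R] C
  have hbD : ((1 : W) ⊗ₜ[R] b : D) ∈ Ideal.span {algebraMap W D (algebraMap R W s)} := by
    by_contra hnot
    let J : Ideal D := (Ideal.span {algebraMap W D (algebraMap R W s)}).colon {(1 : W) ⊗ₜ[R] b}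
    obtain ⟨M, hM, hJM⟩ := Ideal.exists_le_maximal J fun h => hnot (by
      have h1 : (1 : D) ∈ J := h ▸ Submodule.mem_top
      simpa [J, Submodule.mem_colon_singleton] using h1)
    let P := M.comap (algebraMap W D)
    let W' := W.ofPrime P
    let D' := Localization.AtPrime M
    have hunit : ∀ y : P.primeCompl, IsUnit (algebraMap W D' y) := fun y => by
      rw [IsScalarTower.algebraMap_apply W D D']
      exact IsLocalization.map_units D' (⟨algebraMap W D y, y.2⟩ : M.primeCompl)
    letI : Algebra W' D' := (IsLocalization.lift (M := P.primeCompl) hunit).toAlgebra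
    haveI : IsScalarTower W W' D' := IsScalarTower.of_algebraMap_eq fun x =>
      (IsLocalization.lift_eq hunit x).symm
    haveI : Algebra.WeaklyEtale D D' := weaklyEtale_of_isLocalization M.primeCompl
    haveI : Algebra.WeaklyEtale W D' := Algebra.WeaklyEtale.trans W D D'
    haveI : Algebra.WeaklyEtale W' D' := weaklyEtale_of_isLocalization_base P.primeCompl
    haveI : IsLocalHom (algebraMap W' D') := ⟨fun z hz => by
      obtain ⟨x, y, rfl⟩ := IsLocalization.exists_mk'_eq P.primeCompl z
      refine (IsLocalization.AtPrime.isUnit_mk'_iff W' P x y).2 fun hx => ?_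
      have h1 := hz.mul (IsLocalization.map_units W' y |>.map (algebraMap W' D'))
      rw [← map_mul, IsLocalization.mk'_spec, ← IsScalarTower.algebraMap_apply,
        IsScalarTower.algebraMap_apply W D D', IsLocalization.AtPrime.isUnit_to_map_iff D' M] at h1
      exact h1 hx⟩
    have hne : algebraMap W W' (algebraMap R W s) ≠ 0 :=
      (map_ne_zero_iff _ (IsLocalization.injective W' P.primeCompl_le_nonZeroDivisors)).2 hWs
    have hb' : algebraMap D D' ((1 : W) ⊗ₜ[R] b) * algebraMap D D' ((1 : W) ⊗ₜ[R] b) =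
        algebraMap W' D' (algebraMap W W' (algebraMap R W s)) * algebraMap D D' ((1 : W) ⊗ₜ[R] b) := by
      rw [← IsScalarTower.algebraMap_apply, IsScalarTower.algebraMap_apply W D D', ← map_mul, ← map_mul]
      congr 1
      rw [Algebra.TensorProduct.algebraMap_apply, Algebra.TensorProduct.tmul_mul_tmul,
        Algebra.TensorProduct.tmul_mul_tmul, one_mul, mul_one, hbb, ← Algebra.smul_def,
        ← TensorProduct.smul_tmul, Algebra.smul_def, mul_one]
      simp
    have hmem : ∀ x : D, algebraMap D D' ((1 : W) ⊗ₜ[R] b) = algebraMap D D' x →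
        x ∈ Ideal.span {algebraMap W D (algebraMap R W s)} → False := fun x hx hxs => by
      obtain ⟨u, hu⟩ := (IsLocalization.eq_iff_exists M.primeCompl D').1 hx
      refine u.2 (hJM ?_)
      rw [Submodule.mem_colon_singleton, smul_eq_mul, hu]
      exact Ideal.mul_mem_left _ _ hxs
    rcases isIdempotent_eq_of_weaklyEtale_valuation W' (D := D') hne hb' with h0 | h0
    · exact hmem 0 (by rw [h0, map_zero]) (zero_mem _)
    · refine hmem (algebraMap W D (algebraMap R W s)) ?_ (Ideal.mem_span_singleton_self _)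
      rw [h0, ← IsScalarTower.algebraMap_apply, ← IsScalarTower.algebraMap_apply W D D']
  -- descend to an ideal
  obtain ⟨y, hy⟩ := Ideal.mem_span_singleton'.1 hbD
  let J₀ : Ideal R := (Ideal.span {algebraMap R W s}).comap (algebraMap R W)
  have hJ₀ : b ∈ J₀.map (algebraMap R C) := by
    let j : (R ⧸ J₀) →ₐ[R] W ⧸ Ideal.span {algebraMap R W s} :=
      Ideal.quotientMapₐ _ (Algebra.ofId R W) le_rfl
    have hj : Function.Injective j := Ideal.quotientMap_injective' (H := le_rfl) le_rfl
    let π : D →ₐ[R] (W ⧸ Ideal.span {algebraMap R W s}) ⊗[R] C :=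
      Algebra.TensorProduct.map (Ideal.Quotient.mkₐ R _) (AlgHom.id R C)
    have h0 : π ((1 : W) ⊗ₜ[R] b) = 0 := by
      rw [← hy, map_mul]
      refine mul_eq_zero_of_right _ ?_
      show Ideal.Quotient.mk _ (algebraMap R W s) ⊗ₜ[R] (1 : C) = 0
      rw [Ideal.Quotient.eq_zero_iff_mem.2 (Ideal.mem_span_singleton_self _), TensorProduct.zero_tmul]
    have h1 : ((1 : R ⧸ J₀) ⊗ₜ[R] b) = 0 := by
      refine Module.Flat.rTensor_preserves_injective_linearMap (M := C) j.toLinearMap hj ?_
      rw [map_zero, LinearMap.rTensor_tmul]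
      refine Eq.trans ?_ h0
      show j 1 ⊗ₜ b = Ideal.Quotient.mk _ 1 ⊗ₜ b
      rw [map_one, map_one]
    have h2 := congrArg (TensorProduct.quotTensorEquivQuotSMul C J₀) h1
    rw [map_zero, show (1 : R ⧸ J₀) = Ideal.Quotient.mk J₀ 1 from rfl,
      TensorProduct.quotTensorEquivQuotSMul_mk_tmul, one_smul, Submodule.Quotient.mk_eq_zero,
      Ideal.smul_top_eq_map] at h2
    exact h2
  obtain ⟨T, hTJ, hbT⟩ := Submodule.mem_span_finite_of_mem_span (show b ∈ Submodule.span C (algebraMap R C '' J₀) from hJ₀)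
  obtain ⟨T', hT', rfl⟩ := Finset.subset_set_image_iff.1 hTJ
  let J₁ : 𝔄 := ⟨Ideal.span (T' : Set R), by rw [Ideal.map_span, ← Finset.coe_image]; exact hbT⟩
  have hall : {J | ∀ g ∈ T', algebraMap R K g / algebraMap R K s ∈ V J} ∈ U := by
    simp only [Set.setOf_forall]
    refine (Filter.biInter_finset_mem T').2 fun g hg => ?_
    obtain ⟨w, hw⟩ := Ideal.mem_span_singleton'.1 (hT' hg : g ∈ J₀)
    have : algebraMap R K g / algebraMap R K s ∈ W := by
      rw [show algebraMap R K g = w.1 * algebraMap R K s from (congrArg Subtype.val hw).symm,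
        mul_div_cancel_right₀ _ ((map_ne_zero_iff _ hR).2 hs)]
      exact w.2
    exact this
  obtain ⟨J, hJ1, hJ2⟩ := U.nonempty_of_mem (Filter.inter_mem (hU J₁) hall)
  apply hVc J
  obtain ⟨F, hF⟩ : ∃ F : T' → R, ∑ i, F i * i.1 = c J :=
    Submodule.mem_span_finset'.1 ((show J.1 ≤ J₁.1 from hJ1) (hcJ J))
  rw [← hF, map_sum, Finset.sum_div]
  refine sum_mem fun i _ => ?_
  rw [map_mul, mul_div_assoc]
  exact (V J).mul_mem _ _ (hRV J _) (hJ2 i.1 i.2)

theorem isReduced_connected_isField {K G : Type u} [Field K] [CommRing G] [Algebra K G]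
    [Algebra.WeaklyEtale K G] [Nontrivial G] (h : ∀ e : G, e * e = e → e = 0 ∨ e = 1) : IsLocalRing G := by
  refine IsLocalRing.of_isUnit_or_isUnit_one_sub_self fun x => ?_
  by_cases hx : IsUnit x
  · exact Or.inl hx
  refine Or.inr ?_
  have hflat : Module.Flat G (G ⧸ Ideal.span {x}) := flat_of_weaklyEtale (A := K) _
  obtain ⟨s, hs, hsx⟩ := exists_kill (φ := algebraMap G (G ⧸ Ideal.span {x}))
    ((RingHom.flat_algebraMap_iff).2 hflat) Ideal.Quotient.mk_surjective x
    (Ideal.Quotient.eq_zero_iff_mem.2 (Ideal.mem_span_singleton_self _))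
  obtain ⟨c, hc⟩ := Ideal.mem_span_singleton'.1 (Ideal.Quotient.eq.1 (hs.trans (map_one _).symm))
  have hse : s * s = s := by
    have h3 : c * (s * x) = 0 := by rw [hsx, mul_zero]
    linear_combination h3 - s * hc
  rcases h s hse with h0 | h0
  · exact absurd (IsUnit.of_mul_eq_one_right (-c) (by linear_combination -hc - h0)) hx
  · rw [h0, one_mul] at hsx
    rw [hsx, sub_zero]; exact isUnit_one

section Main

variable (A B : Type u) [CommRing A] [IsLocalRing A] [CommRing B] [IsLocalRing B] [Algebra A B]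
  [IsLocalHom (algebraMap A B)] [Algebra.WeaklyEtale A B]

theorem residue_surjective_of_strictlyHenselian (hA : EtCoh.IsStrictlyHenselianLocalRing A) (d : B) :
    ∃ a : A, d - algebraMap A B a ∈ (maximalIdeal A).map (algebraMap A B) := by
  obtain ⟨_, hk⟩ := hA
  let k := ResidueField A
  let F := k ⊗[A] B
  haveI : IsLocalRing F := by
    have hsurj : Function.Surjective (Algebra.TensorProduct.includeRight : B →ₐ[A] F) := by
      intro z
      induction z using TensorProduct.induction_on with
      | zero => exact ⟨0, map_zero _⟩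
      | tmul c d =>
        obtain ⟨v, rfl⟩ := residue_surjective c
        refine ⟨v • d, ?_⟩
        show (1 : k) ⊗ₜ (v • d) = residue A v ⊗ₜ d
        rw [← TensorProduct.smul_tmul, Algebra.smul_def, mul_one]; rfl
      | add x y hx hy =>
        obtain ⟨x, rfl⟩ := hx
        obtain ⟨y, rfl⟩ := hy
        exact ⟨x + y, map_add _ _ _⟩
    let g : F →ₐ[A] ResidueField B := Algebra.TensorProduct.lift
      (IsScalarTower.toAlgHom A k (ResidueField B)) (IsScalarTower.toAlgHom A B (ResidueField B))
      fun _ _ => Commute.all _ _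
    haveI : Nontrivial F := g.toRingHom.domain_nontrivial
    exact IsLocalRing.of_surjective' (Algebra.TensorProduct.includeRight : B →ₐ[A] F).toRingHom hsurj
  obtain ⟨c, hc⟩ := (algebraMap_bijective_of_isSepClosed (k := k) (C := F)).2
    (Algebra.TensorProduct.includeRight d)
  obtain ⟨v, rfl⟩ := residue_surjective c
  refine ⟨v, ?_⟩
  let q : F →ₐ[A] B ⧸ (maximalIdeal A).map (algebraMap A B) := Algebra.TensorProduct.lift
    (Ideal.quotientMapₐ _ (Algebra.ofId A B) Ideal.le_comap_map)
    (Ideal.Quotient.mkₐ A _) fun _ _ => Commute.all _ _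
  have h2 := congrArg q hc
  rw [Algebra.TensorProduct.algebraMap_apply, Algebra.TensorProduct.includeRight_apply,
    Algebra.TensorProduct.lift_tmul, Algebra.TensorProduct.lift_tmul, map_one, map_one,
    mul_one, one_mul] at h2
  exact (Ideal.Quotient.eq.1 h2.symm)

/-- An integral domain extension of a henselian local ring is local. -/
theorem isLocalRing_of_isIntegral [HenselianLocalRing A] (R : Type u) [CommRing R] [IsDomain R]
    [Algebra A R] [Algebra.IsIntegral A R] : IsLocalRing R := by
  haveI : HenselianRing A (maximalIdeal A) := inferInstance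
  refine IsLocalRing.of_unique_max_ideal ?_
  obtain ⟨M, hM⟩ := Ideal.exists_maximal R
  refine ⟨M, hM, fun N hN => ?_⟩
  by_contra hne
  let J := (maximalIdeal A).map (algebraMap A R)
  have hJ : ∀ Q : Ideal R, Q.IsMaximal → J ≤ Q := fun Q hQ => Ideal.map_le_iff_le_comap.2
    (IsLocalRing.eq_maximalIdeal (Ideal.isMaximal_comap_of_isIntegral_of_isMaximal (R := A) Q)).ge
  have hall : ∀ x : PrimeSpectrum (R ⧸ J), IsClosed ({x} : Set (PrimeSpectrum (R ⧸ J))) := fun x => by
    rw [PrimeSpectrum.isClosed_singleton_iff_isMaximal]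
    let X := x.asIdeal.comap (Ideal.Quotient.mk J)
    have hXm : (X.comap (algebraMap A R)).IsMaximal := by
      have hle : maximalIdeal A ≤ X.comap (algebraMap A R) := fun a ha => by
        show Ideal.Quotient.mk J (algebraMap A R a) ∈ x.asIdeal
        rw [Ideal.Quotient.eq_zero_iff_mem.2 (Ideal.mem_map_of_mem _ ha)]; exact zero_mem _
      rw [← (maximalIdeal.isMaximal A).eq_of_le (Ideal.IsPrime.ne_top inferInstance) hle]
      exact maximalIdeal.isMaximal A
    haveI : X.IsMaximal := Ideal.isMaximal_of_isIntegral_of_isMaximal_comap (R := A) X hXm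
    have : x.asIdeal = X.map (Ideal.Quotient.mk J) :=
      (Ideal.map_comap_of_surjective _ Ideal.Quotient.mk_surjective _).symm
    rw [this]
    exact (Ideal.map_eq_top_or_isMaximal_of_surjective _ Ideal.Quotient.mk_surjective ‹_›).resolve_left
      (this ▸ x.2.ne_top)
  obtain ⟨_, _, _⟩ := isProfinite_of_t1 hall
  have hlift : ∀ Q : Ideal R, Q.IsMaximal → ∃ x : PrimeSpectrum (R ⧸ J),
      x.asIdeal.comap (Ideal.Quotient.mk J) = Q := fun Q hQ => by
    have : (⟨Q, hQ.isPrime⟩ : PrimeSpectrum R) ∈ Set.range (PrimeSpectrum.comap (Ideal.Quotient.mk J)) := by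
      rw [range_comap_of_surjective _ _ Ideal.Quotient.mk_surjective, Ideal.mk_ker]
      exact hJ Q hQ
    obtain ⟨x, hx⟩ := this
    exact ⟨x, congrArg PrimeSpectrum.asIdeal hx⟩
  obtain ⟨x, hx⟩ := hlift M hM
  obtain ⟨y, hy⟩ := hlift N hN
  have hxy : x ≠ y := fun h => hne (by rw [← hy, ← hx, h])
  obtain ⟨U, hU, hxU, hyU⟩ := exists_isClopen_of_totally_separated hxy
  obtain ⟨e₀, he₀, hUe⟩ := PrimeSpectrum.isClopen_iff.1 hU
  obtain ⟨e, he, rfl⟩ := Groth.Agent.Hensel.surjOn_idempotent (I := maximalIdeal A) R he₀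
  have hxe : e ∉ M := fun h => by
    have := hUe.le hxU
    exact this (hx.ge h)
  have hye : e ∈ N := by
    have : y ∉ (PrimeSpectrum.basicOpen (Ideal.Quotient.mk J e) : Set (PrimeSpectrum (R ⧸ J))) :=
      fun h => hyU (hUe.ge h)
    exact hy.le (not_not.1 this)
  have h0 : e * (1 - e) = 0 := by rw [mul_sub, mul_one, he.eq, sub_self]
  rcases mul_eq_zero.1 h0 with h | h
  · exact hxe (h ▸ zero_mem _)
  · rw [sub_eq_zero] at h
    exact hN.ne_top ((Ideal.eq_top_iff_one _).2 (h ▸ hye))

theorem bijective_fibre (hA : EtCoh.IsStrictlyHenselianLocalRing A) (p : Ideal A) [p.IsPrime] :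
    Function.Bijective (algebraMap p.ResidueField (p.ResidueField ⊗[A] B)) := by
  obtain ⟨hH, hk⟩ := hA
  let K := AlgebraicClosure p.ResidueField
  let R := integralClosure A K
  haveI : Algebra.IsIntegral A R := ⟨fun x => (isIntegral_algebraMap_iff
    (show Function.Injective (algebraMap R K) from Subtype.val_injective)).1 x.2⟩
  haveI hRl : IsLocalRing R := isLocalRing_of_isIntegral A R
  let C := R ⊗[A] B
  haveI hCl : IsLocalRing C := by
    haveI := Module.FaithfullyFlat.of_flat_of_isLocalHom (A := A) (B := B)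
    haveI : Nontrivial C := ((TensorProduct.comm A B R).injective.comp
      (Module.FaithfullyFlat.tensorProduct_mk_injective (A := A) (B := B) R)).nontrivial
    letI : Algebra B C := Algebra.TensorProduct.rightAlgebra
    haveI : Algebra.IsIntegral B C := ⟨fun z => by
      induction z using TensorProduct.induction_on with
      | zero => exact isIntegral_zero
      | tmul x y =>
        rw [show (x ⊗ₜ[A] y : C) = (x ⊗ₜ 1) * algebraMap B C y by
          show _ = (x ⊗ₜ[A] (1 : B)) * ((1 : R) ⊗ₜ[A] y)
          simp]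
        refine IsIntegral.mul ?_ isIntegral_algebraMap
        obtain ⟨P, hPm, hP⟩ := Algebra.IsIntegral.isIntegral (R := A) x
        refine ⟨P.map (algebraMap A B), hPm.map _, ?_⟩
        rw [Polynomial.eval₂_map, show (algebraMap B C).comp (algebraMap A B) =
          (Algebra.TensorProduct.includeLeft : R →ₐ[A] C).toRingHom.comp (algebraMap A R) from
            RingHom.ext fun a => by
              show ((1 : R) ⊗ₜ[A] algebraMap A B a) = algebraMap A R a ⊗ₜ[A] (1 : B)
              rw [Algebra.algebraMap_eq_smul_one, Algebra.algebraMap_eq_smul_one, TensorProduct.smul_tmul]]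
        show Polynomial.eval₂ _ ((Algebra.TensorProduct.includeLeft : R →ₐ[A] C).toRingHom x) P = 0
        rw [← Polynomial.hom_eval₂, hP, map_zero]
      | add x y hx hy => exact hx.add hy⟩
    have hmaxB : ∀ M : Ideal C, M.IsMaximal → maximalIdeal B ≤ M.comap (algebraMap B C) := fun M hM =>
      (IsLocalRing.eq_maximalIdeal (Ideal.isMaximal_comap_of_isIntegral_of_isMaximal (R := B) M)).ge
    have hmA : (maximalIdeal A).map (algebraMap A B) ≤ maximalIdeal B :=
      Ideal.map_le_iff_le_comap.2 fun a ha hu => ha (isUnit_of_map_unit (algebraMap A B) a hu)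
    have key : ∀ M : Ideal C, M.IsMaximal → ∀ z : C, ∃ r : R, z - r ⊗ₜ 1 ∈ M ∧
        ∀ M' : Ideal C, M'.IsMaximal → z - r ⊗ₜ 1 ∈ M' := fun M hM z => by
      suffices h : ∃ r : R, ∀ M' : Ideal C, M'.IsMaximal → z - r ⊗ₜ 1 ∈ M' from
        h.imp fun r hr => ⟨hr M hM, hr⟩
      induction z using TensorProduct.induction_on with
      | zero => exact ⟨0, fun M' _ => by simp⟩
      | tmul x d =>
        obtain ⟨a, ha⟩ := residue_surjective_of_strictlyHenselian A B ⟨hH, hk⟩ d
        refine ⟨a • x, fun M' hM' => ?_⟩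
        have h2 : (x ⊗ₜ[A] d : C) - (a • x) ⊗ₜ 1 = (x ⊗ₜ 1) * algebraMap B C (d - algebraMap A B a) := by
          show _ = (x ⊗ₜ[A] (1 : B)) * ((1 : R) ⊗ₜ[A] (d - algebraMap A B a))
          rw [Algebra.TensorProduct.tmul_mul_tmul, mul_one, one_mul, TensorProduct.tmul_sub,
            TensorProduct.smul_tmul, Algebra.algebraMap_eq_smul_one]
        rw [h2]
        exact Ideal.mul_mem_left _ _ (hmaxB M' hM' (hmA ha))
      | add x y hx hy =>
        obtain ⟨r, hr⟩ := hx
        obtain ⟨r', hr'⟩ := hy
        refine ⟨r + r', fun M' hM' => ?_⟩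
        rw [TensorProduct.add_tmul, add_sub_add_comm]
        exact add_mem (hr M' hM') (hr' M' hM')
    refine IsLocalRing.of_unique_max_ideal ?_
    obtain ⟨M, hM⟩ := Ideal.exists_maximal C
    refine ⟨M, hM, fun N hN => ?_⟩
    have hcomap : ∀ M : Ideal C, M.IsMaximal → ∀ r : R, (r ⊗ₜ[A] (1 : B) : C) ∈ M ↔ r ∈ maximalIdeal R := by
      intro M hM r
      have hmax : (M.comap (Algebra.TensorProduct.includeLeft : R →ₐ[A] C).toRingHom).IsMaximal := by
        refine Ideal.isMaximal_of_isIntegral_of_isMaximal_comap (R := A) _ ?_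
        have e : (M.comap (Algebra.TensorProduct.includeLeft : R →ₐ[A] C).toRingHom).comap (algebraMap A R) =
            maximalIdeal A := by
          refine ((maximalIdeal.isMaximal A).eq_of_le ?_ fun a ha => ?_).symm
          · exact Ideal.IsPrime.ne_top inferInstance
          · show (algebraMap A R a ⊗ₜ[A] (1 : B) : C) ∈ M
            rw [show (algebraMap A R a ⊗ₜ[A] (1 : B) : C) = algebraMap B C (algebraMap A B a) by
              show _ = ((1 : R) ⊗ₜ[A] algebraMap A B a)
              rw [Algebra.algebraMap_eq_smul_one, Algebra.algebraMap_eq_smul_one, TensorProduct.smul_tmul]]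
            exact hmaxB M hM (hmA (Ideal.mem_map_of_mem _ ha))
        rw [e]; exact maximalIdeal.isMaximal A
      rw [← IsLocalRing.eq_maximalIdeal hmax]; rfl
    refine (hN.eq_of_le hM.ne_top fun z hz => ?_)
    obtain ⟨r, hr, hrall⟩ := key N hN z
    have h1 : (r ⊗ₜ[A] (1 : B) : C) ∈ N := by simpa using sub_mem hz hr
    have h2 := (hcomap M hM r).2 ((hcomap N hN r).1 h1)
    simpa using add_mem (hrall M hM) h2
  haveI : Algebra.WeaklyEtale R C := inferInstance
  have hAR : RingHom.ker (algebraMap A K) = p := by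
    rw [IsScalarTower.algebraMap_eq A p.ResidueField K, RingHom.ker_comp_of_injective _
      (algebraMap p.ResidueField K).injective, Ideal.ker_algebraMap_residueField]
  have hfrac : ∀ x : K, ∃ a s : R, s ≠ 0 ∧ algebraMap R K s * x = algebraMap R K a := by
    intro x
    letI : Algebra (A ⧸ p) K := (Ideal.Quotient.lift p (algebraMap A K) fun a ha => hAR.ge ha).toAlgebra
    haveI :=
      IsScalarTower.of_algebraMap_eq (R := A ⧸ p) (S := p.ResidueField) (A := K) fun z => by
      obtain ⟨a, rfl⟩ := Ideal.Quotient.mk_surjective z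
      show algebraMap A K a = _
      rw [IsScalarTower.algebraMap_apply A p.ResidueField K]
      congr 1
    haveI := IsScalarTower.of_algebraMap_eq (R := A) (S := A ⧸ p) (A := K) fun a => rfl
    have halg : IsAlgebraic (A ⧸ p) x :=
      (IsFractionRing.isAlgebraic_iff (A ⧸ p) p.ResidueField K).2 (Algebra.IsAlgebraic.isAlgebraic x)
    obtain ⟨y, hy, hyx⟩ := halg.exists_integral_multiple
    obtain ⟨s, rfl⟩ := Ideal.Quotient.mk_surjective y
    have hyx' : IsIntegral A (algebraMap A K s * x) := by
      have h2 := isIntegral_trans (R := A) _ hyx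
      rwa [Algebra.smul_def] at h2
    refine ⟨⟨_, hyx'⟩, algebraMap A R s, fun h => hy ?_, ?_⟩
    · rw [Ideal.Quotient.eq_zero_iff_mem]
      exact hAR.le ((IsScalarTower.algebraMap_apply A R K s).trans (by rw [h, map_zero]))
    · rfl
  haveI : IsIntegrallyClosedIn R K := inferInstance
  haveI : Algebra.WeaklyEtale K (K ⊗[A] B) := inferInstance
  let e : K ⊗[R] C ≃ₐ[K] K ⊗[A] B := Algebra.TensorProduct.cancelBaseChange A R K K B
  haveI := Module.FaithfullyFlat.of_flat_of_isLocalHom (A := A) (B := B)
  haveI : Nontrivial (K ⊗[A] B) := ((TensorProduct.comm A B K).injective.comp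
      (Module.FaithfullyFlat.tensorProduct_mk_injective (A := A) (B := B) K)).nontrivial
  haveI : IsLocalRing (K ⊗[A] B) := isReduced_connected_isField (K := K) fun x hx => by
    rcases idempotent_eq_of_weaklyEtale_normal (R := R) (K := K) Subtype.val_injective hfrac
      (e := e.symm x) (by rw [← map_mul, hx]) with h | h
    · exact Or.inl (by simpa using congrArg e h)
    · exact Or.inr (by simpa using congrArg e h)
  have hbij := algebraMap_bijective_of_isSepClosed (k := K) (C := K ⊗[A] B)
  let e' : K ⊗[p.ResidueField] (p.ResidueField ⊗[A] B) ≃ₐ[K] K ⊗[A] B :=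
    Algebra.TensorProduct.cancelBaseChange A p.ResidueField K K B
  let f := Algebra.linearMap p.ResidueField (p.ResidueField ⊗[A] B)
  have hcomp : ∀ x : K, e' (f.lTensor K (x ⊗ₜ[p.ResidueField] (1 : p.ResidueField))) = algebraMap K _ x := by
    intro x
    show e' (x ⊗ₜ[p.ResidueField] algebraMap p.ResidueField (p.ResidueField ⊗[A] B) 1) = _
    rw [map_one, Algebra.TensorProduct.algebraMap_apply, Algebra.algebraMap_self, RingHom.id_apply,
      show (x ⊗ₜ[p.ResidueField] (1 : p.ResidueField ⊗[A] B)) = x ⊗ₜ ((1 : p.ResidueField) ⊗ₜ[A] (1 : B)) from rfl,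
      Algebra.TensorProduct.cancelBaseChange_tmul, one_smul]
  have hlT : Function.Bijective (f.lTensor K) := by
    have : (fun z => f.lTensor K z) = e'.symm ∘ algebraMap K (K ⊗[A] B) ∘ (TensorProduct.rid p.ResidueField K) := by
      funext z
      apply e'.injective
      rw [Function.comp_apply, Function.comp_apply, e'.apply_symm_apply, ← hcomp]
      congr 2
      exact ((TensorProduct.rid p.ResidueField K).symm_apply_apply z).symm
    show Function.Bijective (fun z => f.lTensor K z)
    rw [this]
    exact e'.symm.bijective.comp (hbij.comp (LinearEquiv.bijective _))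
  exact ⟨(Module.FaithfullyFlat.lTensor_injective_iff_injective p.ResidueField K f).1 hlT.1,
    (Module.FaithfullyFlat.lTensor_surjective_iff_surjective p.ResidueField K f).1 hlT.2⟩

/-- **Olivier's theorem.** -/
theorem bijective_of_strictlyHenselian (hA : EtCoh.IsStrictlyHenselianLocalRing A) :
    Function.Bijective (algebraMap A B) := by
  haveI : Module.FaithfullyFlat A B := Module.FaithfullyFlat.of_flat_of_isLocalHom
  let μ := Algebra.TensorProduct.lmul' A (S := B)
  have hnil : ∀ x : B ⊗[A] B, μ x = 0 → x = 0 := by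
    intro x hx
    obtain ⟨s, hs, hsx⟩ := exists_kill (Algebra.WeaklyEtale.flat_lmul' A B)
      (fun z => ⟨z ⊗ₜ 1, by simp⟩) x hx
    refine (IsUnit.mul_right_eq_zero ?_).1 hsx
    by_contra hsu
    obtain ⟨P, hP, hsP⟩ := exists_max_ideal_of_mem_nonunits hsu
    haveI := hP.isPrime
    let p := P.comap (algebraMap A (B ⊗[A] B))
    let κ := p.ResidueField
    let g : B ⊗[A] B →ₐ[A] P.ResidueField := IsScalarTower.toAlgHom A _ _
    -- both restrictions to `B` factor through the residue field of `p`
    have hfac : ∀ φ : B →ₐ[A] P.ResidueField, ∀ d : B, ∀ c : κ,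
        ((1 : κ) ⊗ₜ[A] d : κ ⊗[A] B) = algebraMap κ (κ ⊗[A] B) c →
          φ d = Ideal.ResidueField.map p P (algebraMap A (B ⊗[A] B)) rfl c := by
      intro φ d c hd
      let θ : κ →ₐ[A] P.ResidueField :=
        { Ideal.ResidueField.map p P (algebraMap A (B ⊗[A] B)) rfl with
          commutes' := fun a => by
            show Ideal.ResidueField.map p P (algebraMap A (B ⊗[A] B)) rfl (algebraMap A κ a) = _
            simp [κ, ← IsScalarTower.algebraMap_apply]
            rw [← Algebra.TensorProduct.algebraMap_apply, ← IsScalarTower.algebraMap_apply] }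
      have := congrArg (Algebra.TensorProduct.lift θ φ fun _ _ => Commute.all _ _) hd
      rw [Algebra.TensorProduct.algebraMap_apply, Algebra.TensorProduct.lift_tmul,
        Algebra.TensorProduct.lift_tmul, map_one, map_one, one_mul, mul_one] at this
      exact this
    have hg : ∀ z, g z = g (μ z ⊗ₜ 1) := by
      intro z
      induction z using TensorProduct.induction_on with
      | zero => simp
      | tmul x y =>
        obtain ⟨c, hc⟩ := (bijective_fibre A B hA p).2 ((1 : κ) ⊗ₜ[A] y)
        have e1 := hfac (g.comp Algebra.TensorProduct.includeRight) y c hc.symm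
        have e2 := hfac (g.comp Algebra.TensorProduct.includeLeft) y c hc.symm
        have e3 : g ((1 : B) ⊗ₜ y) = g (y ⊗ₜ (1 : B)) := e1.trans e2.symm
        rw [show (x ⊗ₜ[A] y : B ⊗[A] B) = (x ⊗ₜ 1) * ((1 : B) ⊗ₜ y) by simp, map_mul, e3, ← map_mul,
          Algebra.TensorProduct.tmul_mul_tmul, mul_one]
        simp [μ]
      | add x y hx hy => rw [map_add, hx, hy, map_add, TensorProduct.add_tmul, map_add]
    have h0 : g s = 0 := Ideal.algebraMap_residueField_eq_zero.2 hsP
    rw [hg, show μ s = 1 from hs] at h0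
    exact one_ne_zero ((map_one g).symm.trans h0)
  have hsurj : Function.Surjective ((Algebra.linearMap A B).lTensor B) := by
    intro z
    refine ⟨μ z ⊗ₜ[A] (1 : A), ?_⟩
    rw [LinearMap.lTensor_tmul, Algebra.linearMap_apply, map_one]
    exact (sub_eq_zero.1 (hnil (μ z ⊗ₜ[A] 1 - z) (by simp [μ])))
  exact ⟨FaithfulSMul.algebraMap_injective A B,
    (Module.FaithfullyFlat.lTensor_surjective_iff_surjective A B (Algebra.linearMap A B)).1 hsurj⟩

end Main

end Groth.Agent.WLocalLib
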