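import Groth.Agent.WLocalLib.WeakEtaleScheme
import Groth.Agent.WLocalLib.Olivier
import Groth.Prelude.Def_Flat
import Mathlib

/-!
Weakly étale universal homeomorphisms are isomorphisms.
-/

set_option autoImplicit false

open AlgebraicGeometry CategoryTheory Limits
open scoped TensorProduct

universe u

namespace Groth.Agent.WLocalLib

theorem flat_fromSpecStalk_we {S : Scheme.{u}} (p : S) : Flat (S.fromSpecStalk p) := by
  obtain ⟨_, ⟨U, hU, rfl⟩, hpU, -⟩ :=
    S.isBasis_affineOpens.exists_subset_of_mem_open (Set.mem_univ p) isOpen_univ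
  rw [← hU.fromSpecStalk_eq_fromSpecStalk hpU, IsAffineOpen.fromSpecStalk]
  have : Flat (Spec.map (S.presheaf.germ U p hpU)) := by
    rw [HasRingHomProperty.Spec_iff (P := @Flat)]
    algebraize [(S.presheaf.germ U p hpU).hom]
    exact @IsLocalization.flat Γ(S, U) (S.presheaf.stalk p) _ _ _
      (hU.primeIdealOf ⟨p, hpU⟩).asIdeal.primeCompl (hU.isLocalization_stalk ⟨p, hpU⟩)
  infer_instance

theorem weaklyEtale_fromSpecStalk {S : Scheme.{u}} (p : S) : WeaklyEtale (S.fromSpecStalk p) := by
  haveI := flat_fromSpecStalk_we p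
  exact ⟨inferInstance, inferInstance⟩

theorem weaklyEtale_specMap_stalkMap {X Y : Scheme.{u}} (f : X ⟶ Y) [WeaklyEtale f] (x : X) :
    WeaklyEtale (Spec.map (f.stalkMap x)) := by
  haveI := weaklyEtale_fromSpecStalk x
  haveI := weaklyEtale_fromSpecStalk (f x)
  haveI : WeaklyEtale (Spec.map (f.stalkMap x) ≫ Y.fromSpecStalk (f x)) := by
    rw [Scheme.SpecMap_stalkMap_fromSpecStalk]; infer_instance
  exact WeaklyEtale.of_comp _ (Y.fromSpecStalk (f x))

theorem universallyInjective_specMap_stalkMap {X Y : Scheme.{u}} (f : X ⟶ Y) [UniversallyInjective f]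
    (x : X) : UniversallyInjective (Spec.map (f.stalkMap x)) := by
  have key : ∀ (K : Type u) [Field K], Function.Injective (fun g : Spec (.of K) ⟶ X ↦ g ≫ f) :=
    ((tfae_universallyInjective f).out 0 1).1 ‹_›
  refine ((tfae_universallyInjective (Spec.map (f.stalkMap x))).out 0 1).2 ?_
  intro K inst g₁ g₂ h
  refine (cancel_mono (X.fromSpecStalk x)).1 (key K ?_)
  simp only [Category.assoc, ← Scheme.SpecMap_stalkMap_fromSpecStalk]
  rw [← Category.assoc, show g₁ ≫ Spec.map (f.stalkMap x) = g₂ ≫ Spec.map (f.stalkMap x) from h,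
    Category.assoc]

/-- A flat local homomorphism which is a weakly étale epimorphism is bijective. -/
theorem bijective_of_lmul'_injective {A B : Type u} [CommRing A] [CommRing B] [Algebra A B]
    [Module.FaithfullyFlat A B] (h : Function.Injective (Algebra.TensorProduct.lmul' A (S := B))) :
    Function.Bijective (algebraMap A B) := by
  refine ⟨FaithfulSMul.algebraMap_injective A B, ?_⟩
  refine (Module.FaithfullyFlat.lTensor_surjective_iff_surjective A B (Algebra.linearMap A B)).1
    fun z => ?_
  exact ⟨Algebra.TensorProduct.lmul' A (S := B) z ⊗ₜ 1, h (by simp)⟩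

theorem isIso_of_weaklyEtale_of_isUnivHomeo {X Y : Scheme.{u}} (f : X ⟶ Y) [WeaklyEtale f]
    (h : FlatMor.IsUnivHomeo f) : IsIso f := by
  haveI : UniversallyInjective f :=
    ⟨fun _ _ i₁ i₂ g hg => (h i₁ i₂ g hg).injective⟩
  have hf : IsHomeomorph f := h _ _ _ IsPullback.of_id_snd
  haveI : ∀ x, IsIso (f.stalkMap x) := fun x => by
    letI := (f.stalkMap x).hom.toAlgebra
    let A := Y.presheaf.stalk (f x)
    let B := X.presheaf.stalk x
    haveI : WeaklyEtale (Spec.map (CommRingCat.ofHom (algebraMap A B))) :=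
      weaklyEtale_specMap_stalkMap f x
    haveI : Algebra.WeaklyEtale A B := weaklyEtale_of_specMap
    haveI : IsLocalHom (algebraMap A B) := inferInstanceAs (IsLocalHom (f.stalkMap x).hom)
    haveI : Module.FaithfullyFlat A B := Module.FaithfullyFlat.of_flat_of_isLocalHom
    haveI : UniversallyInjective (Spec.map (CommRingCat.ofHom (algebraMap A B))) :=
      universallyInjective_specMap_stalkMap f x
    have hs : Surjective (pullback.diagonal (Spec.map (CommRingCat.ofHom (algebraMap A B)))) :=
      (UniversallyInjective.iff_diagonal _).1 inferInstance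
    rw [diagonal_SpecMap, MorphismProperty.cancel_right_of_respectsIso @Surjective] at hs
    let μ := (Algebra.TensorProduct.lmul' A (S := B)).toRingHom
    have hn : RingHom.ker μ ≤ nilradical (B ⊗[A] B) := by
      rw [nilradical_eq_sInf]
      refine le_sInf fun P (hP : P.IsPrime) => ?_
      obtain ⟨q, hq⟩ := hs.surj ⟨P, hP⟩
      intro z hz
      have : z ∈ (⟨P, hP⟩ : PrimeSpectrum (B ⊗[A] B)).asIdeal := by
        rw [← hq]
        show μ z ∈ q.asIdeal
        rw [show μ z = 0 from hz]
        exact zero_mem _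
      exact this
    have hinj : Function.Injective (Algebra.TensorProduct.lmul' A (S := B)) := by
      refine (injective_iff_map_eq_zero _).2 fun w hw => ?_
      obtain ⟨s, hs1, hsw⟩ := exists_kill (Algebra.WeaklyEtale.flat_lmul' A B)
        (fun b => ⟨b ⊗ₜ 1, by simp⟩) w hw
      have hu : IsUnit s := by
        have : IsNilpotent (s - 1) := mem_nilradical.1 (hn (by
          show μ (s - 1) = 0
          rw [map_sub, map_one, sub_eq_zero]; exact hs1))
        simpa using this.isUnit_add_one
      exact (IsUnit.mul_right_eq_zero hu).1 hsw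
    exact (ConcreteCategory.isIso_iff_bijective _).2 (bijective_of_lmul'_injective hinj)
  haveI : IsOpenImmersion f := IsOpenImmersion.of_isIso_stalkMap f hf.homeomorph.isOpenEmbedding
  exact isIso_of_isOpenImmersion_of_opensRange_eq_top f
    (TopologicalSpace.Opens.ext (Set.range_eq_univ.2 hf.surjective))

end Groth.Agent.WLocalLib
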