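import Groth.Agent.WLocalLib.WRing
import Groth.Agent.SpectralLib.Basic
import Mathlib

/-!
Profinite spectra, and w-localisation along a closed profinite subset `V(I)`.
-/

set_option autoImplicit false

open Topology

universe u

namespace Groth.Agent.WLocalLib

/-- A spectral space all of whose points are closed is profinite. -/
theorem isProfinite_of_t1 {X : Type u} [t : TopologicalSpace X] [SpectralSpace X]
    (h : ∀ x : X, IsClosed ({x} : Set X)) : ProEtW.IsProfinite X := by
  have heq : constructibleTopology X = t := le_antisymm SpectralLib.C_le fun s hs =>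
    SpectralLib.isOpen_of_stableUnderGeneralization hs fun x y hxy hx => by
      have : x = y := hxy.mem_closed (h y) rfl
      exact this ▸ hx
  refine ⟨inferInstance, ?_, ?_⟩
  · have h2 := SpectralLib.t2Space_C (X := X)
    rwa [heq] at h2
  · have h2 := SpectralLib.totallySeparatedSpace_C (X := X)
    rw [heq] at h2
    exact TotallySeparatedSpace.totallyDisconnectedSpace X

theorem isProfinite_zeroLocus {R : Type u} [CommRing R] (J : Set R)
    (h : ∀ x ∈ PrimeSpectrum.zeroLocus J, IsClosed ({x} : Set (PrimeSpectrum R))) :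
    ProEtW.IsProfinite (PrimeSpectrum.zeroLocus (R := R) J) := by
  have hZ := PrimeSpectrum.isClosed_zeroLocus J
  haveI := (SpectralLib.spectralSpace_of_isClosed (SpectralLib.isClosed_C_of_isClosed hZ)).1
  refine isProfinite_of_t1 fun x => ?_
  rw [hZ.isClosedEmbedding_subtypeVal.isClosed_iff_image_isClosed, Set.image_singleton]
  exact h x.1 x.2

/-- Algebraic residue extensions have incomparable fibres. -/
theorem incomparable_of_algebraic {A B : Type u} [CommRing A] [CommRing B] [Algebra A B]
    (h : ProEtW.AlgebraicResidueExtensions A B) (q q' : PrimeSpectrum B)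
    (he : q.asIdeal.comap (algebraMap A B) = q'.asIdeal.comap (algebraMap A B))
    (hle : q.asIdeal ≤ q'.asIdeal) : q = q' := by
  by_contra hne
  obtain ⟨r, hr', hr⟩ := SetLike.exists_of_lt
    (lt_of_le_of_ne hle fun e => hne (PrimeSpectrum.ext e))
  obtain ⟨P, hP0, hP⟩ := (h q.asIdeal).isAlgebraic (Ideal.Quotient.mk q.asIdeal r)
  obtain ⟨P', rfl⟩ := Polynomial.map_surjective _ Ideal.Quotient.mk_surjective P
  refine (Ideal.comap_lt_comap_of_root_mem_sdiff (f := algebraMap A B) hle ⟨hr', hr⟩ hP0 ?_).ne he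
  rw [← Ideal.Quotient.eq_zero_iff_mem, Polynomial.hom_eval₂]
  rw [Polynomial.aeval_def, Polynomial.eval₂_map] at hP
  exact hP

theorem isClosed_singleton_of_le_imp_eq {R : Type u} [CommRing R] (q : PrimeSpectrum R)
    (h : ∀ q' : PrimeSpectrum R, q.asIdeal ≤ q'.asIdeal → q = q') :
    IsClosed ({q} : Set (PrimeSpectrum R)) := by
  refine isClosed_of_closure_subset fun q' hq' => ?_
  exact (h q' ((PrimeSpectrum.le_iff_specializes _ _).2 (specializes_iff_mem_closure.2 hq'))).symm

/-- Primes over closed points are closed, if the fibres are incomparable. -/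
theorem isClosed_singleton_of_comap {A B : Type u} [CommRing A] [CommRing B] (f : A →+* B)
    (h : ∀ q q' : PrimeSpectrum B, q.asIdeal.comap f = q'.asIdeal.comap f →
      q.asIdeal ≤ q'.asIdeal → q = q') (q : PrimeSpectrum B)
    (hq : IsClosed ({PrimeSpectrum.comap f q} : Set (PrimeSpectrum A))) :
    IsClosed ({q} : Set (PrimeSpectrum B)) := by
  refine isClosed_singleton_of_le_imp_eq q fun q' hle => h q q' ?_ hle
  have := ((PrimeSpectrum.le_iff_specializes q q').1 hle).map (PrimeSpectrum.continuous_comap f)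
  exact congrArg PrimeSpectrum.asIdeal (this.mem_closed hq rfl).symm

theorem isSpectralMap_comap {A B : Type u} [CommRing A] [CommRing B] (f : A →+* B) :
    IsSpectralMap (PrimeSpectrum.comap f) := by
  refine ⟨PrimeSpectrum.continuous_comap f, fun U hU hU' => ?_⟩
  obtain ⟨J, hJ, rfl⟩ := PrimeSpectrum.isCompact_isOpen_iff_ideal.1 ⟨hU', hU⟩
  refine (PrimeSpectrum.isCompact_isOpen_iff_ideal.2 ⟨J.map f, hJ.map f, ?_⟩).1
  rw [Set.preimage_compl, PrimeSpectrum.preimage_comap_zeroLocus,
    ← PrimeSpectrum.zeroLocus_span (f '' J)]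
  rfl

section Along

variable {A : Type u} [CommRing A] (I : Ideal A)

/-- The inclusion of `V(I)`. -/
abbrev incl : C(PrimeSpectrum.zeroLocus (R := A) I, PrimeSpectrum A) :=
  ⟨Subtype.val, continuous_subtype_val⟩

theorem le_comap_map [CompactSpace (PrimeSpectrum.zeroLocus (R := A) I)] :
    (I.map (algebraMap A (WRing (incl I)))).comap (algebraMap A (WRing (incl I))) ≤ I := by
  intro a ha
  by_contra haI
  rw [Ideal.mem_comap, IsScalarTower.algebraMap_eq A (LC A (PrimeSpectrum.zeroLocus (R := A) I))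
      (WRing (incl I)), ← Ideal.map_map, RingHom.comp_apply,
    IsLocalization.algebraMap_mem_map_algebraMap_iff (wSubmonoid (incl I))] at ha
  obtain ⟨s, hs, hsa⟩ := ha
  obtain ⟨m, hm, hJm⟩ := Ideal.exists_le_maximal (I.colon {a}) (fun h => haI (by
      have h1 : (1 : A) ∈ I.colon {a} := by rw [h]; exact Submodule.mem_top
      simpa [Submodule.mem_colon_singleton] using h1))
  have hIm : I ≤ m := fun x hx => hJm (by
    simpa [Submodule.mem_colon_singleton] using I.mul_mem_right a hx)
  let t : PrimeSpectrum.zeroLocus (R := A) I := ⟨⟨m, hm.isPrime⟩, hIm⟩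
  refine hs t (hJm ?_)
  have h2 := Ideal.mem_map_of_mem (ev t) hsa
  rw [Ideal.map_map, show (ev t).comp (algebraMap A _) = RingHom.id A from RingHom.ext fun x => rfl,
    Ideal.map_id, map_mul] at h2
  simpa [Submodule.mem_colon_singleton, mul_comm] using h2

variable [CompactSpace (PrimeSpectrum.zeroLocus (R := A) I)]

theorem exists_idem (C : Set (PrimeSpectrum.zeroLocus (R := A) I)) (hC : IsClopen C) :
    ∃ e : A, e * (1 - e) ∈ I ∧ ∀ t : PrimeSpectrum.zeroLocus (R := A) I,
      (t ∈ C ↔ e ∉ (t.1).asIdeal) := by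
  have hmem : ∀ p : PrimeSpectrum (A ⧸ I),
      PrimeSpectrum.comap (Ideal.Quotient.mk I) p ∈ PrimeSpectrum.zeroLocus (R := A) I := fun p x hx => by
    show Ideal.Quotient.mk I x ∈ p.asIdeal
    rw [Ideal.Quotient.eq_zero_iff_mem.2 hx]; exact zero_mem _
  let j : PrimeSpectrum (A ⧸ I) → PrimeSpectrum.zeroLocus (R := A) I := fun p => ⟨_, hmem p⟩
  have hj : Continuous j := (PrimeSpectrum.continuous_comap _).subtype_mk hmem
  obtain ⟨e', he', hCe⟩ := PrimeSpectrum.isClopen_iff.1 (hC.preimage hj)
  obtain ⟨e, rfl⟩ := Ideal.Quotient.mk_surjective e'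
  refine ⟨e, ?_, fun t => ?_⟩
  · rw [← Ideal.Quotient.eq_zero_iff_mem, map_mul, map_sub, map_one, mul_sub, mul_one, he'.eq,
      sub_self]
  · have ht : t.1 ∈ Set.range (PrimeSpectrum.comap (Ideal.Quotient.mk I)) := by
      rw [range_comap_of_surjective _ _ Ideal.Quotient.mk_surjective, Ideal.mk_ker]
      exact t.2
    obtain ⟨p, hp⟩ := ht
    obtain rfl : j p = t := Subtype.ext hp
    show p ∈ j ⁻¹' C ↔ Ideal.Quotient.mk I e ∉ p.asIdeal
    rw [hCe]; rfl

variable [T2Space (PrimeSpectrum.zeroLocus (R := A) I)]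
  [TotallyDisconnectedSpace (PrimeSpectrum.zeroLocus (R := A) I)]

theorem charFn_sub_mem (C : Set (PrimeSpectrum.zeroLocus (R := A) I)) (hC : IsClopen C) :
    ∃ e : A, algebraMap (LC A (PrimeSpectrum.zeroLocus (R := A) I)) (WRing (incl I))
      (LocallyConstant.charFn A hC) - algebraMap A (WRing (incl I)) e ∈
        I.map (algebraMap A (WRing (incl I))) := by
  classical
  obtain ⟨e, he, hCe⟩ := exists_idem I C hC
  refine ⟨e, ?_⟩
  let L := LC A (PrimeSpectrum.zeroLocus (R := A) I)
  let g : L := algebraMap A L e * LocallyConstant.charFn A hC +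
    algebraMap A L (1 - e) * LocallyConstant.charFn A hC.compl
  have hgv : ∀ y, g y = if y ∈ C then e else 1 - e := fun y => by
    show e * LocallyConstant.charFn A hC y + (1 - e) * LocallyConstant.charFn A hC.compl y = _
    by_cases hy : y ∈ C <;> simp [LocallyConstant.coe_charFn, Set.indicator, hy]
  have hg : g ∈ wSubmonoid (incl I) := fun t => by
    rw [hgv]; split_ifs with ht
    · exact (hCe t).1 ht
    · intro h1
      refine t.1.2.ne_top ((Ideal.eq_top_iff_one _).2 ?_)
      have h2 : e ∈ (t.1).asIdeal := by by_contra h; exact ht ((hCe t).2 h)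
      simpa using add_mem h2 h1
  have key : (LocallyConstant.charFn A hC - algebraMap A L e) * g =
      algebraMap A L (e * (1 - e)) * (LocallyConstant.charFn A hC - LocallyConstant.charFn A hC.compl) := by
    ext y
    show (LocallyConstant.charFn A hC y - e) * g y =
      e * (1 - e) * (LocallyConstant.charFn A hC y - LocallyConstant.charFn A hC.compl y)
    rw [hgv]
    by_cases hy : y ∈ C <;> simp [LocallyConstant.coe_charFn, Set.indicator, hy] <;> ring
  rw [IsScalarTower.algebraMap_apply A L (WRing (incl I)) e, ← map_sub,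
    IsScalarTower.algebraMap_eq A L (WRing (incl I)), ← Ideal.map_map,
    IsLocalization.algebraMap_mem_map_algebraMap_iff (wSubmonoid (incl I))]
  refine ⟨g, hg, ?_⟩
  rw [mul_comm, key]
  exact Ideal.mul_mem_right _ _ (Ideal.mem_map_of_mem _ he)

theorem exists_sub_mem (s : LC A (PrimeSpectrum.zeroLocus (R := A) I)) :
    ∃ a : A, algebraMap _ (WRing (incl I)) s - algebraMap A (WRing (incl I)) a ∈
        I.map (algebraMap A (WRing (incl I))) := by
  classical
  choose e he using fun c : A => charFn_sub_mem I (s ⁻¹' {c}) (s.isLocallyConstant.isClopen_fiber c)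
  let F : Finset A := (s.range_finite).toFinset
  have hsum : s = ∑ c ∈ F, algebraMap A (LC A _) c *
      LocallyConstant.charFn A (s.isLocallyConstant.isClopen_fiber c) := by
    ext y
    show s y = ev y (∑ c ∈ F, _)
    rw [map_sum]
    show s y = ∑ c ∈ F, c * LocallyConstant.charFn A (s.isLocallyConstant.isClopen_fiber c) y
    rw [Finset.sum_eq_single (s y)]
    · simp [LocallyConstant.coe_charFn]
    · intro c _ hc
      have : y ∉ s ⁻¹' {c} := fun h => hc h.symm
      show c * Set.indicator (s ⁻¹' {c}) (1 : PrimeSpectrum.zeroLocus (R := A) I → A) y = 0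
      rw [Set.indicator_of_notMem this, mul_zero]
    · intro h; exact absurd ((Set.Finite.mem_toFinset _).2 (Set.mem_range_self y)) h
  refine ⟨∑ c ∈ F, c * e c, ?_⟩
  rw [show algebraMap _ (WRing (incl I)) s = algebraMap _ (WRing (incl I)) (∑ c ∈ F, algebraMap A (LC A _) c *
      LocallyConstant.charFn A (s.isLocallyConstant.isClopen_fiber c)) from congrArg _ hsum]
  rw [map_sum, map_sum, ← Finset.sum_sub_distrib]
  refine sum_mem fun c _ => ?_
  rw [map_mul, map_mul, ← IsScalarTower.algebraMap_apply, ← mul_sub]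
  exact Ideal.mul_mem_left _ _ (he c)

theorem quotientMap_bijective : Function.Bijective (Ideal.quotientMap
    (I.map (algebraMap A (WRing (incl I)))) (algebraMap A (WRing (incl I))) Ideal.le_comap_map) := by
  refine ⟨Ideal.quotientMap_injective' (le_comap_map I), fun x => ?_⟩
  obtain ⟨b, rfl⟩ := Ideal.Quotient.mk_surjective x
  obtain ⟨s, d, rfl⟩ := IsLocalization.exists_mk'_eq (wSubmonoid (incl I)) b
  obtain ⟨a, ha⟩ := exists_sub_mem I s
  obtain ⟨c, hc⟩ := exists_sub_mem I d.1
  have hu : IsUnit (Ideal.Quotient.mk I c) := by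
    by_contra hnu
    obtain ⟨M, hM, hcM⟩ := exists_max_ideal_of_mem_nonunits hnu
    let p : PrimeSpectrum A := PrimeSpectrum.comap (Ideal.Quotient.mk I) ⟨M, hM.isPrime⟩
    have hp : p ∈ PrimeSpectrum.zeroLocus (R := A) I := fun x hx => by
      show Ideal.Quotient.mk I x ∈ M
      rw [Ideal.Quotient.eq_zero_iff_mem.2 hx]; exact zero_mem _
    obtain ⟨q, hq, -⟩ := exists_pair (incl I) (x := p) (t := ⟨p, hp⟩) le_rfl
    have hIq : I.map (algebraMap A (WRing (incl I))) ≤ q.asIdeal := Ideal.map_le_iff_le_comap.2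
      fun x hx => by
        show x ∈ (PrimeSpectrum.comap (algebraMap A (WRing (incl I))) q).asIdeal
        rw [hq]; exact hp hx
    have hcq : algebraMap A (WRing (incl I)) c ∈ q.asIdeal := by
      show c ∈ (PrimeSpectrum.comap (algebraMap A (WRing (incl I))) q).asIdeal
      rw [hq]; exact hcM
    refine q.2.ne_top (Ideal.eq_top_of_isUnit_mem _ ?_ (IsLocalization.map_units (WRing (incl I)) d))
    simpa using add_mem (hIq hc) hcq
  obtain ⟨i, hi⟩ := Ideal.Quotient.mk_surjective (↑hu.unit⁻¹ : A ⧸ I)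
  refine ⟨Ideal.Quotient.mk I (a * i), ?_⟩
  rw [Ideal.quotientMap_mk]
  refine (IsUnit.mul_left_inj ((IsLocalization.map_units (WRing (incl I)) d).map
    (Ideal.Quotient.mk _))).1 ?_
  rw [← map_mul (Ideal.Quotient.mk _) (IsLocalization.mk' _ s d), IsLocalization.mk'_spec,
    Ideal.Quotient.eq.2 ha, Ideal.Quotient.eq.2 hc, ← map_mul, ← map_mul, Ideal.Quotient.eq, ← map_sub]
  refine Ideal.mem_map_of_mem _ ?_
  rw [← Ideal.Quotient.eq, map_mul, map_mul, hi, mul_assoc, IsUnit.val_inv_mul, mul_one]

theorem closedPoints_eq_zeroLocus : ProEtW.closedPoints (PrimeSpectrum (WRing (incl I))) =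
    PrimeSpectrum.zeroLocus (I.map (algebraMap A (WRing (incl I)))) := by
  rw [closedPoints_eq]
  ext q
  rw [PrimeSpectrum.mem_zeroLocus, SetLike.coe_subset_coe, Ideal.map_le_iff_le_comap, Set.mem_setOf_eq]
  refine ⟨fun h x hx => ?_, fun h => ?_⟩
  · show x ∈ (PrimeSpectrum.comap (algebraMap A (WRing (incl I))) q).asIdeal
    rw [h]; exact (tOf (incl I) q).2 hx
  · let t' : PrimeSpectrum.zeroLocus (R := A) I :=
      ⟨PrimeSpectrum.comap (algebraMap A (WRing (incl I))) q, h⟩
    have hsp : t' ⤳ tOf (incl I) q := IsEmbedding.subtypeVal.isInducing.specializes_iff.1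
      ((PrimeSpectrum.le_iff_specializes _ _).1 (le_tOf (incl I) q))
    exact congrArg Subtype.val hsp.eq

end Along

/-- The w-localisation along `V(I)`. -/
theorem exists_wLocal_along (A : Type u) [CommRing A] (I : Ideal A)
    (hI : ProEtW.IsProfinite (PrimeSpectrum.zeroLocus (R := A) I)) :
    ∃ (B : Type u) (_ : CommRing B) (_ : Algebra A B),
      EtPBC.IsIndZariski A B ∧ ProEtW.IsWLocal (PrimeSpectrum B) ∧
      ProEtW.closedPoints (PrimeSpectrum B) = PrimeSpectrum.zeroLocus (I.map (algebraMap A B)) ∧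
      Function.Bijective (Ideal.quotientMap (I.map (algebraMap A B)) (algebraMap A B)
        Ideal.le_comap_map) := by
  obtain ⟨h1, h2, h3⟩ := hI
  exact ⟨WRing (incl I), inferInstance, inferInstance, isIndZariski_wRing _,
    isWLocal_wRing _ (closedPoints_eq_zeroLocus I ▸ PrimeSpectrum.isClosed_zeroLocus _),
    closedPoints_eq_zeroLocus I, quotientMap_bijective I⟩

end Groth.Agent.WLocalLib
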