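import Mathlib
import Groth.Prelude.Def_ProEtW
import Groth.Agent.WLocalLib.Along

/-!
Basic properties of weakly étale algebras.
-/

set_option autoImplicit false

open scoped TensorProduct

universe u

namespace Groth.Agent.WLocalLib

/-- An element killed by a flat surjection is killed by an element mapping to `1`. -/
theorem exists_kill {R S : Type u} [CommRing R] [CommRing S] {φ : R →+* S} (hφ : φ.Flat)
    (hs : Function.Surjective φ) (a : R) (ha : φ a = 0) : ∃ s, φ s = 1 ∧ s * a = 0 := by
  letI := φ.toAlgebra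
  haveI : Module.Flat R S := hφ
  let M : R →ₗ[R] R := LinearMap.lsmul R R a
  have hex : Function.Exact (LinearMap.ker M).subtype M := LinearMap.exact_subtype_ker_map M
  have h0 : LinearMap.rTensor S M ((1 : R) ⊗ₜ (1 : S)) = 0 := by
    apply (TensorProduct.lid R S).injective
    simp only [M, LinearMap.rTensor_tmul, LinearMap.lsmul_apply, smul_eq_mul, mul_one,
      TensorProduct.lid_tmul, map_zero, Algebra.smul_def, RingHom.algebraMap_toAlgebra]
    exact ha
  obtain ⟨y, hy⟩ := (Module.Flat.rTensor_exact S hex _).mp h0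
  let K : Ideal R := LinearMap.ker M
  have h1 : ∀ z, TensorProduct.lid R S (LinearMap.rTensor S (LinearMap.ker M).subtype z) ∈ K.map φ := by
    intro z
    induction z using TensorProduct.induction_on with
    | zero => simp
    | tmul c l =>
      simp only [LinearMap.rTensor_tmul, Submodule.coe_subtype, TensorProduct.lid_tmul,
        Algebra.smul_def, RingHom.algebraMap_toAlgebra]
      exact Ideal.mul_mem_right _ _ (Ideal.mem_map_of_mem φ c.2)
    | add x y hx hy => simp only [map_add]; exact add_mem hx hy
  have := h1 y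
  rw [hy, TensorProduct.lid_tmul, one_smul] at this
  obtain ⟨s, hsK, hs1⟩ := (Ideal.mem_map_iff_of_surjective φ hs).1 this
  exact ⟨s, hs1, by rw [mul_comm]; exact hsK⟩

section Flat

variable {A B : Type u} [CommRing A] [CommRing B] [Algebra A B]
variable (N M : Type u) [AddCommGroup N] [Module A N] [Module B N] [IsScalarTower A B N]
  [AddCommGroup M] [Module A M] [Module B M] [IsScalarTower A B M]

/-- The action of `B ⊗ B` on a tensor product of modules. -/
noncomputable def biAct : B ⊗[A] B →ₐ[A] Module.End A (N ⊗[A] M) :=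
  Algebra.TensorProduct.lift
    ((Module.End.rTensorAlgHom A N M).comp (Algebra.lsmul A A N))
    ((Module.End.lTensorAlgHom A M N).comp (Algebra.lsmul A A M))
    fun x y => TensorProduct.ext' fun n m => rfl

theorem biAct_tmul (b c : B) (n : N) (m : M) :
    biAct N M (b ⊗ₜ[A] c) (n ⊗ₜ[A] m) = (b • n) ⊗ₜ[A] (c • m) := by
  rfl

/-- The canonical map to the tensor product over `B`. -/
noncomputable def toTens : N ⊗[A] M →ₗ[A] N ⊗[B] M :=
  TensorProduct.lift (((TensorProduct.mk B N M).restrictScalars₁₂ A A))

theorem toTens_tmul (n : N) (m : M) : toTens (A := A) (B := B) N M (n ⊗ₜ[A] m) = n ⊗ₜ[B] m := rfl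

theorem toTens_surjective : Function.Surjective (toTens (A := A) (B := B) N M) := by
  intro z
  induction z using TensorProduct.induction_on with
  | zero => exact ⟨0, map_zero _⟩
  | tmul n m => exact ⟨n ⊗ₜ[A] m, rfl⟩
  | add x y hx hy =>
    obtain ⟨x, rfl⟩ := hx
    obtain ⟨y, rfl⟩ := hy
    exact ⟨x + y, map_add _ _ _⟩

theorem toTens_biAct (s : B ⊗[A] B) (z : N ⊗[A] M) :
    toTens (A := A) (B := B) N M (biAct N M s z) =
      Algebra.TensorProduct.lmul' A (S := B) s • toTens (A := A) (B := B) N M z := by
  induction s using TensorProduct.induction_on with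
  | zero => simp
  | tmul b c =>
    induction z using TensorProduct.induction_on with
    | zero => simp
    | tmul n m =>
      rw [biAct_tmul, toTens_tmul, toTens_tmul, Algebra.TensorProduct.lmul'_apply_tmul,
        TensorProduct.tmul_smul, ← TensorProduct.smul_tmul', ← mul_smul, mul_comm]
    | add x y hx hy => simp only [map_add, smul_add, hx, hy]
  | add x y hx hy => simp only [map_add, LinearMap.add_apply, add_smul, hx, hy]

/-- Elements killed by some element mapping to `1`. -/
def killed : Submodule A (N ⊗[A] M) where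
  carrier := {w | ∃ s : B ⊗[A] B, Algebra.TensorProduct.lmul' A (S := B) s = 1 ∧ biAct N M s w = 0}
  zero_mem' := ⟨1, map_one _, map_zero _⟩
  add_mem' := by
    rintro w w' ⟨s, hs, hw⟩ ⟨s', hs', hw'⟩
    refine ⟨s * s', by rw [map_mul, hs, hs', one_mul], ?_⟩
    rw [map_add]
    nth_rw 1 [mul_comm s s']
    rw [map_mul, map_mul, Module.End.mul_apply, Module.End.mul_apply, hw, hw', map_zero, map_zero,
      add_zero]
  smul_mem' := by
    rintro a w ⟨s, hs, hw⟩
    exact ⟨s, hs, by rw [map_smul, hw, smul_zero]⟩

theorem mem_killed_of_toTens [Algebra.WeaklyEtale A B] {w : N ⊗[A] M}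
    (h : toTens (A := A) (B := B) N M w = 0) : w ∈ killed (A := A) (B := B) N M := by
  let K := killed (A := A) (B := B) N M
  let g : N →+ M →+ (N ⊗[A] M) ⧸ K :=
    { toFun := fun n =>
        { toFun := fun m => Submodule.Quotient.mk (n ⊗ₜ[A] m)
          map_zero' := by simp
          map_add' := fun m m' => by simp [TensorProduct.tmul_add] }
      map_zero' := by ext m; simp
      map_add' := fun n n' => by ext m; simp [TensorProduct.add_tmul] }
  let L : N ⊗[B] M →+ (N ⊗[A] M) ⧸ K := TensorProduct.liftAddHom g fun b n m => by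
    show Submodule.Quotient.mk ((b • n) ⊗ₜ[A] m) = Submodule.Quotient.mk (n ⊗ₜ[A] (b • m))
    rw [Submodule.Quotient.eq]
    obtain ⟨s, hs, hsa⟩ := exists_kill (Algebra.WeaklyEtale.flat_lmul' A B)
      (fun x => ⟨x ⊗ₜ 1, by simp⟩) (b ⊗ₜ[A] 1 - 1 ⊗ₜ[A] b) (by simp)
    refine ⟨s, hs, ?_⟩
    have h1 : (b • n) ⊗ₜ[A] m - n ⊗ₜ[A] (b • m) = biAct N M (b ⊗ₜ[A] 1 - 1 ⊗ₜ[A] b) (n ⊗ₜ[A] m) := by
      rw [map_sub, LinearMap.sub_apply, biAct_tmul, biAct_tmul, one_smul, one_smul]
    rw [h1, ← Module.End.mul_apply, ← map_mul, hsa, map_zero, LinearMap.zero_apply]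
  have hL : ∀ v, L (toTens (A := A) (B := B) N M v) = Submodule.Quotient.mk v := fun v => by
    induction v using TensorProduct.induction_on with
    | zero => simp
    | tmul n m => rfl
    | add x y hx hy => rw [map_add, map_add, hx, hy, Submodule.Quotient.mk_add]
  have := hL w
  rw [h, map_zero] at this
  exact (Submodule.Quotient.mk_eq_zero _).1 this.symm

end Flat

/-- A module over a weakly étale algebra which is flat over the base is flat. -/
theorem flat_of_weaklyEtale {A B : Type u} [CommRing A] [CommRing B] [Algebra A B]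
    [Algebra.WeaklyEtale A B] (N : Type u) [AddCommGroup N] [Module A N] [Module B N]
    [IsScalarTower A B N] [Module.Flat A N] : Module.Flat B N := by
  rw [Module.Flat.iff_lTensor_preserves_injective_linearMap]
  intro M M' _ _ _ _ f hf
  letI : Module A M := Module.compHom M (algebraMap A B)
  haveI : IsScalarTower A B M := IsScalarTower.of_algebraMap_smul fun _ _ => rfl
  letI : Module A M' := Module.compHom M' (algebraMap A B)
  haveI : IsScalarTower A B M' := IsScalarTower.of_algebraMap_smul fun _ _ => rfl
  rw [injective_iff_map_eq_zero]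
  intro z hz
  obtain ⟨z, rfl⟩ := toTens_surjective (A := A) (B := B) N M z
  let fA : M →ₗ[A] M' := f.restrictScalars A
  have hnat : ∀ v, toTens (A := A) (B := B) N M' (fA.lTensor N v) =
      f.lTensor N (toTens (A := A) (B := B) N M v) := fun v => by
    induction v using TensorProduct.induction_on with
    | zero => simp
    | tmul n m => rfl
    | add x y hx hy => simp only [map_add, hx, hy]
  obtain ⟨s, hs, hsz⟩ := mem_killed_of_toTens (A := A) (B := B) N M' ((hnat z).trans hz)
  have hcomm : ∀ (s : B ⊗[A] B) (v : N ⊗[A] M),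
      fA.lTensor N (biAct N M s v) = biAct N M' s (fA.lTensor N v) := fun s v => by
    induction s using TensorProduct.induction_on with
    | zero => simp
    | tmul b c =>
      induction v using TensorProduct.induction_on with
      | zero => simp
      | tmul n m => simp [biAct_tmul, fA]
      | add x y hx hy => simp only [map_add, hx, hy]
    | add x y hx hy => simp only [map_add, LinearMap.add_apply, hx, hy]
  have h0 : biAct N M s z = 0 :=
    Module.Flat.lTensor_preserves_injective_linearMap fA hf ((hcomm s z).trans (hsz.trans (map_zero _).symm))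
  have := congrArg (toTens (A := A) (B := B) N M) h0
  rwa [toTens_biAct, hs, one_smul, map_zero] at this

/-- Weakly étale algebras over fields have all primes maximal. -/
theorem isMaximal_of_weaklyEtale_field {K C : Type u} [Field K] [CommRing C] [Algebra K C]
    [Algebra.WeaklyEtale K C] (P : Ideal C) [P.IsPrime] : P.IsMaximal := by
  refine Ideal.Quotient.maximal_of_isField _ ⟨exists_pair_ne _, mul_comm, fun {z} hz => ?_⟩
  obtain ⟨x, rfl⟩ := Ideal.Quotient.mk_surjective z
  have hflat : Module.Flat C (C ⧸ Ideal.span {x * x}) := flat_of_weaklyEtale (A := K) _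
  obtain ⟨s, hs, hsx⟩ := exists_kill (φ := algebraMap C (C ⧸ Ideal.span {x * x}))
    ((RingHom.flat_algebraMap_iff).2 hflat) Ideal.Quotient.mk_surjective (x * x)
    (Ideal.Quotient.eq_zero_iff_mem.2 (Ideal.mem_span_singleton_self _))
  have hs' : s - 1 ∈ Ideal.span {x * x} := Ideal.Quotient.eq.1 (hs.trans (map_one _).symm)
  obtain ⟨c, hc⟩ := Ideal.mem_span_singleton'.1 hs'
  refine ⟨Ideal.Quotient.mk P (-(c * x)), ?_⟩
  rw [← map_mul, ← map_one (Ideal.Quotient.mk P), Ideal.Quotient.eq]
  have hxP : x ∉ P := fun h => hz (Ideal.Quotient.eq_zero_iff_mem.2 h)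
  have hsP : s ∈ P := by
    have h2 : s * (x * x) ∈ P := hsx ▸ zero_mem P
    exact (Ideal.IsPrime.mem_or_mem ‹_› h2).resolve_right fun h =>
      (Ideal.IsPrime.mem_or_mem ‹_› h).elim hxP hxP
  rw [show x * -(c * x) - 1 = -s by linear_combination -hc]
  exact neg_mem hsP

/-- Weakly étale algebras have incomparable fibres. -/
theorem incomparable_of_weaklyEtale {A B : Type u} [CommRing A] [CommRing B] [Algebra A B]
    [Algebra.WeaklyEtale A B] (q q' : PrimeSpectrum B)
    (he : q.asIdeal.comap (algebraMap A B) = q'.asIdeal.comap (algebraMap A B))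
    (hle : q.asIdeal ≤ q'.asIdeal) : q = q' := by
  let p : PrimeSpectrum A := PrimeSpectrum.comap (algebraMap A B) q
  let e := PrimeSpectrum.preimageOrderIsoFiber A B p
  have hq' : PrimeSpectrum.comap (algebraMap A B) q' = p := PrimeSpectrum.ext he.symm
  let a : PrimeSpectrum.comap (algebraMap A B) ⁻¹' {p} := ⟨q, rfl⟩
  let b : PrimeSpectrum.comap (algebraMap A B) ⁻¹' {p} := ⟨q', hq'⟩
  have hab : a ≤ b := hle
  have h1 : (e a).asIdeal ≤ (e b).asIdeal := e.monotone hab
  have : e a = e b := PrimeSpectrum.ext
    ((isMaximal_of_weaklyEtale_field (K := p.asIdeal.ResidueField) (e a).asIdeal).eq_of_le (e b).2.ne_top h1)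
  exact congrArg Subtype.val (e.injective this)

/-- Algebraic residue extensions are stable under base change. -/
theorem algebraicResidueExtensions_baseChange {A B C : Type u} [CommRing A] [CommRing B]
    [CommRing C] [Algebra A B] [Algebra A C] (h : ProEtW.AlgebraicResidueExtensions A B) :
    ProEtW.AlgebraicResidueExtensions C (C ⊗[A] B) := by
  intro q hq
  let Q := C ⧸ q.comap (algebraMap C (C ⊗[A] B))
  refine ⟨fun z => ?_⟩
  obtain ⟨w, rfl⟩ := Ideal.Quotient.mk_surjective z
  haveI : (q.comap (algebraMap C (C ⊗[A] B))).IsPrime := inferInstance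
  haveI : IsDomain Q := inferInstance
  induction w using TensorProduct.induction_on with
  | zero => rw [map_zero]; exact isAlgebraic_zero
  | add x y hx hy => rw [map_add]; exact hx.add hy
  | tmul c b =>
    let r : B →+* (C ⊗[A] B) := (Algebra.TensorProduct.includeRight : B →ₐ[A] C ⊗[A] B).toRingHom
    have hb : IsAlgebraic Q (Ideal.Quotient.mk q (r b)) := by
      haveI : (q.comap r).IsPrime := inferInstance
      obtain ⟨P, hP0, hP⟩ := (h (q.comap r)).isAlgebraic (Ideal.Quotient.mk _ b)
      have hpq : ∀ a : A, a ∈ (q.comap r).comap (algebraMap A B) ↔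
          algebraMap A C a ∈ q.comap (algebraMap C (C ⊗[A] B)) := fun a => by
        simp [r, Ideal.mem_comap, Algebra.TensorProduct.algebraMap_apply]
      let ι : A ⧸ (q.comap r).comap (algebraMap A B) →+* Q :=
        Ideal.quotientMap _ (algebraMap A C) fun a ha => (hpq a).1 ha
      have hι : Function.Injective ι := Ideal.quotientMap_injective' fun a ha => (hpq a).2 ha
      refine ⟨P.map ι, (Polynomial.map_ne_zero_iff hι).2 hP0, ?_⟩
      let κ : B ⧸ q.comap r →+* (C ⊗[A] B) ⧸ q := Ideal.quotientMap q r le_rfl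
      have hsq : (algebraMap Q ((C ⊗[A] B) ⧸ q)).comp ι =
          κ.comp (algebraMap (A ⧸ (q.comap r).comap (algebraMap A B)) (B ⧸ q.comap r)) := by
        refine Ideal.Quotient.ringHom_ext (RingHom.ext fun a => ?_)
        show Ideal.Quotient.mk q (algebraMap C (C ⊗[A] B) (algebraMap A C a)) =
          Ideal.Quotient.mk q (r (algebraMap A B a))
        congr 1
        simp [r]
      rw [Polynomial.aeval_def, Polynomial.eval₂_map, hsq]
      show Polynomial.eval₂ _ (κ (Ideal.Quotient.mk _ b)) P = 0
      rw [← Polynomial.hom_eval₂, ← Polynomial.aeval_def, hP, map_zero]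
    have hc : IsAlgebraic Q (Ideal.Quotient.mk q (algebraMap C (C ⊗[A] B) c)) :=
      isAlgebraic_algebraMap (Ideal.Quotient.mk (q.comap (algebraMap C (C ⊗[A] B))) c)
    have he : Ideal.Quotient.mk q (c ⊗ₜ[A] b) =
        Ideal.Quotient.mk q (algebraMap C (C ⊗[A] B) c) * Ideal.Quotient.mk q (r b) := by
      rw [← map_mul]; simp [r]
    rw [he]
    exact hc.mul hb

end Groth.Agent.WLocalLib
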