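import Mathlib
import Groth.Prelude.Def_ProEtW
import Groth.Prelude.Def_EtBase

/-!
Transport of strict henselianity and auxiliary facts on residue extensions and tensor products.
-/

set_option autoImplicit false

open scoped TensorProduct
open Polynomial

universe u

namespace Groth.Agent.WLocalLib

theorem isSepClosed_of_ringEquiv {k k' : Type u} [Field k] [Field k'] (e : k ≃+* k')
    [IsSepClosed k] : IsSepClosed k' := by
  refine IsSepClosed.of_exists_root k' fun p _ hirr hsep => ?_
  have hdeg : (p.map (e.symm : k' →+* k)).degree ≠ 0 := by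
    rw [degree_map]
    exact (degree_pos_of_irreducible hirr).ne'
  obtain ⟨x, hx⟩ := IsSepClosed.exists_root (p.map (e.symm : k' →+* k)) hdeg hsep.map
  refine ⟨e x, ?_⟩
  have h2 := congrArg e hx
  rw [map_zero, eval_map, ← RingHom.coe_coe e, hom_eval₂] at h2
  rw [← h2, eval, eval₂_congr rfl rfl rfl]
  congr 1
  ext a
  simp

theorem isStrictlyHenselian_of_ringEquiv {R S : Type u} [CommRing R] [CommRing S] (e : R ≃+* S)
    (h : EtCoh.IsStrictlyHenselianLocalRing R) : EtCoh.IsStrictlyHenselianLocalRing S := by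
  obtain ⟨hR, hk⟩ := h
  haveI : IsLocalRing S := e.isLocalRing
  have hmax : ∀ x : S, e.symm x ∈ IsLocalRing.maximalIdeal R ↔ x ∈ IsLocalRing.maximalIdeal S :=
    fun x => by simp [IsLocalRing.mem_maximalIdeal, mem_nonunits_iff]
  have hS : HenselianLocalRing S := by
    refine ⟨fun f hf a₀ h1 h2 => ?_⟩
    have hev : ∀ (q : S[X]) (x : S), (q.map (e.symm : S →+* R)).eval (e.symm x) = e.symm (q.eval x) :=
      fun q x => by rw [← RingHom.coe_coe e.symm, eval_map, eval₂_at_apply]
    obtain ⟨a, ha, ha'⟩ := hR.is_henselian (f.map (e.symm : S →+* R)) (hf.map _) (e.symm a₀)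
      (by rw [hev]; exact (hmax _).2 h1)
      (by rw [derivative_map, hev]; exact h2.map e.symm)
    refine ⟨e a, ?_, (hmax _).1 (by rwa [map_sub, e.symm_apply_apply])⟩
    have h3 := hev f (e a)
    rw [e.symm_apply_apply, ha] at h3
    exact e.symm.injective (h3.symm.trans (map_zero _).symm)
  exact ⟨hS, isSepClosed_of_ringEquiv (IsLocalRing.ResidueField.mapEquiv e)⟩

theorem algebraicResidueExtensions_of_algEquiv {C X X' : Type u} [CommRing C] [CommRing X]
    [CommRing X'] [Algebra C X] [Algebra C X'] (e : X ≃ₐ[C] X')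
    (h : ProEtW.AlgebraicResidueExtensions C X) : ProEtW.AlgebraicResidueExtensions C X' := by
  intro q hq
  let q' : Ideal X := q.comap e.toAlgHom
  haveI : q'.IsPrime := inferInstance
  have hp : q'.comap (algebraMap C X) = q.comap (algebraMap C X') := by
    ext c
    show e (algebraMap C X c) ∈ q ↔ algebraMap C X' c ∈ q
    rw [e.commutes]
  refine ⟨fun z => ?_⟩
  obtain ⟨x', rfl⟩ := Ideal.Quotient.mk_surjective z
  obtain ⟨P, hP0, hP⟩ := (h q').isAlgebraic (Ideal.Quotient.mk q' (e.symm x'))
  let ι : C ⧸ q'.comap (algebraMap C X) ≃+* C ⧸ q.comap (algebraMap C X') := Ideal.quotEquivOfEq hp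
  refine ⟨P.map (ι : _ →+* _), (Polynomial.map_ne_zero_iff ι.injective).2 hP0, ?_⟩
  let κ : X ⧸ q' →+* X' ⧸ q := Ideal.quotientMap q e.toAlgHom.toRingHom le_rfl
  have hsq : (algebraMap (C ⧸ q.comap (algebraMap C X')) (X' ⧸ q)).comp (ι : _ →+* _) =
      κ.comp (algebraMap (C ⧸ q'.comap (algebraMap C X)) (X ⧸ q')) := by
    refine Ideal.Quotient.ringHom_ext (RingHom.ext fun c => ?_)
    show Ideal.Quotient.mk q (algebraMap C X' c) = Ideal.Quotient.mk q (e (algebraMap C X c))
    rw [e.commutes]
  rw [Polynomial.aeval_def, Polynomial.eval₂_map, hsq,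
    show Ideal.Quotient.mk q x' = κ (Ideal.Quotient.mk q' (e.symm x')) by
      show _ = Ideal.Quotient.mk q (e (e.symm x'))
      rw [e.apply_symm_apply],
    ← Polynomial.hom_eval₂, ← Polynomial.aeval_def, hP, map_zero]

theorem exists_prime_tensor {A B C : Type u} [CommRing A] [CommRing B] [CommRing C] [Algebra A B]
    [Algebra A C] (q : PrimeSpectrum B) (m : PrimeSpectrum C)
    (h : PrimeSpectrum.comap (algebraMap A B) q = PrimeSpectrum.comap (algebraMap A C) m) :
    ∃ P : PrimeSpectrum (B ⊗[A] C),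
      PrimeSpectrum.comap (Algebra.TensorProduct.includeLeftRingHom : B →+* B ⊗[A] C) P = q ∧
      PrimeSpectrum.comap (Algebra.TensorProduct.includeRight : C →ₐ[A] B ⊗[A] C).toRingHom P = m := by
  suffices key : ∀ (Ω : Type u) [Field Ω] (iB : q.asIdeal.ResidueField →+* Ω)
      (iC : m.asIdeal.ResidueField →+* Ω), (∀ a : A, iC (algebraMap A m.asIdeal.ResidueField a) =
        iB (algebraMap A q.asIdeal.ResidueField a)) →
      ∃ P : PrimeSpectrum (B ⊗[A] C),
        PrimeSpectrum.comap (Algebra.TensorProduct.includeLeftRingHom : B →+* B ⊗[A] C) P = q ∧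
        PrimeSpectrum.comap (Algebra.TensorProduct.includeRight : C →ₐ[A] B ⊗[A] C).toRingHom P = m by
    let p : Ideal A := q.asIdeal.comap (algebraMap A B)
    have hm : p = m.asIdeal.comap (algebraMap A C) := congrArg PrimeSpectrum.asIdeal h
    let fq := Ideal.ResidueField.map p q.asIdeal (algebraMap A B) rfl
    let fm := Ideal.ResidueField.map p m.asIdeal (algebraMap A C) hm
    letI : Algebra p.ResidueField q.asIdeal.ResidueField := fq.toAlgebra
    letI : Algebra p.ResidueField m.asIdeal.ResidueField := fm.toAlgebra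
    let T := q.asIdeal.ResidueField ⊗[p.ResidueField] m.asIdeal.ResidueField
    haveI : Nontrivial T :=
      (Algebra.TensorProduct.includeLeft_injective (S := p.ResidueField)
        (RingHom.injective (algebraMap p.ResidueField m.asIdeal.ResidueField))).nontrivial
    obtain ⟨M, hM⟩ := Ideal.exists_maximal T
    letI : Field (T ⧸ M) := Ideal.Quotient.field M
    refine key (T ⧸ M) ((Ideal.Quotient.mk M).comp Algebra.TensorProduct.includeLeftRingHom)
      ((Ideal.Quotient.mk M).comp (Algebra.TensorProduct.includeRight :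
        m.asIdeal.ResidueField →ₐ[p.ResidueField] T).toRingHom) fun a => ?_
    have e1 : fq (algebraMap A p.ResidueField a) = algebraMap A q.asIdeal.ResidueField a := by
      simp [fq, ← IsScalarTower.algebraMap_apply]
    have e2 : fm (algebraMap A p.ResidueField a) = algebraMap A m.asIdeal.ResidueField a := by
      simp [fm, ← IsScalarTower.algebraMap_apply]
    rw [← e1, ← e2]
    show Ideal.Quotient.mk M _ = Ideal.Quotient.mk M _
    congr 1
    show (1 : q.asIdeal.ResidueField) ⊗ₜ algebraMap p.ResidueField m.asIdeal.ResidueField _ =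
      algebraMap p.ResidueField q.asIdeal.ResidueField _ ⊗ₜ (1 : m.asIdeal.ResidueField)
    rw [Algebra.algebraMap_eq_smul_one (A := q.asIdeal.ResidueField),
      Algebra.algebraMap_eq_smul_one (A := m.asIdeal.ResidueField), TensorProduct.smul_tmul]
  intro Ω _ iB iC hA
  letI : Algebra A Ω := (iB.comp (algebraMap A q.asIdeal.ResidueField)).toAlgebra
  let φB : B →ₐ[A] Ω :=
    { iB.comp (algebraMap B q.asIdeal.ResidueField) with
      commutes' := fun a => by
        show iB (algebraMap B q.asIdeal.ResidueField (algebraMap A B a)) = _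
        rw [← IsScalarTower.algebraMap_apply]; rfl }
  let φC : C →ₐ[A] Ω :=
    { iC.comp (algebraMap C m.asIdeal.ResidueField) with
      commutes' := fun a => by
        show iC (algebraMap C m.asIdeal.ResidueField (algebraMap A C a)) = _
        rw [← IsScalarTower.algebraMap_apply, hA]; rfl }
  let ψ : B ⊗[A] C →ₐ[A] Ω := Algebra.TensorProduct.lift φB φC fun x y => Commute.all _ _
  refine ⟨PrimeSpectrum.comap ψ.toRingHom ⟨⊥, Ideal.isPrime_bot⟩, PrimeSpectrum.ext (Ideal.ext fun b => ?_),
    PrimeSpectrum.ext (Ideal.ext fun c => ?_)⟩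
  · show ψ (b ⊗ₜ 1) ∈ (⊥ : Ideal Ω) ↔ b ∈ q.asIdeal
    rw [Algebra.TensorProduct.lift_tmul, map_one, mul_one, Ideal.mem_bot]
    show iB (algebraMap B q.asIdeal.ResidueField b) = 0 ↔ _
    rw [map_eq_zero, Ideal.algebraMap_residueField_eq_zero]
  · show ψ ((1 : B) ⊗ₜ c) ∈ (⊥ : Ideal Ω) ↔ c ∈ m.asIdeal
    rw [Algebra.TensorProduct.lift_tmul, map_one, one_mul, Ideal.mem_bot]
    show iC (algebraMap C m.asIdeal.ResidueField c) = 0 ↔ _
    rw [map_eq_zero, Ideal.algebraMap_residueField_eq_zero]

end Groth.Agent.WLocalLib
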