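import Groth.Agent.WLocalLib.WeakEtale
import Mathlib

/-!
Weakly étale algebras over reduced rings are reduced.
-/

set_option autoImplicit false

open scoped TensorProduct

universe u

namespace Groth.Agent.WLocalLib

/-- Over an absolutely flat ring, a weakly étale algebra is reduced. -/
theorem isReduced_of_weaklyEtale_flat {A B : Type u} [CommRing A] [CommRing B] [Algebra A B]
    [Algebra.WeaklyEtale A B]
    (hA : ∀ (M : Type u) [AddCommGroup M] [Module A M], Module.Flat A M) : IsReduced B := by
  refine ⟨fun x hx => ?_⟩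
  haveI : Module.Flat A (B ⧸ Ideal.span {x}) := hA _
  have hflat : Module.Flat B (B ⧸ Ideal.span {x}) := flat_of_weaklyEtale (A := A) _
  obtain ⟨s, hs, hsx⟩ := exists_kill (φ := algebraMap B (B ⧸ Ideal.span {x}))
    ((RingHom.flat_algebraMap_iff).2 hflat) Ideal.Quotient.mk_surjective x
    (Ideal.Quotient.eq_zero_iff_mem.2 (Ideal.mem_span_singleton_self _))
  obtain ⟨c, hc⟩ := Ideal.mem_span_singleton'.1 (Ideal.Quotient.eq.1 (hs.trans (map_one _).symm))
  have hu : IsUnit s := by
    rw [show s = c * x + 1 by linear_combination -hc]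
    exact ((Commute.all c x).isNilpotent_mul_left hx).isUnit_add_one
  exact (IsUnit.mul_right_eq_zero hu).1 hsx

theorem isMaximal_of_isPrime_pi {ι : Type u} (K : ι → Type u) [∀ i, Field (K i)]
    (P : Ideal (∀ i, K i)) [P.IsPrime] : P.IsMaximal := by
  refine Ideal.Quotient.maximal_of_isField _ ⟨exists_pair_ne _, mul_comm, fun {z} hz => ?_⟩
  obtain ⟨a, rfl⟩ := Ideal.Quotient.mk_surjective z
  refine ⟨Ideal.Quotient.mk P fun i => (a i)⁻¹, ?_⟩
  have h0 : Ideal.Quotient.mk P a * (Ideal.Quotient.mk P a * Ideal.Quotient.mk P (fun i => (a i)⁻¹) - 1) = 0 := by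
    rw [← map_one (Ideal.Quotient.mk P), ← map_mul, ← map_sub, ← map_mul, ← map_zero (Ideal.Quotient.mk P)]
    congr 1
    funext i
    by_cases h : a i = 0 <;> simp [h]
  exact sub_eq_zero.1 ((mul_eq_zero.1 h0).resolve_left hz)

/-- Over a product of fields every module is flat. -/
theorem flat_pi {ι : Type u} (K : ι → Type u) [∀ i, Field (K i)] (M : Type u) [AddCommGroup M]
    [Module (∀ i, K i) M] : Module.Flat (∀ i, K i) M := by
  refine Module.flat_of_localized_maximal M fun P hP => ?_
  haveI : Ring.KrullDimLE 0 (Localization.AtPrime P) :=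
    Ring.KrullDimLE.mk₀ fun Q hQ => by
      have h1 : Q ≤ IsLocalRing.maximalIdeal (Localization.AtPrime P) := IsLocalRing.le_maximalIdeal hQ.ne_top
      have h2 : Q.under (∀ i, K i) = P := by
        refine (isMaximal_of_isPrime_pi K _).eq_of_le hP.ne_top ?_
        exact (Ideal.comap_mono h1).trans Localization.AtPrime.comap_maximalIdeal.le
      rw [show Q = IsLocalRing.maximalIdeal (Localization.AtPrime P) from by
        rw [← IsLocalization.map_comap P.primeCompl (Localization.AtPrime P) Q, h2]
        exact Localization.AtPrime.map_eq_maximalIdeal]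
      exact IsLocalRing.maximalIdeal.isMaximal _
  haveI : IsReduced (∀ i, K i) := inferInstance
  letI : Field (Localization.AtPrime P) := Ring.KrullDimLE.isField_of_isReduced.toField
  haveI : Module.Flat (Localization.AtPrime P) (LocalizedModule P.primeCompl M) := inferInstance
  exact Module.Flat.trans (∀ i, K i) (Localization.AtPrime P) (LocalizedModule P.primeCompl M)

/-- A weakly étale algebra over a reduced ring is reduced. -/
theorem isReduced_of_weaklyEtale (A B : Type u) [CommRing A] [CommRing B] [Algebra A B] [IsReduced A]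
    [Algebra.WeaklyEtale A B] : IsReduced B := by
  let A' := ∀ p : PrimeSpectrum A, p.asIdeal.ResidueField
  have hinj : Function.Injective (algebraMap A A') := by
    rw [injective_iff_map_eq_zero]
    intro a ha
    have h1 : a ∈ nilradical A := by
      rw [nilradical_eq_sInf]
      refine Ideal.mem_sInf.2 fun {P} hP => ?_
      haveI : P.IsPrime := hP
      exact Ideal.algebraMap_residueField_eq_zero.1 (congrFun ha ⟨P, hP⟩)
    rwa [nilradical_eq_zero, Ideal.zero_eq_bot, Ideal.mem_bot] at h1
  haveI : IsReduced (A' ⊗[A] B) := isReduced_of_weaklyEtale_flat (A := A') (fun M => flat_pi _ M)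
  exact isReduced_of_injective
    (Algebra.TensorProduct.includeRight : B →ₐ[A] A' ⊗[A] B)
    (Algebra.TensorProduct.includeRight_injective hinj)

end Groth.Agent.WLocalLib
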