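import Groth.Prelude.Def_PBC
import Groth.Agent.ProEtLib2.IndEtaleWeakly
import Mathlib

/-!
Ring maps identifying local rings, in terms of elements.
-/

set_option autoImplicit false

open CategoryTheory CategoryTheory.Limits

universe u

namespace Groth.Agent.WLocalLib

/-- The elementwise form of `A_p → B_q` being bijective. -/
def IdAt {A B : Type u} [CommRing A] [CommRing B] (f : A →+* B) (q : Ideal B) : Prop :=
  (∀ a : A, ∀ u ∉ q, u * f a = 0 → ∃ v : A, f v ∉ q ∧ v * a = 0) ∧
  (∀ b : B, ∃ a s : A, f s ∉ q ∧ ∃ u ∉ q, u * (f s * b - f a) = 0)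

theorem idAt_iff_bijective {A B : Type u} [CommRing A] [CommRing B] [Algebra A B]
    (q : PrimeSpectrum B) :
    Function.Bijective (Localization.localRingHom (q.asIdeal.comap (algebraMap A B)) q.asIdeal
      (algebraMap A B) rfl) ↔ IdAt (algebraMap A B) q.asIdeal := by
  let p := q.asIdeal.comap (algebraMap A B)
  let R := Localization.AtPrime p
  let S := Localization.AtPrime q.asIdeal
  let φ : R →+* S := Localization.localRingHom p q.asIdeal (algebraMap A B) rfl
  have hφ : ∀ a : A, φ (algebraMap A R a) = algebraMap B S (algebraMap A B a) := fun a =>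
    Localization.localRingHom_to_map p q.asIdeal (algebraMap A B) rfl a
  constructor
  · intro h
    refine ⟨fun a u hu hua => ?_, fun b => ?_⟩
    · have h1 : φ (algebraMap A R a) = φ (algebraMap A R 0) := by
        rw [hφ, hφ, map_zero, map_zero]
        exact (IsLocalization.map_eq_zero_iff q.asIdeal.primeCompl S _).2 ⟨⟨u, hu⟩, hua⟩
      obtain ⟨⟨v, hv⟩, hva⟩ := (IsLocalization.map_eq_zero_iff p.primeCompl R a).1
        ((h.1 h1).trans (map_zero _))
      exact ⟨v, hv, hva⟩
    · obtain ⟨x, hx⟩ := h.2 (algebraMap B S b)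
      obtain ⟨a, ⟨s, hs⟩, rfl⟩ := IsLocalization.exists_mk'_eq p.primeCompl x
      refine ⟨a, s, hs, ?_⟩
      have h1 : algebraMap B S (algebraMap A B s * b - algebraMap A B a) = 0 := by
        rw [map_sub, map_mul, ← hφ, ← hφ, ← hx, ← map_mul, ← map_sub,
          (IsLocalization.mk'_spec' R a ⟨s, hs⟩ : algebraMap A R s * _ = _),
          sub_self, map_zero]
      obtain ⟨⟨u, hu⟩, hu0⟩ := (IsLocalization.map_eq_zero_iff q.asIdeal.primeCompl S _).1 h1
      exact ⟨u, hu, hu0⟩
  · intro h
    refine ⟨(injective_iff_map_eq_zero φ).2 fun x hx => ?_, fun y => ?_⟩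
    · obtain ⟨a, ⟨s, hs⟩, rfl⟩ := IsLocalization.exists_mk'_eq p.primeCompl x
      have h1 : algebraMap B S (algebraMap A B a) = 0 := by
        rw [← hφ, ← IsLocalization.mk'_spec R a ⟨s, hs⟩, map_mul, hx, zero_mul]
      obtain ⟨⟨u, hu⟩, hu0⟩ := (IsLocalization.map_eq_zero_iff q.asIdeal.primeCompl S _).1 h1
      obtain ⟨v, hv, hva⟩ := h.1 a u hu hu0
      exact (IsLocalization.mk'_eq_zero_iff a _).2 ⟨⟨v, hv⟩, hva⟩
    · obtain ⟨b, ⟨t, ht⟩, rfl⟩ := IsLocalization.exists_mk'_eq q.asIdeal.primeCompl y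
      obtain ⟨a, s, hs, u, hu, hu0⟩ := h.2 b
      obtain ⟨a', s', hs', u', hu', hu0'⟩ := h.2 t
      have ha' : algebraMap A B a' ∉ q.asIdeal := fun ha => by
        have h2 : u' * (algebraMap A B s' * t) ∈ q.asIdeal := by
          rw [show u' * (algebraMap A B s' * t) = u' * algebraMap A B a' by linear_combination hu0']
          exact Ideal.mul_mem_left _ _ ha
        exact (q.2.mem_or_mem h2).elim hu' fun h3 => (q.2.mem_or_mem h3).elim hs' ht
      refine ⟨IsLocalization.mk' R (a * s') (⟨s * a', ?_⟩ : p.primeCompl), ?_⟩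
      · intro hmem
        have h3 : algebraMap A B s * algebraMap A B a' ∈ q.asIdeal := map_mul (algebraMap A B) s a' ▸ hmem
        exact (q.2.mem_or_mem h3).elim hs ha'
      · rw [Localization.localRingHom_mk']
        refine IsLocalization.mk'_eq_iff_eq.2 ?_
        rw [← sub_eq_zero, ← map_sub]
        refine (IsLocalization.map_eq_zero_iff q.asIdeal.primeCompl S _).2
          ⟨⟨u * u', q.asIdeal.primeCompl.mul_mem hu hu'⟩, ?_⟩
        simp only [map_mul]
        linear_combination (-(u' * algebraMap A B a')) * hu0 + (u * algebraMap A B a) * hu0'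

theorem identifiesLocalRings_iff {A B : Type u} [CommRing A] [CommRing B] [Algebra A B] :
    EtPBC.IdentifiesLocalRings A B ↔ ∀ q : PrimeSpectrum B, IdAt (algebraMap A B) q.asIdeal :=
  forall_congr' fun q => idAt_iff_bijective q

theorem IdAt.comp {A B C : Type u} [CommRing A] [CommRing B] [CommRing C] {f : A →+* B}
    {g : B →+* C} (r : PrimeSpectrum C) (hf : IdAt f (r.asIdeal.comap g)) (hg : IdAt g r.asIdeal) :
    IdAt (g.comp f) r.asIdeal := by
  refine ⟨fun a u hu hua => ?_, fun c => ?_⟩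
  · obtain ⟨v, hv, hva⟩ := hg.1 (f a) u hu hua
    exact hf.1 a v hv hva
  · obtain ⟨b, t, ht, u, hu, hu0⟩ := hg.2 c
    obtain ⟨a, s, hs, u', hu', hu0'⟩ := hf.2 b
    obtain ⟨a2, s2, hs2, u2, hu2, hu20⟩ := hf.2 t
    have ha2 : g (f a2) ∉ r.asIdeal := fun ha => by
      have h2 : g u2 * (g (f s2) * g t) ∈ r.asIdeal := by
        have he : g u2 * (g (f s2) * g t) = g u2 * g (f a2) := by
          rw [← map_mul, ← map_mul, ← map_mul]; congr 1; linear_combination hu20
        rw [he]; exact Ideal.mul_mem_left _ _ ha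
      exact (r.2.mem_or_mem h2).elim hu2 fun h3 => (r.2.mem_or_mem h3).elim hs2 ht
    refine ⟨s2 * a, a2 * s, ?_, u * g u' * g u2, ?_, ?_⟩
    · simp only [RingHom.comp_apply, map_mul]
      exact fun h => (r.2.mem_or_mem h).elim ha2 hs
    · exact fun h => (r.2.mem_or_mem h).elim (fun h => (r.2.mem_or_mem h).elim hu hu') hu2
    · have e' : g u' * (g (f s) * g b - g (f a)) = 0 := by
        rw [← map_mul, ← map_sub, ← map_mul, hu0', map_zero]
      have e2 : g u2 * (g (f s2) * g t - g (f a2)) = 0 := by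
        rw [← map_mul, ← map_sub, ← map_mul, hu20, map_zero]
      simp only [RingHom.comp_apply, map_mul]
      linear_combination (g (f s) * g u' * g (f s2) * g u2) * hu0 + (u * g (f s2) * g u2) * e' -
        (u * g u' * g (f s) * c) * e2

theorem IdAt.of_comp {A B C : Type u} [CommRing A] [CommRing B] [CommRing C] {f : A →+* B}
    {g : B →+* C} (r : PrimeSpectrum C) (hf : IdAt f (r.asIdeal.comap g))
    (h : IdAt (g.comp f) r.asIdeal) : IdAt g r.asIdeal := by
  refine ⟨fun b u hu hub => ?_, fun c => ?_⟩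
  · obtain ⟨a, s, hs, u', hu', hu0'⟩ := hf.2 b
    have e' : g u' * (g (f s) * g b - g (f a)) = 0 := by
      rw [← map_mul, ← map_sub, ← map_mul, hu0', map_zero]
    obtain ⟨v, hv, hva⟩ := h.1 a (u * g u') (fun h => (r.2.mem_or_mem h).elim hu hu') (by
      rw [RingHom.comp_apply]
      linear_combination (g u' * g (f s)) * hub - u * e')
    have hva' : f v * f a = 0 := by rw [← map_mul, hva, map_zero]
    refine ⟨f v * f s * u', fun h => ?_, by linear_combination (f v) * hu0' + u' * hva'⟩
    rw [map_mul, map_mul] at h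
    exact (r.2.mem_or_mem h).elim (fun h => (r.2.mem_or_mem h).elim hv hs) hu'
  · obtain ⟨a, s, hs, u, hu, hu0⟩ := h.2 c
    exact ⟨f a, f s, hs, u, hu, hu0⟩

theorem idAt_of_isLocalization {A B : Type u} [CommRing A] [CommRing B] [Algebra A B]
    (S : Submonoid A) [IsLocalization S B] (q : PrimeSpectrum B) :
    IdAt (algebraMap A B) q.asIdeal := by
  have hS : ∀ v ∈ S, algebraMap A B v ∉ q.asIdeal := fun v hv h =>
    q.2.ne_top (Ideal.eq_top_of_isUnit_mem _ h (IsLocalization.map_units B ⟨v, hv⟩))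
  refine ⟨fun a u hu hua => ?_, fun b => ?_⟩
  · obtain ⟨⟨w, ⟨t, ht⟩⟩, hw⟩ := IsLocalization.surj S u
    simp only at hw
    have h0 : algebraMap A B (w * a) = 0 := by
      rw [map_mul, ← hw]; linear_combination (algebraMap A B t) * hua
    obtain ⟨⟨v, hv⟩, hv0⟩ := (IsLocalization.map_eq_zero_iff S B _).1 h0
    refine ⟨v * w, fun h => ?_, by rw [mul_assoc]; exact hv0⟩
    rw [map_mul, ← hw] at h
    exact (q.2.mem_or_mem h).elim (hS v hv) fun h => (q.2.mem_or_mem h).elim hu (hS t ht)
  · obtain ⟨⟨a, ⟨s, hs⟩⟩, h⟩ := IsLocalization.surj S b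
    simp only at h
    exact ⟨a, s, hS s hs, 1, fun h => q.2.ne_top ((Ideal.eq_top_iff_one _).2 h),
      by linear_combination h⟩

theorem idAt_of_isLocalIso {A B : Type u} [CommRing A] [CommRing B] [Algebra A B]
    [Algebra.IsLocalIso A B] (q : PrimeSpectrum B) : IdAt (algebraMap A B) q.asIdeal := by
  obtain ⟨g, hg, hstd⟩ := Algebra.IsLocalIso.exists_notMem_isStandardOpenImmersion (R := A) q.asIdeal
  obtain ⟨r, hr⟩ := Algebra.IsStandardOpenImmersion.exists_away A (Localization.Away g)
  obtain ⟨q', hq'⟩ := (PrimeSpectrum.localization_away_comap_range (Localization.Away g) g).ge hg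
  have hC : IdAt (algebraMap A (Localization.Away g)) q'.asIdeal :=
    idAt_of_isLocalization (Submonoid.powers r) q'
  have hBC := idAt_of_isLocalization (Submonoid.powers g) (B := Localization.Away g) q'
  have hq'' : ∀ b : B, algebraMap B (Localization.Away g) b ∈ q'.asIdeal ↔ b ∈ q.asIdeal := fun b => by
    rw [← hq']; rfl
  refine ⟨fun a u hu hua => ?_, fun b => ?_⟩
  · obtain ⟨v, hv, hva⟩ := hC.1 a (algebraMap B _ u) (fun h => hu ((hq'' u).1 h)) (by
      rw [IsScalarTower.algebraMap_apply A B (Localization.Away g), ← map_mul, hua, map_zero])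
    exact ⟨v, fun h => hv (by
      rw [IsScalarTower.algebraMap_apply A B (Localization.Away g)]; exact (hq'' _).2 h), hva⟩
  · obtain ⟨a, s, hs, u, hu, hu0⟩ := hC.2 (algebraMap B _ b)
    rw [IsScalarTower.algebraMap_apply A B (Localization.Away g)] at hs
    rw [IsScalarTower.algebraMap_apply A B (Localization.Away g) s,
      IsScalarTower.algebraMap_apply A B (Localization.Away g) a, ← map_mul, ← map_sub, mul_comm] at hu0
    obtain ⟨v, hv, hv0⟩ := hBC.1 (algebraMap A B s * b - algebraMap A B a) u hu (by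
      rw [mul_comm]; exact hu0)
    exact ⟨a, s, fun h => hs ((hq'' _).2 h), v, fun h => hv ((hq'' v).2 h), hv0⟩

theorem identifiesLocalRings_of_isIndZariski {A B : Type u} [CommRing A] [CommRing B] [Algebra A B]
    (h : EtPBC.IsIndZariski A B) : EtPBC.IdentifiesLocalRings A B := by
  obtain ⟨J, i1, i2, D, c, hc, hD, ⟨e⟩⟩ := h
  let F := Under.forget (CommRingCat.of A)
  let c' : Cocone (D ⋙ F) := (F.mapCocone c).extend (F.map e.hom)
  have hc' : IsColimit c' := IsColimit.extendIso (F.map e.hom) (isColimitOfPreserves F hc)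
  rw [identifiesLocalRings_iff]
  intro q
  let ψ : ∀ j, (D.obj j).right →+* B := fun j => (c'.ι.app j).hom
  have hw : ∀ j (a : A), ψ j ((D.obj j).hom.hom a) = algebraMap A B a := fun j a => by
    have h1 := Under.w (c.ι.app j ≫ e.hom)
    exact congr($(h1).hom a)
  have hid : ∀ j, IdAt (D.obj j).hom.hom (q.asIdeal.comap (ψ j)) := fun j => by
    letI := (D.obj j).hom.hom.toAlgebra
    haveI : Algebra.IsLocalIso A (D.obj j).right := hD j
    exact idAt_of_isLocalIso (A := A) (B := (D.obj j).right) (PrimeSpectrum.comap (ψ j) q)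
  refine ⟨fun a u hu hua => ?_, fun b => ?_⟩
  · obtain ⟨j, u', rfl⟩ := Concrete.isColimit_exists_rep (D ⋙ F) hc' u
    let x : (D.obj j).right := u'
    have h0 : ψ j (x * (D.obj j).hom.hom a) = ψ j 0 := by
      rw [map_mul, map_zero, hw]; exact hua
    obtain ⟨k, f, g, hfg⟩ := (Concrete.isColimit_rep_eq_iff_exists (D ⋙ F) hc'
      (x * (D.obj j).hom.hom a : (D.obj j).right) (0 : (D.obj j).right)).1 h0
    let m : (D.obj j).right →+* (D.obj k).right := (D.map f).right.hom
    have hfg' : m x * (D.obj k).hom.hom a = 0 := by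
      have hwk : m ((D.obj j).hom.hom a) = (D.obj k).hom.hom a := congr($(Under.w (D.map f)).hom a)
      rw [← hwk, ← map_mul]
      exact hfg.trans (map_zero (D.map g).right.hom)
    obtain ⟨v, hv, hva⟩ := (hid k).1 a (m x) (fun h => hu (by
      have h' : ψ k (m x) ∈ q.asIdeal := h
      have hn : ψ k (m x) = ψ j x := congr($(c'.w f).hom u')
      rw [hn] at h'
      exact h')) hfg'
    refine ⟨v, fun h => hv ?_, hva⟩
    show ψ k ((D.obj k).hom.hom v) ∈ q.asIdeal
    rwa [hw]
  · obtain ⟨j, b', rfl⟩ := Concrete.isColimit_exists_rep (D ⋙ F) hc' b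
    obtain ⟨a, s, hs, u, hu, hu0⟩ := (hid j).2 b'
    refine ⟨a, s, fun h => hs ?_, ψ j u, hu, ?_⟩
    · show ψ j ((D.obj j).hom.hom s) ∈ q.asIdeal
      rwa [hw]
    · let y : (D.obj j).right := b'
      have h2 : ψ j (u * ((D.obj j).hom.hom s * y - (D.obj j).hom.hom a)) = ψ j 0 := congrArg _ hu0
      rw [map_mul, map_sub, map_mul, map_zero, hw, hw] at h2
      exact h2

end Groth.Agent.WLocalLib
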