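import Groth.Agent.WLocalLib.LocConst
import Groth.Prelude.Def_ProEtW

/-!
The ind-Zariski ring attached to a profinite space mapping to `Spec A`, and its w-local spectrum.
-/

set_option autoImplicit false

open Topology

universe u

namespace Groth.Agent.WLocalLib

theorem isIndEtale_of_isIndZariski {A B : Type u} [CommRing A] [CommRing B] [Algebra A B]
    (h : EtPBC.IsIndZariski A B) : EtPBC.IsIndEtale A B := by
  obtain ⟨J, i1, i2, D, c, hc, h, e⟩ := h
  refine ⟨J, i1, i2, D, c, hc, fun j => ?_, e⟩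
  letI := (D.obj j).hom.hom.toAlgebra
  haveI : Algebra.IsLocalIso A (D.obj j).right := h j
  exact ProEtLib2.etale_of_isLocalIso

variable {A : Type u} [CommRing A] {T : Type u} [TopologicalSpace T]
  (ι : C(T, PrimeSpectrum A))

/-- Functions not vanishing along `ι`. -/
def wSubmonoid : Submonoid (LC A T) where
  carrier := {s | ∀ t, s t ∉ (ι t).asIdeal}
  mul_mem' := fun ha hb t h => ((ι t).2.mem_or_mem h).elim (ha t) (hb t)
  one_mem' := fun t h => (ι t).2.ne_top ((Ideal.eq_top_iff_one _).2 h)

/-- The ring attached to `ι`. -/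
abbrev WRing : Type u := Localization (wSubmonoid ι)

theorem isIndZariski_wRing [CompactSpace T] : EtPBC.IsIndZariski A (WRing ι) :=
  isIndZariski_localization (wSubmonoid ι) (WRing ι)

theorem flat_wRing [CompactSpace T] : Module.Flat A (WRing ι) :=
  ProEtLib2.flat_of_isIndEtale (isIndEtale_of_isIndZariski (isIndZariski_wRing ι))

variable [CompactSpace T] [T2Space T] [TotallyDisconnectedSpace T]

/-- The point of `T` under a prime of `WRing ι`. -/
noncomputable def tOf (q : PrimeSpectrum (WRing ι)) : T := (coord (A := A) (T := T) (WRing ι) q).2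

theorem continuous_tOf : Continuous (tOf ι) :=
  continuous_snd.comp (isEmbedding_coord (wSubmonoid ι) (WRing ι)).continuous

theorem isEmbedding_pair : IsEmbedding
    (fun q : PrimeSpectrum (WRing ι) => (PrimeSpectrum.comap (algebraMap A (WRing ι)) q, tOf ι q)) := by
  convert isEmbedding_coord (wSubmonoid ι) (WRing ι) using 1
  funext q
  exact Prod.ext (coord_fst (WRing ι) q).symm rfl

theorem range_pair : Set.range
    (fun q : PrimeSpectrum (WRing ι) => (PrimeSpectrum.comap (algebraMap A (WRing ι)) q, tOf ι q)) =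
    {p | p.1.asIdeal ≤ (ι p.2).asIdeal} := by
  classical
  have h : (fun q : PrimeSpectrum (WRing ι) => (PrimeSpectrum.comap (algebraMap A (WRing ι)) q, tOf ι q))
      = coord (A := A) (T := T) (WRing ι) :=
    funext fun q => Prod.ext (coord_fst (WRing ι) q).symm rfl
  rw [h, range_coord (wSubmonoid ι)]
  ext ⟨x, t⟩
  refine ⟨fun hp a ha => ?_, fun hp s hs hst => hs t (hp hst)⟩
  by_contra hat
  obtain ⟨C, hC, htC, hCU⟩ := compact_exists_isClopen_in_isOpen
    ((PrimeSpectrum.basicOpen a).isOpen.preimage ι.continuous)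
    (show t ∈ ι ⁻¹' (PrimeSpectrum.basicOpen a : Set (PrimeSpectrum A)) from hat)
  let s : LC A T := algebraMap A (LC A T) a * LocallyConstant.charFn A hC +
    LocallyConstant.charFn A hC.compl
  have hs : ∀ y, s y = if y ∈ C then a else 1 := fun y => by
    show a * LocallyConstant.charFn A hC y + LocallyConstant.charFn A hC.compl y = _
    by_cases hy : y ∈ C <;> simp [LocallyConstant.coe_charFn, Set.indicator, hy]
  refine hp s (fun y => ?_) ?_
  · rw [hs]; split_ifs with hy
    · exact hCU hy
    · exact fun h => (ι y).2.ne_top ((Ideal.eq_top_iff_one _).2 h)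
  · rw [hs, if_pos htC]; exact ha

theorem le_tOf (q : PrimeSpectrum (WRing ι)) :
    (PrimeSpectrum.comap (algebraMap A (WRing ι)) q).asIdeal ≤ (ι (tOf ι q)).asIdeal :=
  (range_pair ι).le ⟨q, rfl⟩

theorem exists_pair {x : PrimeSpectrum A} {t : T} (h : x.asIdeal ≤ (ι t).asIdeal) :
    ∃ q : PrimeSpectrum (WRing ι), PrimeSpectrum.comap (algebraMap A (WRing ι)) q = x ∧ tOf ι q = t := by
  obtain ⟨q, hq⟩ := (range_pair ι).ge (show (x, t) ∈ {p : PrimeSpectrum A × T | _} from h)
  exact ⟨q, congrArg Prod.fst hq, congrArg Prod.snd hq⟩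

theorem specializes_iff (q q' : PrimeSpectrum (WRing ι)) :
    q ⤳ q' ↔ PrimeSpectrum.comap (algebraMap A (WRing ι)) q ⤳
      PrimeSpectrum.comap (algebraMap A (WRing ι)) q' ∧ tOf ι q = tOf ι q' := by
  rw [← (isEmbedding_pair ι).isInducing.specializes_iff, specializes_prod]
  exact and_congr_right fun _ => ⟨fun h => h.eq, fun h => h ▸ specializes_rfl⟩

theorem eq_iff (q q' : PrimeSpectrum (WRing ι)) :
    q = q' ↔ PrimeSpectrum.comap (algebraMap A (WRing ι)) q =
      PrimeSpectrum.comap (algebraMap A (WRing ι)) q' ∧ tOf ι q = tOf ι q' :=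
  ⟨fun h => h ▸ ⟨rfl, rfl⟩, fun h => (isEmbedding_pair ι).injective (Prod.ext h.1 h.2)⟩

theorem isClosed_singleton_iff (q : PrimeSpectrum (WRing ι)) :
    IsClosed ({q} : Set (PrimeSpectrum (WRing ι))) ↔
      PrimeSpectrum.comap (algebraMap A (WRing ι)) q = ι (tOf ι q) := by
  constructor
  · intro hq
    obtain ⟨r, hr1, hr2⟩ := exists_pair ι (le_refl (ι (tOf ι q)).asIdeal)
    have hsp : q ⤳ r := (specializes_iff ι q r).2
      ⟨(PrimeSpectrum.le_iff_specializes _ _).1 (hr1 ▸ le_tOf ι q), hr2.symm⟩
    have : r = q := (specializes_iff_forall_closed.1 hsp _ hq rfl : r ∈ ({q} : Set _))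
    rw [← hr1, this]
  · intro hq
    refine isClosed_of_closure_subset fun r hr => ?_
    obtain ⟨h1, h2⟩ := (specializes_iff ι q r).1 (specializes_iff_mem_closure.2 hr)
    refine ((eq_iff ι r q).2 ⟨PrimeSpectrum.ext (le_antisymm ?_ ?_), h2.symm⟩ :)
    · rw [hq, h2]; exact le_tOf ι r
    · exact (PrimeSpectrum.le_iff_specializes _ _).2 h1

theorem closedPoints_eq : ProEtW.closedPoints (PrimeSpectrum (WRing ι)) =
    {q | PrimeSpectrum.comap (algebraMap A (WRing ι)) q = ι (tOf ι q)} :=
  Set.ext (isClosed_singleton_iff ι)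

theorem existsUnique_closed (q : PrimeSpectrum (WRing ι)) :
    ∃! r : PrimeSpectrum (WRing ι), IsClosed ({r} : Set (PrimeSpectrum (WRing ι))) ∧ q ⤳ r := by
  obtain ⟨r, hr1, hr2⟩ := exists_pair ι (le_refl (ι (tOf ι q)).asIdeal)
  refine ⟨r, ⟨(isClosed_singleton_iff ι r).2 (by rw [hr1, hr2]),
    (specializes_iff ι q r).2 ⟨(PrimeSpectrum.le_iff_specializes _ _).1 (hr1 ▸ le_tOf ι q), hr2.symm⟩⟩,
    fun r' ⟨hr', hsp⟩ => (eq_iff ι r' r).2 ?_⟩
  have h2 := ((specializes_iff ι q r').1 hsp).2
  exact ⟨by rw [(isClosed_singleton_iff ι r').1 hr', hr1, ← h2], by rw [← h2, hr2]⟩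

theorem isWLocal_wRing (h : IsClosed (ProEtW.closedPoints (PrimeSpectrum (WRing ι)))) :
    ProEtW.IsWLocal (PrimeSpectrum (WRing ι)) :=
  ⟨inferInstance, h, existsUnique_closed ι⟩

theorem isClosed_closedPoints
    (hι : ∀ a : A, IsClosed (ι ⁻¹' (PrimeSpectrum.basicOpen a : Set (PrimeSpectrum A)))) :
    IsClosed (ProEtW.closedPoints (PrimeSpectrum (WRing ι))) := by
  have : ProEtW.closedPoints (PrimeSpectrum (WRing ι)) = ⋂ a : A,
      (PrimeSpectrum.comap (algebraMap A (WRing ι))) ⁻¹' PrimeSpectrum.zeroLocus {a} ∪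
        tOf ι ⁻¹' (ι ⁻¹' (PrimeSpectrum.basicOpen a : Set (PrimeSpectrum A))) := by
    rw [closedPoints_eq]
    ext q
    simp only [Set.mem_iInter, Set.mem_union, Set.mem_preimage, PrimeSpectrum.mem_zeroLocus,
      Set.singleton_subset_iff, SetLike.mem_coe, PrimeSpectrum.mem_basicOpen]
    refine ⟨fun h a => by rw [h]; exact em _, fun h => PrimeSpectrum.ext (le_antisymm (le_tOf ι q)
      fun a ha => ((h a).resolve_right fun h' => h' ha))⟩
  rw [this]
  exact isClosed_iInter fun a =>
    ((PrimeSpectrum.isClosed_zeroLocus _).preimage (PrimeSpectrum.continuous_comap _)).union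
      ((hι a).preimage (continuous_tOf ι))

theorem tOf_bijOn_closedPoints :
    Set.BijOn (tOf ι) (ProEtW.closedPoints (PrimeSpectrum (WRing ι))) Set.univ := by
  refine ⟨Set.mapsTo_univ _ _, fun q hq q' hq' h => (eq_iff ι q q').2 ⟨?_, h⟩, fun t _ => ?_⟩
  · rw [(isClosed_singleton_iff ι q).1 hq, (isClosed_singleton_iff ι q').1 hq', h]
  · obtain ⟨r, hr1, hr2⟩ := exists_pair ι (le_refl (ι t).asIdeal)
    exact ⟨r, (isClosed_singleton_iff ι r).2 (by rw [hr1, hr2]), hr2⟩

theorem bijOn_closedPoints (hι : Function.Bijective ι) :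
    Set.BijOn (PrimeSpectrum.comap (algebraMap A (WRing ι)))
      (ProEtW.closedPoints (PrimeSpectrum (WRing ι))) Set.univ := by
  refine Set.BijOn.congr ((hι.bijOn_univ).comp (tOf_bijOn_closedPoints ι)) fun q hq => ?_
  exact ((isClosed_singleton_iff ι q).1 hq).symm

/-- The connected components of the spectrum are the points of `T`. -/
noncomputable def piZeroHomeo : _root_.ConnectedComponents (PrimeSpectrum (WRing ι)) ≃ₜ T := by
  have hc : Continuous (continuous_tOf ι).connectedComponentsLift :=
    (continuous_tOf ι).connectedComponentsLift_continuous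
  refine hc.homeoOfEquivCompactToT2 (f := Equiv.ofBijective _ ⟨?_, ?_⟩)
  · intro a b h
    obtain ⟨q, rfl⟩ := _root_.ConnectedComponents.surjective_coe a
    obtain ⟨q', rfl⟩ := _root_.ConnectedComponents.surjective_coe b
    obtain ⟨r, ⟨hr, hqr⟩, -⟩ := existsUnique_closed ι q
    obtain ⟨r', ⟨hr', hqr'⟩, -⟩ := existsUnique_closed ι q'
    have hrr : r = r' := by
      refine (eq_iff ι r r').2 ?_
      have e : tOf ι q = tOf ι q' := h
      have h1 := ((specializes_iff ι q r).1 hqr).2
      have h2 := ((specializes_iff ι q' r').1 hqr').2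
      exact ⟨by rw [(isClosed_singleton_iff ι r).1 hr, (isClosed_singleton_iff ι r').1 hr', ← h1, ← h2, e],
        by rw [← h1, ← h2, e]⟩
    have key : ∀ {x y : PrimeSpectrum (WRing ι)}, x ⤳ y →
        (_root_.ConnectedComponents.mk x = _root_.ConnectedComponents.mk y) := fun {x y} hxy =>
      _root_.ConnectedComponents.coe_eq_coe'.2 (isClosed_connectedComponent.closure_subset_iff.2
        (Set.singleton_subset_iff.2 mem_connectedComponent) (specializes_iff_mem_closure.1 hxy) |>
          fun hy => (connectedComponent_eq hy).symm ▸ mem_connectedComponent)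
    exact (key hqr).trans ((hrr ▸ (key hqr').symm : _))
  · intro t
    obtain ⟨r, -, hr2⟩ := exists_pair ι (le_refl (ι t).asIdeal)
    exact ⟨_root_.ConnectedComponents.mk r, hr2⟩

theorem piZeroHomeo_mk (q : PrimeSpectrum (WRing ι)) :
    piZeroHomeo ι (_root_.ConnectedComponents.mk q) = tOf ι q := rfl

theorem faithfullyFlat_wRing (h : ∀ x : PrimeSpectrum A, ∃ t, x.asIdeal ≤ (ι t).asIdeal) :
    Module.FaithfullyFlat A (WRing ι) := by
  haveI := flat_wRing ι
  refine Module.FaithfullyFlat.of_comap_surjective fun x => ?_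
  obtain ⟨t, ht⟩ := h x
  obtain ⟨q, hq, -⟩ := exists_pair ι ht
  exact ⟨q, hq⟩

section Constructible

variable (A)

/-- `Spec A` with the constructible topology. -/
abbrev SpecCons : Type u := WithConstructibleTopology (PrimeSpectrum A)

theorem isClopen_preimage_basicOpen (a : A) :
    IsClopen (WithTopology.ofTopology (t := constructibleTopology (PrimeSpectrum A)) ⁻¹'
      (PrimeSpectrum.basicOpen a : Set (PrimeSpectrum A))) := by
  have hk : IsCompact (PrimeSpectrum.basicOpen a : Set (PrimeSpectrum A)) :=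
    PrimeSpectrum.isCompact_basicOpen a
  refine ⟨?_, ?_⟩
  · rw [← isOpen_compl_iff, ← Set.preimage_compl, WithConstructibleTopology.isOpen_iff]
    exact IsCompact.isOpen_constructibleTopology_of_isClosed
      (show IsCompact ((PrimeSpectrum.basicOpen a : Set (PrimeSpectrum A))ᶜ)ᶜ by rwa [compl_compl])
      (PrimeSpectrum.basicOpen a).isOpen.isClosed_compl
  · rw [WithConstructibleTopology.isOpen_iff]
    exact hk.isOpen_constructibleTopology_of_isOpen (PrimeSpectrum.basicOpen a).isOpen

instance : TotallySeparatedSpace (SpecCons A) := by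
  rw [totallySeparatedSpace_iff_exists_isClopen]
  intro x y hxy
  have hne : (WithTopology.ofTopology x).asIdeal ≠ (WithTopology.ofTopology y).asIdeal :=
    fun h => hxy (WithTopology.ofTopology_injective _ (PrimeSpectrum.ext h))
  by_cases hle : (WithTopology.ofTopology x).asIdeal ≤ (WithTopology.ofTopology y).asIdeal
  · obtain ⟨a, ha, ha'⟩ := Set.not_subset.1 fun h => hne (le_antisymm hle h)
    exact ⟨_, isClopen_preimage_basicOpen A a, ha', fun h => h ha⟩
  · obtain ⟨a, ha, ha'⟩ := Set.not_subset.1 hle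
    exact ⟨_, (isClopen_preimage_basicOpen A a).compl, not_not.2 ha, not_not.2 ha'⟩

/-- The identity from the constructible topology. -/
def fromCons : C(SpecCons A, PrimeSpectrum A) where
  toFun := WithTopology.ofTopology
  continuous_toFun := PrimeSpectrum.isTopologicalBasis_basic_opens.continuous_iff.2 <| by
    rintro _ ⟨a, rfl⟩
    exact (isClopen_preimage_basicOpen A a).isOpen

theorem fromCons_bijective : Function.Bijective (fromCons A) :=
  WithTopology.ofTopology_bijective _

/-- The w-localization of `A`. -/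
abbrev WLocalization : Type u := WRing (fromCons A)

theorem isWLocal_wLocalization : ProEtW.IsWLocal (PrimeSpectrum (WLocalization A)) :=
  isWLocal_wRing _ (isClosed_closedPoints _ fun a => (isClopen_preimage_basicOpen A a).isClosed)

theorem faithfullyFlat_wLocalization : Module.FaithfullyFlat A (WLocalization A) :=
  faithfullyFlat_wRing _ fun x => ⟨WithTopology.toTopology _ x, le_rfl⟩

theorem exists_extrDisc :
    ∃ (T : Type u) (_ : TopologicalSpace T) (_ : CompactSpace T) (_ : T2Space T)
      (_ : TotallyDisconnectedSpace T) (ι : C(T, PrimeSpectrum A)), ExtremallyDisconnected T ∧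
      (∀ x : PrimeSpectrum A, ∃ t, x.asIdeal ≤ (ι t).asIdeal) ∧
      ∀ a : A, IsClosed (ι ⁻¹' (PrimeSpectrum.basicOpen a : Set (PrimeSpectrum A))) := by
  letI : TopologicalSpace (PrimeSpectrum A × PUnit.{u + 1}) := ⊥
  haveI : DiscreteTopology (PrimeSpectrum A × PUnit.{u + 1}) := ⟨rfl⟩
  let φ : PrimeSpectrum A × PUnit.{u + 1} → SpecCons A := fun p => WithTopology.toTopology _ p.1
  have hφ : Continuous φ := continuous_of_discreteTopology
  haveI : ExtremallyDisconnected (StoneCech (PrimeSpectrum A × PUnit.{u + 1})) :=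
    CompactT2.Projective.extremallyDisconnected StoneCech.projective
  refine ⟨StoneCech (PrimeSpectrum A × PUnit.{u + 1}), inferInstance, inferInstance, inferInstance,
    inferInstance, (fromCons A).comp ⟨stoneCechExtend hφ, continuous_stoneCechExtend hφ⟩,
    inferInstance, fun x => ⟨stoneCechUnit (x, PUnit.unit), ?_⟩, fun a => ?_⟩
  · show x.asIdeal ≤ (WithTopology.ofTopology (stoneCechExtend hφ (stoneCechUnit (x, PUnit.unit)))).asIdeal
    rw [show stoneCechExtend hφ (stoneCechUnit (x, PUnit.unit)) = φ (x, PUnit.unit) from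
      congrFun (stoneCechExtend_extends hφ) _]
  · exact (isClopen_preimage_basicOpen A a).isClosed.preimage (continuous_stoneCechExtend hφ)

end Constructible

end Groth.Agent.WLocalLib
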