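import Groth.Agent.WLocalLib.Along
import Groth.Agent.WLocalLib.WRing
import Mathlib

/-!
The retraction of a w-local space onto its closed points, and the universal property of the
w-localisation.
-/

set_option autoImplicit false

open Topology

universe u

namespace Groth.Agent.WLocalLib

theorem constructibleTopology_eq_of_t1 {X : Type u} [t : TopologicalSpace X] [SpectralSpace X]
    (h : ∀ x : X, IsClosed ({x} : Set X)) : constructibleTopology X = t :=
  le_antisymm SpectralLib.C_le fun s hs =>
    SpectralLib.isOpen_of_stableUnderGeneralization hs fun x y hxy hx => by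
      have : x = y := hxy.mem_closed (h y) rfl
      exact this ▸ hx

section Retraction

variable {X : Type u} [TopologicalSpace X] (hX : ProEtW.IsWLocal X)

/-- The closed point to which a point specializes. -/
noncomputable def toClosed (x : X) : ProEtW.closedPoints X :=
  ⟨(hX.2.2 x).choose, (hX.2.2 x).choose_spec.1.1⟩

theorem specializes_toClosed (x : X) : x ⤳ (toClosed hX x : X) := (hX.2.2 x).choose_spec.1.2

theorem toClosed_eq {x z : X} (hz : IsClosed ({z} : Set X)) (h : x ⤳ z) :
    (toClosed hX x : X) = z :=
  ((hX.2.2 x).choose_spec.2 z ⟨hz, h⟩).symm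

theorem toClosed_coe (z : ProEtW.closedPoints X) : toClosed hX z.1 = z :=
  Subtype.ext (toClosed_eq hX z.2 specializes_rfl)

include hX in
theorem spectralSpace_closedPoints : SpectralSpace (ProEtW.closedPoints X) := by
  haveI := hX.1
  exact (SpectralLib.spectralSpace_of_isClosed (SpectralLib.isClosed_C_of_isClosed hX.2.1)).1

include hX in
theorem isClosed_singleton_closedPoints (z : ProEtW.closedPoints X) :
    IsClosed ({z} : Set (ProEtW.closedPoints X)) := by
  have hZ : IsClosed (ProEtW.closedPoints X) := hX.2.1
  rw [hZ.isClosedEmbedding_subtypeVal.isClosed_iff_image_isClosed, Set.image_singleton]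
  exact z.2

include hX in
theorem isProfinite_closedPoints : ProEtW.IsProfinite (ProEtW.closedPoints X) := by
  haveI := spectralSpace_closedPoints hX
  exact isProfinite_of_t1 (isClosed_singleton_closedPoints hX)

theorem isClosed_preimage_toClosed {C : Set (ProEtW.closedPoints X)} (hC : IsClosed C) :
    IsClosed (toClosed hX ⁻¹' C) := by
  haveI := hX.1
  refine SpectralLib.isClosed_of_stableUnderSpecialization ?_ fun x y hxy hx => ?_
  · have hCc : IsCompact (Subtype.val '' C : Set X) := by
      have hZ : IsClosed (ProEtW.closedPoints X) := hX.2.1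
      exact (hZ.isClosedEmbedding_subtypeVal.isClosedMap C hC).isCompact
    have heq : toClosed hX ⁻¹' C = ⋂ U ∈ {U : Set X | IsOpen U ∧ IsCompact U ∧ Subtype.val '' C ⊆ U}, U := by
      ext x
      simp only [Set.mem_preimage, Set.mem_iInter, Set.mem_setOf_eq]
      refine ⟨fun hx U ⟨hU, _, hCU⟩ => (specializes_toClosed hX x).mem_open hU (hCU ⟨_, hx, rfl⟩),
        fun h => ?_⟩
      by_contra hx
      have : ∀ z ∈ C, ∃ U : Set X, IsOpen U ∧ IsCompact U ∧ (z : X) ∈ U ∧ x ∉ U := fun z hz => by
        by_contra! H
        refine hx ?_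
        have hxz : x ⤳ (z : X) := SpectralLib.specializes_of_forall_compactOpen H
        rwa [show toClosed hX x = z from Subtype.ext (toClosed_eq hX z.2 hxz)]
      choose! U hU using this
      obtain ⟨F, hFC, hFfin, hF⟩ := hCc.elim_finite_subcover_image (b := C) (c := fun z => U z)
        (fun z hz => (hU z hz).1) (by
          rintro _ ⟨z, hz, rfl⟩
          exact Set.mem_biUnion hz (hU z hz).2.2.1)
      obtain ⟨z, hz, hzx⟩ := Set.mem_iUnion₂.1 (h (⋃ z ∈ F, U z)
        ⟨isOpen_biUnion fun z hz => (hU z (hFC hz)).1,
          hFfin.isCompact_biUnion fun z hz => (hU z (hFC hz)).2.1, hF⟩)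
      exact (hU z (hFC hz)).2.2.2 hzx
    rw [heq]
    refine @isClosed_biInter X _ (constructibleTopology X) _ _ fun U hU => ?_
    exact SpectralLib.isClosed_C_of_compactOpen hU.1 hU.2.1
  · have : toClosed hX y = toClosed hX x :=
      (Subtype.ext (toClosed_eq hX (toClosed hX y).2 (hxy.trans (specializes_toClosed hX y)))).symm
    show toClosed hX y ∈ C
    rw [this]; exact hx

theorem continuous_toClosed : Continuous (toClosed hX) :=
  continuous_iff_isClosed.2 fun _ => isClosed_preimage_toClosed hX

end Retraction

section Universal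

variable {A : Type u} [CommRing A] {T : Type u} [TopologicalSpace T]
variable {B : Type u} [CommRing B] [Algebra A B]

/-- `b` agrees with the function `s` along `f` in every local ring. -/
def Agrees (f : PrimeSpectrum B → T) (s : LC A T) (b : B) : Prop :=
  ∀ y : PrimeSpectrum B, algebraMap B (Localization.AtPrime y.asIdeal) b =
    algebraMap B (Localization.AtPrime y.asIdeal) (algebraMap A B (s (f y)))

theorem Agrees.unique {f : PrimeSpectrum B → T} {s : LC A T} {b b' : B} (h : Agrees f s b)
    (h' : Agrees f s b') : b = b' := by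
  by_contra hne
  obtain ⟨m, hm, hJm⟩ := Ideal.exists_le_maximal ((⊥ : Ideal B).colon {b - b'}) (fun h1 => hne (by
      have h2 : (1 : B) ∈ (⊥ : Ideal B).colon {b - b'} := by rw [h1]; exact Submodule.mem_top
      simpa [Submodule.mem_colon_singleton, sub_eq_zero] using h2))
  obtain ⟨⟨c, hc⟩, hcb⟩ := (IsLocalization.eq_iff_exists m.primeCompl (Localization.AtPrime m)).1
    ((h ⟨m, hm.isPrime⟩).trans (h' ⟨m, hm.isPrime⟩).symm)
  refine hc (hJm ?_)
  rw [Submodule.mem_colon_singleton, smul_eq_mul, mul_sub, Ideal.mem_bot, sub_eq_zero]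
  exact hcb

theorem exists_agrees [CompactSpace T] {f : PrimeSpectrum B → T} (hf : Continuous f) (s : LC A T) :
    ∃ b : B, Agrees f s b := by
  classical
  choose e he hU using fun c : A => PrimeSpectrum.isClopen_iff.1
    ((s.isLocallyConstant.isClopen_fiber c).preimage hf)
  let F : Finset A := (s.range_finite).toFinset
  refine ⟨∑ c ∈ F, algebraMap A B c * e c, fun y => ?_⟩
  rw [map_sum, Finset.sum_eq_single (s (f y))]
  · have hy : y ∈ (PrimeSpectrum.basicOpen (e (s (f y))) : Set (PrimeSpectrum B)) := (hU _).le rfl
    have hu : IsUnit (algebraMap B (Localization.AtPrime y.asIdeal) (e (s (f y)))) :=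
      IsLocalization.map_units _ (⟨_, hy⟩ : y.asIdeal.primeCompl)
    have h1 : algebraMap B (Localization.AtPrime y.asIdeal) (e (s (f y))) = 1 :=
      hu.mul_left_cancel (by rw [mul_one]; exact ((he _).map _).eq)
    rw [map_mul, h1, mul_one]
  · intro c _ hc
    have hy : y ∉ (PrimeSpectrum.basicOpen (e c) : Set (PrimeSpectrum B)) := fun h =>
      hc ((hU c).ge h).symm
    have hmem : e c ∈ y.asIdeal := not_not.1 hy
    have hnot : 1 - e c ∈ y.asIdeal.primeCompl := fun h =>
      y.2.ne_top ((Ideal.eq_top_iff_one _).2 (by simpa using add_mem hmem h))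
    have hu : IsUnit (algebraMap B (Localization.AtPrime y.asIdeal) (1 - e c)) :=
      IsLocalization.map_units _ (⟨_, hnot⟩ : y.asIdeal.primeCompl)
    rw [map_mul]
    refine mul_eq_zero_of_right _ (hu.mul_left_eq_zero.1 ?_)
    rw [← map_mul, mul_sub, mul_one, (he c).eq, sub_self, map_zero]
  · intro h; exact absurd ((Set.Finite.mem_toFinset _).2 (Set.mem_range_self (f y))) h

/-- The map `LC A T → B` attached to a continuous map `Spec B → T`. -/
noncomputable def lcLift [CompactSpace T] {f : PrimeSpectrum B → T} (hf : Continuous f) :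
    LC A T →ₐ[A] B where
  toFun s := (exists_agrees hf s).choose
  map_one' := (exists_agrees hf 1).choose_spec.unique fun y => by simp
  map_mul' s s' := (exists_agrees hf (s * s')).choose_spec.unique fun y => by
    rw [map_mul, (exists_agrees hf s).choose_spec y, (exists_agrees hf s').choose_spec y]
    simp
  map_zero' := (exists_agrees hf 0).choose_spec.unique fun y => by simp
  map_add' s s' := (exists_agrees hf (s + s')).choose_spec.unique fun y => by
    rw [map_add, (exists_agrees hf s).choose_spec y, (exists_agrees hf s').choose_spec y]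
    simp
  commutes' a := (exists_agrees hf (algebraMap A (LC A T) a)).choose_spec.unique fun y => rfl

theorem agrees_lcLift [CompactSpace T] {f : PrimeSpectrum B → T} (hf : Continuous f) (s : LC A T) :
    Agrees f s (lcLift hf s) :=
  (exists_agrees hf s).choose_spec

theorem Agrees.mem_iff {f : PrimeSpectrum B → T} {s : LC A T} {b : B} (h : Agrees f s b)
    (y : PrimeSpectrum B) : b ∈ y.asIdeal ↔ algebraMap A B (s (f y)) ∈ y.asIdeal := by
  exact (IsLocalization.AtPrime.to_map_mem_maximal_iff (Localization.AtPrime y.asIdeal) y.asIdeal b).symm.trans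
    ((h y).symm ▸ IsLocalization.AtPrime.to_map_mem_maximal_iff (Localization.AtPrime y.asIdeal) y.asIdeal _)

variable [CompactSpace T] [T2Space T] [TotallyDisconnectedSpace T]

theorem agrees_of_point {f : PrimeSpectrum B → T} (ψ : LC A T →ₐ[A] B)
    (h : ∀ y, PrimeSpectrum.comap ψ.toRingHom y = point (PrimeSpectrum.comap (algebraMap A B) y) (f y))
    (s : LC A T) : Agrees f s (ψ s) := by
  classical
  intro y
  have hC : IsClopen (s ⁻¹' {s (f y)}) := s.isLocallyConstant.isClopen_fiber _
  have hn : ψ (LocallyConstant.charFn A hC) ∈ y.asIdeal.primeCompl := by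
    intro hmem
    have h2 : LocallyConstant.charFn A hC ∈ (PrimeSpectrum.comap ψ.toRingHom y).asIdeal := hmem
    rw [h y] at h2
    have h3 : algebraMap A B (LocallyConstant.charFn A hC (f y)) ∈ y.asIdeal := h2
    rw [show LocallyConstant.charFn A hC (f y) = 1 by simp [LocallyConstant.coe_charFn], map_one] at h3
    exact y.2.ne_top ((Ideal.eq_top_iff_one _).2 h3)
  refine (IsLocalization.map_units (Localization.AtPrime y.asIdeal)
    (⟨_, hn⟩ : y.asIdeal.primeCompl)).mul_right_cancel ?_
  show algebraMap B _ (ψ s) * algebraMap B _ (ψ (LocallyConstant.charFn A hC)) =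
    algebraMap B _ (algebraMap A B (s (f y))) * algebraMap B _ (ψ (LocallyConstant.charFn A hC))
  rw [← map_mul, ← map_mul, ← map_mul, charFn_mul s (f y) hC, map_mul, AlgHom.commutes]

theorem existsUnique_wLocalMap (hB : ProEtW.IsWLocal (PrimeSpectrum B)) :
    ∃! φ : WLocalization A →ₐ[A] B, ProEtW.IsWLocalMap (PrimeSpectrum.comap φ.toRingHom) := by
  classical
  haveI := hB.1
  haveI := spectralSpace_closedPoints hB
  let g : ProEtW.closedPoints (PrimeSpectrum B) → SpecCons A := fun z =>
    WithTopology.toTopology _ (PrimeSpectrum.comap (algebraMap A B) z.1)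
  have hg : Continuous g := by
    refine ⟨fun U hU => ?_⟩
    have hsp : IsSpectralMap (fun z : ProEtW.closedPoints (PrimeSpectrum B) =>
        PrimeSpectrum.comap (algebraMap A B) z.1) :=
      (isSpectralMap_comap (algebraMap A B)).comp
        (SpectralLib.spectralSpace_of_isClosed (SpectralLib.isClosed_C_of_isClosed hB.2.1)).2
    have h' := @Continuous.isOpen_preimage _ _ (constructibleTopology _) (constructibleTopology _) _
      (SpectralLib.continuous_C hsp) _ ((WithConstructibleTopology.isOpen_iff).1 hU)
    rw [constructibleTopology_eq_of_t1 (isClosed_singleton_closedPoints hB)] at h'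
    exact h'
  let f : PrimeSpectrum B → SpecCons A := g ∘ toClosed hB
  have hf : Continuous f := hg.comp (continuous_toClosed hB)
  have hle : ∀ y, (PrimeSpectrum.comap (algebraMap A B) y).asIdeal ≤ (fromCons A (f y)).asIdeal :=
    fun y => (PrimeSpectrum.le_iff_specializes _ _).2
      ((specializes_toClosed hB y).map (PrimeSpectrum.continuous_comap _))
  have hpoint : ∀ y, PrimeSpectrum.comap (lcLift (A := A) hf).toRingHom y =
      point (PrimeSpectrum.comap (algebraMap A B) y) (f y) := fun y =>
    PrimeSpectrum.ext (Ideal.ext fun s => (agrees_lcLift hf s).mem_iff y)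
  have hunit : ∀ s : wSubmonoid (fromCons A), IsUnit (lcLift (A := A) hf s.1) := fun s => by
    by_contra hnu
    obtain ⟨M, hM, hsM⟩ := exists_max_ideal_of_mem_nonunits hnu
    exact s.2 (f ⟨M, hM.isPrime⟩) (hle ⟨M, hM.isPrime⟩ (((agrees_lcLift hf s.1).mem_iff ⟨M, hM.isPrime⟩).1 hsM))
  let φ : WLocalization A →ₐ[A] B := IsLocalization.liftAlgHom (M := wSubmonoid (fromCons A)) hunit
  have hφ : ∀ s, φ (algebraMap (LC A (SpecCons A)) (WLocalization A) s) = lcLift hf s := fun s => by
    simp [φ]
  have hcoord : ∀ (ψ : WLocalization A →ₐ[A] B) (y : PrimeSpectrum B),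
      PrimeSpectrum.comap (ψ.comp (IsScalarTower.toAlgHom A (LC A (SpecCons A)) (WLocalization A))).toRingHom y
        = point (PrimeSpectrum.comap (algebraMap A B) y)
            (tOf (fromCons A) (PrimeSpectrum.comap ψ.toRingHom y)) := fun ψ y => by
    have h := (exists_eq_point (PrimeSpectrum.comap (algebraMap (LC A (SpecCons A)) (WLocalization A))
      (PrimeSpectrum.comap ψ.toRingHom y))).choose_spec
    refine h.trans ?_
    congr 1
    rw [← PrimeSpectrum.comap_comp_apply, ← PrimeSpectrum.comap_comp_apply]
    congr 1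
    exact RingHom.ext fun a => ψ.commutes a
  have hcl : ∀ (ψ : WLocalization A →ₐ[A] B) (y : PrimeSpectrum B), PrimeSpectrum.comap
      (algebraMap A (WLocalization A)) (PrimeSpectrum.comap ψ.toRingHom y) =
        PrimeSpectrum.comap (algebraMap A B) y := fun ψ y => by
    rw [← PrimeSpectrum.comap_comp_apply]
    congr 1
    exact RingHom.ext fun a => ψ.commutes a
  refine ⟨φ, ⟨isSpectralMap_comap _, fun y hy => ?_⟩, fun ψ hψ => ?_⟩
  · rw [isClosed_singleton_iff (fromCons A), hcl]
    have h1 := hcoord φ y
    rw [show φ.comp (IsScalarTower.toAlgHom A (LC A (SpecCons A)) (WLocalization A)) = lcLift hf from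
      AlgHom.ext hφ, hpoint] at h1
    rw [← (point_injective h1).2]
    show _ = PrimeSpectrum.comap (algebraMap A B) (toClosed hB y).1
    rw [toClosed_eq hB hy specializes_rfl]
  · have hgf : ∀ y, tOf (fromCons A) (PrimeSpectrum.comap ψ.toRingHom y) = f y := fun y => by
      let z := toClosed hB y
      have h1 := (isClosed_singleton_iff (fromCons A) _).1 (hψ.2 z.1 z.2)
      rw [hcl] at h1
      have h2 := ((specializes_iff (fromCons A) _ _).1
        ((specializes_toClosed hB y).map (PrimeSpectrum.continuous_comap ψ.toRingHom))).2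
      rw [h2]
      exact (fromCons_bijective A).1 h1.symm
    apply AlgHom.coe_ringHom_injective
    refine IsLocalization.ringHom_ext (wSubmonoid (fromCons A)) (RingHom.ext fun s => ?_)
    refine Agrees.unique (f := f) (s := s) ?_ ((congrArg (Agrees f s) (hφ s)).mpr (agrees_lcLift hf s))
    exact agrees_of_point (ψ.comp (IsScalarTower.toAlgHom A (LC A (SpecCons A)) (WLocalization A)))
      (fun y => by rw [hcoord, hgf]) s

end Universal

end Groth.Agent.WLocalLib
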