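import Groth.Prelude.Def_ProEtW
import Groth.Agent.ConstrNoeth.Prespectral
import Groth.Agent.S7584
import Groth.Agent.S7529
import Groth.Agent.SpectralLib.Basic
import Mathlib

/-!
Topology of w-local spaces and of fibre products with profinite spaces over the space of components.
-/

set_option autoImplicit false

open Topology

universe u

namespace Groth.Agent.WLocalLib

variable {X T : Type u} [TopologicalSpace X] [TopologicalSpace T]

instance t2Space_connectedComponents [SpectralSpace X] :
    T2Space (_root_.ConnectedComponents X) :=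
  Groth.Agent.S7584.result X fun x => ConstrPrespectral.connectedComponent_eq_sInter x

/-- If the fibres of a continuous surjection to a profinite space are preconnected, they are the
connected components. -/
noncomputable def piZeroHomeoOfFibres [CompactSpace X] [T2Space T] [TotallyDisconnectedSpace T]
    {f : X → T} (hf : Continuous f) (hsurj : Function.Surjective f)
    (hfib : ∀ t, IsPreconnected (f ⁻¹' {t})) : _root_.ConnectedComponents X ≃ₜ T :=
  hf.connectedComponentsLift_continuous.homeoOfEquivCompactToT2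
    (f := Equiv.ofBijective _ ⟨fun a b h => by
      obtain ⟨x, rfl⟩ := _root_.ConnectedComponents.surjective_coe a
      obtain ⟨y, rfl⟩ := _root_.ConnectedComponents.surjective_coe b
      have h' : f x = f y := h
      exact (_root_.ConnectedComponents.coe_eq_coe'.2
        ((hfib (f x)).subset_connectedComponent (x := y) h'.symm rfl) : _),
      fun t => by
        obtain ⟨x, hx⟩ := hsurj t
        exact ⟨_root_.ConnectedComponents.mk x, hx⟩⟩)

theorem piZeroHomeoOfFibres_mk [CompactSpace X] [T2Space T] [TotallyDisconnectedSpace T]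
    {f : X → T} (hf : Continuous f) (hsurj : Function.Surjective f)
    (hfib : ∀ t, IsPreconnected (f ⁻¹' {t})) (x : X) :
    piZeroHomeoOfFibres hf hsurj hfib (_root_.ConnectedComponents.mk x) = f x := rfl

section FibreProduct

variable (g : C(T, _root_.ConnectedComponents X))

/-- The fibre product of `X` and `T` over the components of `X`. -/
abbrev FibProd : Type u := {p : X × T // _root_.ConnectedComponents.mk p.1 = g p.2}

theorem preconnected_fibre [SpectralSpace X] {Y : Type u} [TopologicalSpace Y] {e : Y → X × T}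
    (he : IsEmbedding e) (hr : Set.range e = {p | _root_.ConnectedComponents.mk p.1 = g p.2}) (t : T) :
    IsPreconnected ((fun y => (e y).2) ⁻¹' {t}) := by
  rw [← he.isInducing.isPreconnected_image]
  have himg : e '' ((fun y => (e y).2) ⁻¹' {t}) =
      (_root_.ConnectedComponents.mk ⁻¹' {g t}) ×ˢ ({t} : Set T) := by
    ext p
    constructor
    · rintro ⟨y, hy, rfl⟩
      have h := hr.le ⟨y, rfl⟩
      have hy' : (e y).2 = t := hy
      refine ⟨?_, hy⟩
      show _root_.ConnectedComponents.mk (e y).1 = g t
      rw [← hy']; exact h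
    · rintro ⟨hp1, hp2⟩
      obtain ⟨y, rfl⟩ := hr.ge (show p ∈ {p : X × T | _} by
        show _root_.ConnectedComponents.mk p.1 = g p.2
        rw [show p.2 = t from hp2]; exact hp1)
      exact ⟨y, hp2, rfl⟩
  rw [himg]
  refine IsPreconnected.prod ?_ isPreconnected_singleton
  obtain ⟨x, hx⟩ := _root_.ConnectedComponents.surjective_coe (g t)
  rw [← hx, show _root_.ConnectedComponents.mk x = (x : _root_.ConnectedComponents X) from rfl,
    connectedComponents_preimage_singleton]
  exact isPreconnected_connectedComponent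

theorem isClosed_fibProd [SpectralSpace X] :
    IsClosed {p : X × T | _root_.ConnectedComponents.mk p.1 = g p.2} :=
  isClosed_eq (_root_.ConnectedComponents.continuous_coe.comp continuous_fst)
    (g.continuous.comp continuous_snd)

variable [CompactSpace T] [T2Space T] [TotallyDisconnectedSpace T]

theorem spectralSpace_profinite : SpectralSpace T where
  toPrespectralSpace := PrespectralSpace.of_isTopologicalBasis isTopologicalBasis_isClopen
    fun _ hs => hs.isClosed.isCompact

theorem spectralSpace_fibProd [SpectralSpace X] : SpectralSpace (FibProd g) := by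
  haveI := spectralSpace_profinite (T := T)
  haveI : SpectralSpace (X × T) := Groth.Agent.S7529.result X T
  exact (SpectralLib.spectralSpace_of_isClosed
    (SpectralLib.isClosed_C_of_isClosed (isClosed_fibProd g))).1

theorem exists_piZero_fibProd [SpectralSpace X] :
    ∃ e : _root_.ConnectedComponents (FibProd g) ≃ₜ T,
      ∀ y : FibProd g, e (_root_.ConnectedComponents.mk y) = y.1.2 := by
  haveI := spectralSpace_fibProd g
  refine ⟨piZeroHomeoOfFibres (f := fun y : FibProd g => y.1.2)
    (continuous_snd.comp continuous_subtype_val) (fun t => ?_)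
    (preconnected_fibre g IsEmbedding.subtypeVal Subtype.range_coe), fun y => rfl⟩
  obtain ⟨x, hx⟩ := _root_.ConnectedComponents.surjective_coe (g t)
  exact ⟨⟨(x, t), hx⟩, rfl⟩

theorem wLocal_fibProd (hX : ProEtW.IsWLocal X) :
    ProEtW.IsWLocal (FibProd g) ∧
      ProEtW.IsWLocalMap (fun y : FibProd g => y.1.1) ∧
      ProEtW.closedPoints (FibProd g) = (fun y : FibProd g => y.1.1) ⁻¹' ProEtW.closedPoints X := by
  haveI := hX.1
  have hmk : ∀ {x c : X}, x ⤳ c → _root_.ConnectedComponents.mk x = _root_.ConnectedComponents.mk c :=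
    fun {x c} h => (_root_.ConnectedComponents.coe_eq_coe'.2
      (isPreconnected_singleton.closure.subset_connectedComponent (subset_closure rfl)
        (specializes_iff_mem_closure.1 h))).symm
  have hsp : ∀ {y z : FibProd g}, y ⤳ z → y.1.1 ⤳ z.1.1 ∧ y.1.2 = z.1.2 := fun {y z} h => by
    have := h.map continuous_subtype_val
    rw [specializes_prod] at this
    exact ⟨this.1, this.2.eq⟩
  have hsp' : ∀ {y z : FibProd g}, y.1.1 ⤳ z.1.1 → y.1.2 = z.1.2 → y ⤳ z := fun {y z} h h' =>
    IsEmbedding.subtypeVal.isInducing.specializes_iff.1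
      (specializes_prod.2 ⟨h, h' ▸ specializes_rfl⟩)
  have hclosed : ProEtW.closedPoints (FibProd g) =
      (fun y : FibProd g => y.1.1) ⁻¹' ProEtW.closedPoints X := by
    ext y
    refine ⟨fun hy => ?_, fun hy => ?_⟩
    · obtain ⟨c, ⟨hc, hyc⟩, -⟩ := hX.2.2 y.1.1
      let z : FibProd g := ⟨(c, y.1.2), (hmk hyc).symm.trans y.2⟩
      have : z = y := (hsp' (y := y) (z := z) hyc rfl).mem_closed hy rfl
      show IsClosed ({y.1.1} : Set X)
      rw [← this]; exact hc
    · show IsClosed ({y} : Set (FibProd g))
      rw [show ({y} : Set (FibProd g)) = Subtype.val ⁻¹' ({y.1.1} ×ˢ {y.1.2}) by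
        ext z; simp [Subtype.ext_iff, Prod.ext_iff]]
      exact (IsClosed.prod hy isClosed_singleton).preimage continuous_subtype_val
  refine ⟨⟨spectralSpace_fibProd g, ?_, fun y => ?_⟩, ⟨⟨continuous_fst.comp continuous_subtype_val,
    fun U hU hU' => ?_⟩, fun y hy => ?_⟩, hclosed⟩
  · show IsClosed (ProEtW.closedPoints (FibProd g))
    rw [hclosed]
    exact hX.2.1.preimage (continuous_fst.comp continuous_subtype_val)
  · obtain ⟨c, ⟨hc, hyc⟩, huniq⟩ := hX.2.2 y.1.1
    refine ⟨⟨(c, y.1.2), (hmk hyc).symm.trans y.2⟩, ⟨(hclosed.ge hc : _), hsp' hyc rfl⟩,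
      fun z ⟨hz, hyz⟩ => ?_⟩
    refine Subtype.ext (Prod.ext ?_ (hsp hyz).2.symm)
    exact huniq _ ⟨hclosed.le hz, (hsp hyz).1⟩
  · rw [Subtype.isCompact_iff]
    have : Subtype.val '' ((fun y : FibProd g => y.1.1) ⁻¹' U) =
        (U ×ˢ (Set.univ : Set T)) ∩ {p : X × T | _root_.ConnectedComponents.mk p.1 = g p.2} := by
      ext p; constructor
      · rintro ⟨y, hy, rfl⟩; exact ⟨⟨hy, trivial⟩, y.2⟩
      · rintro ⟨⟨hp, -⟩, hp'⟩; exact ⟨⟨p, hp'⟩, hp, rfl⟩
    rw [this]
    exact (hU'.prod isCompact_univ).inter_right (isClosed_fibProd g)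
  · exact hclosed.le hy

end FibreProduct

theorem isWLocal_of_isClosed (hX : ProEtW.IsWLocal X) {Y : Set X} (hY : IsClosed Y) :
    ProEtW.IsWLocal Y := by
  haveI := hX.1
  have hc : ∀ y : Y, IsClosed ({y} : Set Y) ↔ IsClosed ({y.1} : Set X) := fun y => by
    rw [hY.isClosedEmbedding_subtypeVal.isClosed_iff_image_isClosed, Set.image_singleton]
  refine ⟨(SpectralLib.spectralSpace_of_isClosed (SpectralLib.isClosed_C_of_isClosed hY)).1, ?_,
    fun y => ?_⟩
  · simp only [hc]
    exact hX.2.1.preimage continuous_subtype_val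
  · obtain ⟨c, ⟨hcc, hyc⟩, huniq⟩ := hX.2.2 y.1
    refine ⟨⟨c, hyc.mem_closed hY y.2⟩, ⟨(hc _).2 hcc, IsEmbedding.subtypeVal.isInducing.specializes_iff.1 hyc⟩,
      fun z ⟨hz, hyz⟩ => Subtype.ext (huniq _ ⟨(hc z).1 hz, hyz.map continuous_subtype_val⟩)⟩

end Groth.Agent.WLocalLib
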