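import Groth.Agent.WLocalLib.LocConst
import Groth.Agent.WLocalLib.Topo
import Groth.Agent.WLocalLib.Retract
import Groth.Agent.WLocalLib.IdLocal
import Mathlib

/-!
The ind-Zariski ring attached to a profinite space over the components of `Spec A`, maps identifying
local rings between w-local rings.
-/

set_option autoImplicit false

open Topology CategoryTheory CategoryTheory.Limits

universe u

namespace Groth.Agent.WLocalLib

section PiRing

variable {A : Type u} [CommRing A] {T : Type u} [TopologicalSpace T]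
  (g : C(T, _root_.ConnectedComponents (PrimeSpectrum A)))

/-- Functions not vanishing on the fibre product. -/
def piSubmonoid : Submonoid (LC A T) where
  carrier := {s | ∀ x t, _root_.ConnectedComponents.mk x = g t → s t ∉ (x : PrimeSpectrum A).asIdeal}
  mul_mem' := fun ha hb x t h hab => (x.2.mem_or_mem hab).elim (ha x t h) (hb x t h)
  one_mem' := fun x t _ h => x.2.ne_top ((Ideal.eq_top_iff_one _).2 h)

/-- The ring of the fibre product. -/
abbrev PiRing : Type u := Localization (piSubmonoid g)

variable [CompactSpace T] [T2Space T] [TotallyDisconnectedSpace T]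

theorem range_coord_piRing : Set.range (coord (A := A) (T := T) (PiRing g)) =
    {p : PrimeSpectrum A × T | _root_.ConnectedComponents.mk p.1 = g p.2} := by
  classical
  rw [range_coord (piSubmonoid g)]
  ext ⟨x, t⟩
  refine ⟨fun hp => ?_, fun hp s hs => hs x t hp⟩
  by_contra hne
  obtain ⟨D, hD, hxD, hgD⟩ := compact_exists_isClopen_in_isOpen
    (isOpen_compl_singleton (x := g t)) (show _root_.ConnectedComponents.mk x ∈ ({g t} : Set _)ᶜ from hne)
  obtain ⟨e, -, hDe⟩ := PrimeSpectrum.isClopen_iff.1
    (hD.compl.preimage _root_.ConnectedComponents.continuous_coe)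
  have hC : IsClopen (g ⁻¹' Dᶜ) := hD.compl.preimage g.continuous
  let s : LC A T := algebraMap A (LC A T) e * LocallyConstant.charFn A hC +
    LocallyConstant.charFn A hC.compl
  have hs : ∀ y, s y = if y ∈ g ⁻¹' Dᶜ then e else 1 := fun y => by
    show e * LocallyConstant.charFn A hC y + LocallyConstant.charFn A hC.compl y = _
    by_cases hy : g y ∈ D <;> simp [LocallyConstant.coe_charFn, Set.indicator, hy]
  refine hp s (fun x' t' h' => ?_) ?_
  · rw [hs]; split_ifs with hy
    · have : x' ∈ (_root_.ConnectedComponents.mk) ⁻¹' Dᶜ := by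
        show _root_.ConnectedComponents.mk x' ∈ Dᶜ
        rw [h']; exact hy
      exact hDe.le this
    · exact fun h => x'.2.ne_top ((Ideal.eq_top_iff_one _).2 h)
  · rw [hs, if_pos (show t ∈ g ⁻¹' Dᶜ from fun h => hgD h rfl)]
    by_contra he
    exact (hDe.ge he : x ∈ _root_.ConnectedComponents.mk ⁻¹' Dᶜ) hxD

/-- The spectrum is the fibre product. -/
noncomputable def piRingHomeo : PrimeSpectrum (PiRing g) ≃ₜ FibProd g :=
  (isEmbedding_coord (piSubmonoid g) (PiRing g)).toHomeomorph.trans
    (Homeomorph.setCongr (range_coord_piRing g))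

theorem piRingHomeo_val (q : PrimeSpectrum (PiRing g)) :
    (piRingHomeo g q).1 = coord (A := A) (T := T) (PiRing g) q := rfl

theorem closedPoints_piRing (hA : ProEtW.IsWLocal (PrimeSpectrum A)) (q : PrimeSpectrum (PiRing g)) :
    IsClosed ({q} : Set (PrimeSpectrum (PiRing g))) ↔
      IsClosed ({PrimeSpectrum.comap (algebraMap A (PiRing g)) q} : Set (PrimeSpectrum A)) := by
  rw [← (piRingHomeo g).isClosed_image, Set.image_singleton,
    ← coord_fst (A := A) (T := T) (PiRing g) q]
  exact Set.ext_iff.1 (wLocal_fibProd g hA).2.2 (piRingHomeo g q)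

theorem isWLocal_of_homeo {X Y : Type u} [TopologicalSpace X] [TopologicalSpace Y] (h : X ≃ₜ Y)
    (hY : ProEtW.IsWLocal Y) [SpectralSpace X] : ProEtW.IsWLocal X := by
  have hc : ∀ x : X, IsClosed ({x} : Set X) ↔ IsClosed ({h x} : Set Y) := fun x => by
    rw [← h.isClosed_image, Set.image_singleton]
  refine ⟨inferInstance, ?_, fun x => ?_⟩
  · simp only [hc]
    exact hY.2.1.preimage h.continuous
  · obtain ⟨c, ⟨hcc, hxc⟩, hu⟩ := hY.2.2 (h x)
    refine ⟨h.symm c, ⟨(hc _).2 (by rwa [h.apply_symm_apply]), ?_⟩, fun y ⟨hy, hxy⟩ =>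
      h.eq_symm_apply.2 (hu _ ⟨(hc y).1 hy, hxy.map h.continuous⟩)⟩
    rw [← h.isInducing.specializes_iff, h.apply_symm_apply]; exact hxc

theorem isWLocal_piRing (hA : ProEtW.IsWLocal (PrimeSpectrum A)) :
    ProEtW.IsWLocal (PrimeSpectrum (PiRing g)) :=
  isWLocal_of_homeo (piRingHomeo g) (wLocal_fibProd g hA).1

end PiRing

theorem mk_bijective_closedPoints {X : Type u} [TopologicalSpace X] (hX : ProEtW.IsWLocal X) :
    Function.Bijective (fun z : ProEtW.closedPoints X => _root_.ConnectedComponents.mk z.1) := by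
  obtain ⟨_, _, _⟩ := isProfinite_closedPoints hX
  refine ⟨fun z z' h => ?_, fun c => ?_⟩
  · have h1 := congrArg (continuous_toClosed hX).connectedComponentsLift h
    simpa [Continuous.connectedComponentsLift_apply_coe, toClosed_coe] using h1
  · obtain ⟨x, rfl⟩ := _root_.ConnectedComponents.surjective_coe c
    exact ⟨toClosed hX x, _root_.ConnectedComponents.coe_eq_coe'.2
      (isPreconnected_singleton.closure.subset_connectedComponent (subset_closure rfl)
        (specializes_iff_mem_closure.1 (specializes_toClosed hX x)))⟩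

theorem mk_toClosed {X : Type u} [TopologicalSpace X] (hX : ProEtW.IsWLocal X) (x : X) :
    _root_.ConnectedComponents.mk (toClosed hX x : X) = _root_.ConnectedComponents.mk x :=
  _root_.ConnectedComponents.coe_eq_coe'.2
    (isPreconnected_singleton.closure.subset_connectedComponent (subset_closure rfl)
      (specializes_iff_mem_closure.1 (specializes_toClosed hX x)))

theorem isIndZariski_of_algEquiv {A B B' : Type u} [CommRing A] [CommRing B] [CommRing B']
    [Algebra A B] [Algebra A B'] (e : B ≃ₐ[A] B') (h : EtPBC.IsIndZariski A B) :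
    EtPBC.IsIndZariski A B' := by
  obtain ⟨J, i1, i2, D, c, hc, hD, ⟨i⟩⟩ := h
  exact ⟨J, i1, i2, D, c, hc, hD,
    ⟨i ≪≫ Under.isoMk e.toRingEquiv.toCommRingCatIso (CommRingCat.hom_ext e.toAlgHom.comp_algebraMap)⟩⟩

theorem incomparable_of_identifiesLocalRings {A B : Type u} [CommRing A] [CommRing B] [Algebra A B]
    (h : EtPBC.IdentifiesLocalRings A B) (q q' : PrimeSpectrum B)
    (he : q.asIdeal.comap (algebraMap A B) = q'.asIdeal.comap (algebraMap A B))
    (hle : q.asIdeal ≤ q'.asIdeal) : q = q' := by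
  refine PrimeSpectrum.ext (le_antisymm hle fun b hb => ?_)
  obtain ⟨a, s, hs, u, hu, hu0⟩ := (identifiesLocalRings_iff.1 h q').2 b
  have ha : algebraMap A B a ∈ q'.asIdeal := by
    have h2 : u * algebraMap A B a ∈ q'.asIdeal := by
      rw [show u * algebraMap A B a = u * algebraMap A B s * b by linear_combination -hu0]
      exact Ideal.mul_mem_left _ _ hb
    exact (q'.2.mem_or_mem h2).resolve_left hu
  have ha' : algebraMap A B a ∈ q.asIdeal := he.ge ha
  have h3 : u * algebraMap A B s * b ∈ q.asIdeal := by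
    rw [show u * algebraMap A B s * b = u * algebraMap A B a by linear_combination hu0]
    exact Ideal.mul_mem_left _ _ ha'
  exact (q.2.mem_or_mem h3).resolve_left fun h4 =>
    (q.2.mem_or_mem h4).elim (fun h5 => hu (hle h5)) fun h5 => hs (hle h5)

/-- A map of w-local rings identifying local rings and bijective on closed points is bijective. -/
theorem bijective_of_bijOn {A B : Type u} [CommRing A] [CommRing B] [Algebra A B]
    (h : EtPBC.IdentifiesLocalRings A B) (hA : ProEtW.IsWLocal (PrimeSpectrum A))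
    (hB : ProEtW.IsWLocal (PrimeSpectrum B))
    (hbij : Set.BijOn (PrimeSpectrum.comap (algebraMap A B))
      (ProEtW.closedPoints (PrimeSpectrum B)) (ProEtW.closedPoints (PrimeSpectrum A))) :
    Function.Bijective (algebraMap A B) := by
  have hI := identifiesLocalRings_iff.1 h
  have hlift : ∀ m : Ideal A, m.IsMaximal → ∃ z : PrimeSpectrum B,
      z.asIdeal.comap (algebraMap A B) = m ∧ IsClosed ({z} : Set (PrimeSpectrum B)) := fun m hm => by
    obtain ⟨z, hz, hzm⟩ := hbij.surjOn (show (⟨m, hm.isPrime⟩ : PrimeSpectrum A) ∈ ProEtW.closedPoints _ from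
      (PrimeSpectrum.isClosed_singleton_iff_isMaximal _).2 hm)
    exact ⟨z, congrArg PrimeSpectrum.asIdeal hzm, hz⟩
  refine ⟨(injective_iff_map_eq_zero _).2 fun a ha => ?_, fun b => ?_⟩
  · by_contra hne
    obtain ⟨m, hm, hJm⟩ := Ideal.exists_le_maximal ((⊥ : Ideal A).colon {a}) (fun h1 => hne (by
      have h2 : (1 : A) ∈ (⊥ : Ideal A).colon {a} := by rw [h1]; exact Submodule.mem_top
      simpa [Submodule.mem_colon_singleton] using h2))
    obtain ⟨z, hz, -⟩ := hlift m hm
    obtain ⟨v, hv, hva⟩ := (hI z).1 a 1 (fun h1 => z.2.ne_top ((Ideal.eq_top_iff_one _).2 h1))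
      (by rw [ha, mul_zero])
    exact hv (hz.ge (hJm (by simpa [Submodule.mem_colon_singleton] using hva)) : _)
  · let J : Ideal A := (Submodule.map (Algebra.linearMap A B) ⊤).colon {b}
    have hJ : ∀ x, x ∈ J ↔ ∃ a, algebraMap A B a = algebraMap A B x * b := fun x => by
      simp [J, Submodule.mem_colon_singleton, Algebra.smul_def]
    by_contra hb
    obtain ⟨m, hm, hJm⟩ := Ideal.exists_le_maximal J (fun h1 => hb (by
      obtain ⟨a, ha⟩ := (hJ 1).1 (h1 ▸ Submodule.mem_top)
      exact ⟨a, by rw [ha, map_one, one_mul]⟩))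
    obtain ⟨z, hz, hzc⟩ := hlift m hm
    obtain ⟨a, s, hs, u, hu, hu0⟩ := (hI z).2 b
    let N : Ideal B := (⊥ : Ideal B).colon {algebraMap A B s * b - algebraMap A B a}
    have huN : u ∈ N := by simpa [N, Submodule.mem_colon_singleton] using hu0
    by_cases hd : Disjoint (N : Set B) (Submonoid.map (algebraMap A B) m.primeCompl : Set B)
    · obtain ⟨P, hP, hNP, hPd⟩ := Ideal.exists_le_prime_disjoint N _ hd
      let y : PrimeSpectrum B := ⟨P, hP⟩
      have hym : (PrimeSpectrum.comap (algebraMap A B) y).asIdeal ≤ m := fun x hx => by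
        by_contra hxm
        exact Set.disjoint_left.1 hPd hx ⟨x, hxm, rfl⟩
      have h1 : (toClosed hB y : PrimeSpectrum B) = z := by
        refine hbij.injOn (toClosed hB y).2 hzc ?_
        have e1 := toClosed_eq hA (hbij.mapsTo (toClosed hB y).2)
          ((specializes_toClosed hB y).map (PrimeSpectrum.continuous_comap _))
        have e2 := toClosed_eq hA (x := PrimeSpectrum.comap (algebraMap A B) y) (hbij.mapsTo hzc)
          ((PrimeSpectrum.le_iff_specializes _ _).1 (hym.trans hz.ge))
        exact e1.symm.trans e2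
      exact hu (((PrimeSpectrum.le_iff_specializes y z).2 (h1 ▸ specializes_toClosed hB y)) (hNP huN))
    · obtain ⟨_, hN, v, hv, rfl⟩ := Set.not_disjoint_iff.1 hd
      have hvs : v * s ∈ J := (hJ _).2 ⟨v * a, by
        have h0 : algebraMap A B v * (algebraMap A B s * b - algebraMap A B a) = 0 := by
          simpa [N, Submodule.mem_colon_singleton] using hN
        rw [map_mul, map_mul]; linear_combination -h0⟩
      exact ((hm.isPrime.mem_or_mem (hJm hvs)).elim hv fun h1 => hs (hz.ge h1 : _))

/-- Identifying local rings between w-local rings with w-local map implies ind-Zariski. -/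
theorem isIndZariski_of_wLocalMap {A B : Type u} [CommRing A] [CommRing B]
    [Algebra A B] (h1 : EtPBC.IdentifiesLocalRings A B) (h2 : ProEtW.IsWLocal (PrimeSpectrum A))
    (h3 : ProEtW.IsWLocal (PrimeSpectrum B))
    (h4 : ProEtW.IsWLocalMap (PrimeSpectrum.comap (algebraMap A B))) :
    EtPBC.IsIndZariski A B := by
  classical
  haveI := h2.1
  haveI := h3.1
  let T := _root_.ConnectedComponents (PrimeSpectrum B)
  let g : C(T, _root_.ConnectedComponents (PrimeSpectrum A)) :=
    ⟨_, (PrimeSpectrum.continuous_comap (algebraMap A B)).connectedComponentsMap_continuous⟩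
  have hg : ∀ y : PrimeSpectrum B, g (_root_.ConnectedComponents.mk y) =
      _root_.ConnectedComponents.mk (PrimeSpectrum.comap (algebraMap A B) y) := fun y => rfl
  have hf : Continuous (_root_.ConnectedComponents.mk : PrimeSpectrum B → T) :=
    _root_.ConnectedComponents.continuous_coe
  have hpoint : ∀ y, PrimeSpectrum.comap (lcLift (A := A) hf).toRingHom y =
      point (PrimeSpectrum.comap (algebraMap A B) y) (_root_.ConnectedComponents.mk y) := fun y =>
    PrimeSpectrum.ext (Ideal.ext fun s => (agrees_lcLift hf s).mem_iff y)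
  have hunit : ∀ s : piSubmonoid g, IsUnit (lcLift (A := A) hf s.1) := fun s => by
    by_contra hnu
    obtain ⟨M, hM, hsM⟩ := exists_max_ideal_of_mem_nonunits hnu
    exact s.2 _ _ (hg ⟨M, hM.isPrime⟩).symm (((agrees_lcLift hf s.1).mem_iff ⟨M, hM.isPrime⟩).1 hsM)
  let φ : PiRing g →ₐ[A] B := IsLocalization.liftAlgHom (M := piSubmonoid g) hunit
  have hφ : ∀ s, φ (algebraMap (LC A T) (PiRing g) s) = lcLift hf s := fun s => by simp [φ]
  letI : Algebra (PiRing g) B := φ.toRingHom.toAlgebra
  have hfst : ∀ y, PrimeSpectrum.comap (algebraMap A (PiRing g)) (PrimeSpectrum.comap φ.toRingHom y) =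
      PrimeSpectrum.comap (algebraMap A B) y := fun y => by
    rw [← PrimeSpectrum.comap_comp_apply]
    congr 1
    exact RingHom.ext fun a => φ.commutes a
  have hcoord : ∀ y, coord (A := A) (T := T) (PiRing g) (PrimeSpectrum.comap φ.toRingHom y) =
      (PrimeSpectrum.comap (algebraMap A B) y, _root_.ConnectedComponents.mk y) := fun y => by
    have h := (exists_eq_point (PrimeSpectrum.comap (algebraMap (LC A T) (PiRing g))
      (PrimeSpectrum.comap φ.toRingHom y))).choose_spec
    have h' : PrimeSpectrum.comap (algebraMap (LC A T) (PiRing g)) (PrimeSpectrum.comap φ.toRingHom y) =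
        point (PrimeSpectrum.comap (algebraMap A B) y) (_root_.ConnectedComponents.mk y) := by
      rw [← hpoint, ← PrimeSpectrum.comap_comp_apply]
      congr 1
      exact RingHom.ext hφ
    refine Prod.ext ((coord_fst (PiRing g) _).trans (hfst y)) ?_
    exact (point_injective (h.symm.trans h')).2
  have hW := isWLocal_piRing g h2
  have hbij : Set.BijOn (PrimeSpectrum.comap (algebraMap (PiRing g) B))
      (ProEtW.closedPoints (PrimeSpectrum B)) (ProEtW.closedPoints (PrimeSpectrum (PiRing g))) := by
    refine ⟨fun y hy => ?_, fun y hy y' hy' he => ?_, fun q hq => ?_⟩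
    · show IsClosed ({PrimeSpectrum.comap φ.toRingHom y} : Set (PrimeSpectrum (PiRing g)))
      rw [closedPoints_piRing g h2, hfst]
      exact h4.2 y hy
    · have he' := congrArg (coord (A := A) (T := T) (PiRing g)) he
      rw [show algebraMap (PiRing g) B = φ.toRingHom from rfl, hcoord, hcoord] at he'
      exact congrArg Subtype.val ((mk_bijective_closedPoints h3).1
        (a₁ := ⟨y, hy⟩) (a₂ := ⟨y', hy'⟩) (congrArg Prod.snd he'))
    · obtain ⟨z, hz⟩ := (mk_bijective_closedPoints h3).2 (coord (A := A) (T := T) (PiRing g) q).2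
      refine ⟨z.1, z.2, (isEmbedding_coord (piSubmonoid g) (PiRing g)).injective ?_⟩
      rw [show algebraMap (PiRing g) B = φ.toRingHom from rfl, hcoord]
      refine Prod.ext ?_ hz
      have hq1 : _root_.ConnectedComponents.mk (coord (A := A) (T := T) (PiRing g) q).1 =
          g (coord (A := A) (T := T) (PiRing g) q).2 := (range_coord_piRing g).le ⟨q, rfl⟩
      have hqc := (closedPoints_piRing g h2 q).1 hq
      rw [← coord_fst (A := A) (T := T) (PiRing g) q] at hqc
      exact congrArg Subtype.val ((mk_bijective_closedPoints h2).1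
        (a₁ := ⟨_, h4.2 z.1 z.2⟩) (a₂ := ⟨_, hqc⟩) (by
          show _root_.ConnectedComponents.mk _ = _root_.ConnectedComponents.mk _
          rw [hq1, ← hg]; exact congrArg g hz))
  have hZ : EtPBC.IsIndZariski A (PiRing g) := isIndZariski_localization (piSubmonoid g) (PiRing g)
  have hid : EtPBC.IdentifiesLocalRings (PiRing g) B := by
    rw [identifiesLocalRings_iff]
    intro y
    refine IdAt.of_comp y
      (identifiesLocalRings_iff.1 (identifiesLocalRings_of_isIndZariski hZ)
        (PrimeSpectrum.comap φ.toRingHom y)) ?_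
    rw [show (algebraMap (PiRing g) B).comp (algebraMap A (PiRing g)) = algebraMap A B from
      RingHom.ext fun a => φ.commutes a]
    exact identifiesLocalRings_iff.1 h1 y
  exact isIndZariski_of_algEquiv
    (AlgEquiv.ofBijective φ (bijective_of_bijOn hid hW h3 hbij)) hZ

theorem extremallyDisconnected_closedPoints {X : Type u} [TopologicalSpace X] (hX : ProEtW.IsWLocal X)
    (h : ExtremallyDisconnected (_root_.ConnectedComponents X)) :
    ExtremallyDisconnected (ProEtW.closedPoints X) := by
  obtain ⟨_, _, _⟩ := isProfinite_closedPoints hX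
  haveI := hX.1
  have hc : Continuous (fun z : ProEtW.closedPoints X => _root_.ConnectedComponents.mk z.1) :=
    _root_.ConnectedComponents.continuous_coe.comp continuous_subtype_val
  exact extremallyDisconnected_of_homeo (hc.homeoOfEquivCompactToT2
    (f := Equiv.ofBijective _ (mk_bijective_closedPoints hX))).symm

theorem IdAt.of_le {A B : Type u} [CommRing A] [CommRing B] {f : A →+* B} {M : PrimeSpectrum B}
    (h : IdAt f M.asIdeal) (q : PrimeSpectrum B) (hle : q.asIdeal ≤ M.asIdeal) : IdAt f q.asIdeal := by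
  refine ⟨fun a u hu hua => ?_, fun b => ?_⟩
  · obtain ⟨a', s, hs, t, ht, ht0⟩ := h.2 u
    have h1 : t * f (a' * a) = 0 := by
      rw [map_mul]; linear_combination (-(f a)) * ht0 + (t * f s) * hua
    obtain ⟨v, hv, hva⟩ := h.1 (a' * a) t ht h1
    refine ⟨v * a', fun hmem => ?_, by rw [mul_assoc]; exact hva⟩
    rw [map_mul] at hmem
    rcases q.2.mem_or_mem hmem with h2 | h2
    · exact hv (hle h2)
    · have h3 : t * (f s * u) ∈ q.asIdeal := by
        rw [show t * (f s * u) = t * f a' by linear_combination ht0]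
        exact Ideal.mul_mem_left _ _ h2
      exact (q.2.mem_or_mem h3).elim (fun h4 => ht (hle h4)) fun h4 =>
        (q.2.mem_or_mem h4).elim (fun h5 => hs (hle h5)) hu
  · obtain ⟨a, s, hs, t, ht, ht0⟩ := h.2 b
    exact ⟨a, s, fun h' => hs (hle h'), t, fun h' => ht (hle h'), ht0⟩

/-- A retraction for a faithfully flat algebra identifying local rings over the closed points. -/
theorem exists_retraction {A : Type u} [CommRing A] (hA : ProEtW.IsWLocal (PrimeSpectrum A))
    (hE : ExtremallyDisconnected (_root_.ConnectedComponents (PrimeSpectrum A)))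
    (B : Type u) [CommRing B] [Algebra A B] [Module.FaithfullyFlat A B]
    (hinc : ∀ q q' : PrimeSpectrum B, q.asIdeal.comap (algebraMap A B) = q'.asIdeal.comap (algebraMap A B) →
      q.asIdeal ≤ q'.asIdeal → q = q')
    (hloc : ∀ y : PrimeSpectrum B,
      PrimeSpectrum.comap (algebraMap A B) y ∈ ProEtW.closedPoints (PrimeSpectrum A) →
        IdAt (algebraMap A B) y.asIdeal) :
    Nonempty (B →ₐ[A] A) := by
  classical
  haveI := hA.1
  obtain ⟨_, _, _⟩ := isProfinite_closedPoints hA
  haveI := extremallyDisconnected_closedPoints hA hE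
  let Z := ProEtW.closedPoints (PrimeSpectrum A)
  let c := PrimeSpectrum.comap (algebraMap A B)
  let K : Set (PrimeSpectrum B) := c ⁻¹' Z
  have hK : IsClosed K := hA.2.1.preimage (PrimeSpectrum.continuous_comap _)
  haveI := (SpectralLib.spectralSpace_of_isClosed (SpectralLib.isClosed_C_of_isClosed hK)).1
  obtain ⟨_, _, _⟩ := isProfinite_of_t1 (X := K) fun y => by
    rw [hK.isClosedEmbedding_subtypeVal.isClosed_iff_image_isClosed, Set.image_singleton]
    exact isClosed_singleton_of_comap (algebraMap A B) hinc y.1 y.2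
  let p : K → Z := fun y => ⟨c y.1, y.2⟩
  have hp : Continuous p :=
    ((PrimeSpectrum.continuous_comap _).comp continuous_subtype_val).subtype_mk _
  have hps : Function.Surjective p := fun z => by
    obtain ⟨y, hy⟩ := PrimeSpectrum.comap_surjective_of_faithfullyFlat (A := A) (B := B) z.1
    exact ⟨⟨y, show c y ∈ Z by rw [show c y = z.1 from hy]; exact z.2⟩, Subtype.ext hy⟩
  obtain ⟨σ, hσ, hpσ⟩ := CompactT2.ExtremallyDisconnected.projective
    (continuous_id (X := Z)) hp hps
  have hcσ : ∀ z, c (σ z).1 = z.1 := fun z => congrArg Subtype.val (congrFun hpσ z)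
  let S : Submonoid B :=
    { carrier := {b | ∀ z, b ∉ (σ z).1.asIdeal}
      mul_mem' := fun ha hb z h => ((σ z).1.2.mem_or_mem h).elim (ha z) (hb z)
      one_mem' := fun z h => (σ z).1.2.ne_top ((Ideal.eq_top_iff_one _).2 h) }
  let B' := Localization S
  have hclop : ∀ C : Set Z, IsClopen C → ∃ e : A, IsIdempotentElem e ∧
      ∀ z : Z, z ∈ C ↔ e ∉ z.1.asIdeal := fun C hC => by
    obtain ⟨e, he, hCe⟩ := PrimeSpectrum.isClopen_iff.1 (hC.preimage (continuous_toClosed hA))
    refine ⟨e, he, fun z => ?_⟩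
    have := Set.ext_iff.1 hCe z.1
    rw [Set.mem_preimage, toClosed_coe] at this
    exact this
  have hmax : ∀ y : PrimeSpectrum B, (∀ b ∈ S, b ∉ y.asIdeal) → ∃ z, y.asIdeal ≤ (σ z).1.asIdeal := by
    intro y hy
    by_contra! H
    choose b hby hbz using fun z => Set.not_subset.1 (H z)
    have : ∀ z, ∃ C : Set Z, IsClopen C ∧ z ∈ C ∧ ∀ w ∈ C, b z ∉ (σ w).1.asIdeal := fun z => by
      obtain ⟨C, hC, hzC, hCU⟩ := compact_exists_isClopen_in_isOpen
        ((PrimeSpectrum.basicOpen (b z)).isOpen.preimage (continuous_subtype_val.comp hσ))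
        (show z ∈ (fun w => (σ w).1) ⁻¹' (PrimeSpectrum.basicOpen (b z) : Set (PrimeSpectrum B)) from hbz z)
      exact ⟨C, hC, hzC, fun w hw => hCU hw⟩
    choose C hC hzC hCb using this
    obtain ⟨F, hF⟩ := isCompact_univ.elim_finite_subcover C (fun z => (hC z).isOpen)
      fun z _ => Set.mem_iUnion.2 ⟨z, hzC z⟩
    have hind : ∀ F : Finset Z, ∃ x ∈ y.asIdeal, ∀ w ∈ ⋃ z ∈ F, C z, x ∉ (σ w).1.asIdeal := by
      intro F
      induction F using Finset.induction with
      | empty => exact ⟨0, zero_mem _, fun w hw => by simp at hw⟩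
      | insert z F _ ih =>
        obtain ⟨x, hx, hxF⟩ := ih
        obtain ⟨e, he, hCe⟩ := hclop (C z) (hC z)
        refine ⟨algebraMap A B e * b z + algebraMap A B (1 - e) * x,
          add_mem (Ideal.mul_mem_left _ _ (hby z)) (Ideal.mul_mem_left _ _ hx), fun w hw hmem => ?_⟩
        have hP := (σ w).1.2
        have hw' : w ∈ C z ∨ w ∈ ⋃ i ∈ F, C i := by simpa using hw
        have hiff : ∀ a, a ∈ w.1.asIdeal ↔ algebraMap A B a ∈ (σ w).1.asIdeal := fun a => by
          rw [← hcσ w]; rfl
        by_cases hwz : w ∈ C z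
        · have h1 : e ∉ w.1.asIdeal := (hCe w).1 hwz
          have h2 : 1 - e ∈ w.1.asIdeal := (w.1.2.mem_or_mem (show e * (1 - e) ∈ w.1.asIdeal by
            rw [mul_sub, mul_one, he.eq, sub_self]; exact zero_mem _)).resolve_left h1
          have h3 := (Submodule.add_mem_iff_left _ (Ideal.mul_mem_right x _ ((hiff _).1 h2))).1 hmem
          exact (hP.mem_or_mem h3).elim (fun h => h1 ((hiff _).2 h)) (hCb z w hwz)
        · have h1 : e ∈ w.1.asIdeal := not_not.1 fun h => hwz ((hCe w).2 h)
          have h2 : 1 - e ∉ w.1.asIdeal := fun h => w.1.2.ne_top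
            ((Ideal.eq_top_iff_one _).2 (by simpa using add_mem h1 h))
          have h3 := (Submodule.add_mem_iff_right _ (Ideal.mul_mem_right _ _ ((hiff _).1 h1))).1 hmem
          exact (hP.mem_or_mem h3).elim (fun h => h2 ((hiff _).2 h)) (hxF w (hw'.resolve_left hwz))
    obtain ⟨x, hx, hxF⟩ := hind F
    exact hy x (fun w => hxF w (hF trivial)) hx
  have hrange : ∀ y' : PrimeSpectrum B', ∃ z, (PrimeSpectrum.comap (algebraMap B B') y').asIdeal ≤
      (σ z).1.asIdeal := fun y' => hmax _ fun b hb h =>
    y'.2.ne_top (Ideal.eq_top_of_isUnit_mem _ h (IsLocalization.map_units B' ⟨b, hb⟩))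
  have hlift : ∀ z, ∃ y' : PrimeSpectrum B', PrimeSpectrum.comap (algebraMap B B') y' = (σ z).1 := fun z => by
    have hd : Disjoint (S : Set B) ((σ z).1.asIdeal : Set B) := Set.disjoint_left.2 fun b hb h => hb z h
    exact ⟨⟨_, IsLocalization.isPrime_of_isPrime_disjoint S B' _ (σ z).1.2 hd⟩,
      PrimeSpectrum.ext (IsLocalization.under_map_of_isPrime_disjoint S B' (σ z).1.2 hd)⟩
  have hcomp : ∀ y', PrimeSpectrum.comap (algebraMap A B') y' = c (PrimeSpectrum.comap (algebraMap B B') y') :=
    fun y' => by rw [IsScalarTower.algebraMap_eq A B B', PrimeSpectrum.comap_comp_apply]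
  have hemb := PrimeSpectrum.localization_comap_isEmbedding B' S
  have hid' : EtPBC.IdentifiesLocalRings A B' := by
    rw [identifiesLocalRings_iff]
    intro y'
    rw [IsScalarTower.algebraMap_eq A B B']
    obtain ⟨z, hz⟩ := hrange y'
    exact IdAt.comp y' ((hloc (σ z).1 (σ z).2).of_le (PrimeSpectrum.comap (algebraMap B B') y') hz)
      (idAt_of_isLocalization S y')
  have hclosedA : ∀ y' : PrimeSpectrum B', IsClosed ({y'} : Set (PrimeSpectrum B')) ↔
      PrimeSpectrum.comap (algebraMap A B') y' ∈ Z := fun y' => by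
    refine ⟨fun hy => ?_, isClosed_singleton_of_comap (algebraMap A B')
      (incomparable_of_identifiesLocalRings hid') y'⟩
    obtain ⟨z, hz⟩ := hrange y'
    obtain ⟨y₁, hy₁⟩ := hlift z
    have hsp : y' ⤳ y₁ := hemb.isInducing.specializes_iff.1
      ((PrimeSpectrum.le_iff_specializes _ _).1 (hy₁ ▸ hz))
    have he : y₁ = y' := hsp.mem_closed hy rfl
    rw [← he, hcomp, hy₁, hcσ]; exact z.2
  have hcl2 : ∀ y' : PrimeSpectrum B', PrimeSpectrum.comap (algebraMap A B') y' ∈ Z →
      ∀ hz : Z, hz.1 = PrimeSpectrum.comap (algebraMap A B') y' →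
        PrimeSpectrum.comap (algebraMap B B') y' = (σ hz).1 := fun y' hy hz he => by
    obtain ⟨z, hzl⟩ := hrange y'
    obtain ⟨y₁, hy₁⟩ := hlift z
    have hsp : y' ⤳ y₁ := hemb.isInducing.specializes_iff.1
      ((PrimeSpectrum.le_iff_specializes _ _).1 (hy₁ ▸ hzl))
    have he' : y₁ = y' := hsp.mem_closed ((hclosedA y').2 hy) rfl
    have hzz : hz = z := Subtype.ext (by rw [he, hcomp, ← he', hy₁, hcσ])
    rw [← he', hy₁, hzz]
  have hWB : ProEtW.IsWLocal (PrimeSpectrum B') := by
    refine ⟨inferInstance, ?_, fun y' => ?_⟩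
    · simp only [hclosedA]
      exact hA.2.1.preimage (PrimeSpectrum.continuous_comap _)
    · obtain ⟨z, hz⟩ := hrange y'
      obtain ⟨y₁, hy₁⟩ := hlift z
      have hy₁c : IsClosed ({y₁} : Set (PrimeSpectrum B')) := (hclosedA y₁).2 (by rw [hcomp, hy₁, hcσ]; exact z.2)
      refine ⟨y₁, ⟨hy₁c, hemb.isInducing.specializes_iff.1
        ((PrimeSpectrum.le_iff_specializes _ _).1 (hy₁ ▸ hz))⟩, fun y₂ ⟨hy₂, hsp⟩ => hemb.injective ?_⟩
      have h2 := (hclosedA y₂).1 hy₂
      rw [hcl2 y₂ h2 ⟨_, h2⟩ rfl, hy₁]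
      refine congrArg (fun w => (σ w).1) (Subtype.ext ?_)
      have e1 := toClosed_eq hA h2 (hsp.map (PrimeSpectrum.continuous_comap (algebraMap A B')))
      have e2 := toClosed_eq hA (x := PrimeSpectrum.comap (algebraMap A B') y') z.2 (by
        rw [hcomp, ← hcσ z]
        exact ((PrimeSpectrum.le_iff_specializes _ _).1 hz).map (PrimeSpectrum.continuous_comap _))
      exact e1.symm.trans e2
  have hbij : Set.BijOn (PrimeSpectrum.comap (algebraMap A B'))
      (ProEtW.closedPoints (PrimeSpectrum B')) Z := by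
    refine ⟨fun y hy => (hclosedA y).1 hy, fun y hy y' hy' he => hemb.injective ?_, fun z hz => ?_⟩
    · rw [hcl2 y ((hclosedA y).1 hy) ⟨_, (hclosedA y).1 hy⟩ rfl,
        hcl2 y' ((hclosedA y').1 hy') ⟨_, (hclosedA y).1 hy⟩ he]
    · obtain ⟨y₁, hy₁⟩ := hlift ⟨z, hz⟩
      have h0 : PrimeSpectrum.comap (algebraMap A B') y₁ = z := by rw [hcomp, hy₁, hcσ]
      exact ⟨y₁, (hclosedA y₁).2 (h0 ▸ hz), h0⟩
  exact ⟨(AlgEquiv.ofBijective (Algebra.ofId A B') (bijective_of_bijOn hid' hA hWB hbij)).symm.toAlgHom.comp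
    (IsScalarTower.toAlgHom A B B')⟩

/-- Retractions of faithfully flat ind-Zariski algebras over a w-local ring. -/
theorem hasIndZariskiRetractions {A : Type u} [CommRing A] (hA : ProEtW.IsWLocal (PrimeSpectrum A))
    (hE : ExtremallyDisconnected (_root_.ConnectedComponents (PrimeSpectrum A))) :
    ProEtW.HasIndZariskiRetractions A := by
  intro B _ _ hff hB
  have hid := identifiesLocalRings_of_isIndZariski hB
  exact exists_retraction hA hE B (incomparable_of_identifiesLocalRings hid)
    fun y _ => identifiesLocalRings_iff.1 hid y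

end Groth.Agent.WLocalLib
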