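import Groth.Agent.WLocalLib.WeakEtale
import Groth.Agent.WLocalLib.Strict
import Groth.Agent.WLocalLib.WRing
import Groth.Agent.WLocalLib.PiRing
import Groth.Agent.ProEtLib2.EtaleTower
import Groth.Agent.ProEtLib2.IndEtaleWeakly
import Groth.Agent.S0675
import Groth.Agent.S0737
import Mathlib

/-!
W-local ind-étale covers with strictly henselian local rings at closed points.
-/

set_option autoImplicit false

open scoped TensorProduct

universe u

namespace Groth.Agent.WLocalLib

theorem incomparable_of_isIndEtale {A B : Type u} [CommRing A] [CommRing B] [Algebra A B]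
    (h : EtPBC.IsIndEtale A B) (q q' : PrimeSpectrum B)
    (he : q.asIdeal.comap (algebraMap A B) = q'.asIdeal.comap (algebraMap A B))
    (hle : q.asIdeal ≤ q'.asIdeal) : q = q' :=
  haveI := ProEtLib2.weaklyEtale_of_isIndEtale h
  incomparable_of_weaklyEtale q q' he hle

theorem exists_zeroLocus_lift {A B : Type u} [CommRing A] [CommRing B] [Algebra A B] (I : Ideal A)
    (hb : Function.Bijective (Ideal.quotientMap (I.map (algebraMap A B)) (algebraMap A B)
      Ideal.le_comap_map))
    (q : PrimeSpectrum A) (hq : q ∈ PrimeSpectrum.zeroLocus (R := A) I) :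
    ∃ r : PrimeSpectrum B, r ∈ PrimeSpectrum.zeroLocus (R := B) (I.map (algebraMap A B)) ∧
      PrimeSpectrum.comap (algebraMap A B) r = q := by
  obtain ⟨p, rfl⟩ : q ∈ Set.range (PrimeSpectrum.comap (Ideal.Quotient.mk I)) := by
    rw [range_comap_of_surjective _ _ Ideal.Quotient.mk_surjective, Ideal.mk_ker]
    exact hq
  let e := RingEquiv.ofBijective _ hb
  refine ⟨PrimeSpectrum.comap (Ideal.Quotient.mk (I.map (algebraMap A B)))
    (PrimeSpectrum.comap (e.symm : _ →+* A ⧸ I) p), fun x hx => ?_, ?_⟩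
  · show e.symm (Ideal.Quotient.mk _ x) ∈ p.asIdeal
    rw [Ideal.Quotient.eq_zero_iff_mem.2 hx, map_zero]; exact zero_mem _
  · rw [← PrimeSpectrum.comap_comp_apply, ← PrimeSpectrum.comap_comp_apply]
    congr 1
    exact RingHom.ext fun a => e.symm_apply_apply (Ideal.Quotient.mk I a)

/-- Every ring has a w-local faithfully flat ind-étale cover with strictly henselian local rings at
the closed points, which map onto the spectrum. -/
theorem exists_strict_wLocal (A : Type u) [CommRing A] :
    ∃ (C : Type u) (_ : CommRing C) (_ : Algebra A C),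
      Module.FaithfullyFlat A C ∧ EtPBC.IsIndEtale A C ∧ ProEtW.IsWLocal (PrimeSpectrum C) ∧
      PrimeSpectrum.comap (algebraMap A C) '' ProEtW.closedPoints (PrimeSpectrum C) = Set.univ ∧
      ∀ (m : Ideal C) [m.IsMaximal], EtCoh.IsStrictlyHenselianLocalRing (Localization.AtPrime m) := by
  let C0 := WLocalization A
  have hW0 := isWLocal_wLocalization A
  obtain ⟨E, _, _, hff, hE, hret⟩ := ProEtLib2.exists_indEtale_hasEtaleRetractions C0
  let I0 := PrimeSpectrum.vanishingIdeal (ProEtW.closedPoints (PrimeSpectrum C0))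
  have hI0 : PrimeSpectrum.zeroLocus (R := C0) I0 = ProEtW.closedPoints (PrimeSpectrum C0) := by
    exact (PrimeSpectrum.zeroLocus_vanishingIdeal_eq_closure _).trans (IsClosed.closure_eq hW0.2.1)
  have hV : ∀ e ∈ PrimeSpectrum.zeroLocus (R := E) (I0.map (algebraMap C0 E)),
      IsClosed ({e} : Set (PrimeSpectrum E)) := fun e he =>
    isClosed_singleton_of_comap (algebraMap C0 E) (incomparable_of_isIndEtale hE) e
      (hI0.le (show PrimeSpectrum.comap (algebraMap C0 E) e ∈ PrimeSpectrum.zeroLocus (R := C0) I0 from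
        Ideal.map_le_iff_le_comap.1 he))
  obtain ⟨C, _, _, hZ, hW, hcp, hb⟩ := exists_wLocal_along E (I0.map (algebraMap C0 E))
    (isProfinite_zeroLocus _ hV)
  letI : Algebra A E := ((algebraMap C0 E).comp (algebraMap A C0)).toAlgebra
  haveI : IsScalarTower A C0 E := IsScalarTower.of_algebraMap_eq' (R := A) (S := C0) (A := E) rfl
  letI : Algebra A C := ((algebraMap E C).comp (algebraMap A E)).toAlgebra
  haveI : IsScalarTower A E C := IsScalarTower.of_algebraMap_eq' rfl
  have hind : EtPBC.IsIndEtale A C := ProEtLib2.isIndEtale_trans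
    (ProEtLib2.isIndEtale_trans (isIndEtale_of_isIndZariski (isIndZariski_wRing _)) hE)
    (isIndEtale_of_isIndZariski hZ)
  have hsurj : PrimeSpectrum.comap (algebraMap A C) '' ProEtW.closedPoints (PrimeSpectrum C) = Set.univ := by
    refine Set.eq_univ_iff_forall.2 fun x => ?_
    obtain ⟨c, hc, rfl⟩ := (bijOn_closedPoints (fromCons A) (fromCons_bijective A)).surjOn (Set.mem_univ x)
    obtain ⟨e, rfl⟩ := PrimeSpectrum.comap_surjective_of_faithfullyFlat (A := C0) (B := E) c
    obtain ⟨r, hr, hre⟩ := exists_zeroLocus_lift (I0.map (algebraMap C0 E)) hb e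
      (show e ∈ PrimeSpectrum.zeroLocus (R := E) (I0.map (algebraMap C0 E)) from
        Ideal.map_le_iff_le_comap.2 (hI0.ge hc))
    refine ⟨r, hcp.ge hr, ?_⟩
    rw [← hre, ← PrimeSpectrum.comap_comp_apply, ← PrimeSpectrum.comap_comp_apply]
    rfl
  haveI := ProEtLib2.flat_of_isIndEtale hind
  refine ⟨C, inferInstance, inferInstance, Module.FaithfullyFlat.of_comap_surjective fun x => ?_,
    hind, hW, hsurj, fun m hm => ?_⟩
  · obtain ⟨r, -, hr⟩ := hsurj.ge (Set.mem_univ x)
    exact ⟨r, hr⟩
  · let m' : PrimeSpectrum C := ⟨m, hm.isPrime⟩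
    have hm' : m' ∈ PrimeSpectrum.zeroLocus (R := C) ((I0.map (algebraMap C0 E)).map (algebraMap E C)) :=
      hcp.le ((PrimeSpectrum.isClosed_singleton_iff_isMaximal m').2 hm)
    haveI : (m.comap (algebraMap E C)).IsMaximal :=
      (PrimeSpectrum.isClosed_singleton_iff_isMaximal (PrimeSpectrum.comap (algebraMap E C) m')).1
        (hV _ (Ideal.map_le_iff_le_comap.1 hm'))
    exact isStrictlyHenselian_of_ringEquiv
      (RingEquiv.ofBijective _ (identifiesLocalRings_of_isIndZariski hZ m'))
      (Groth.Agent.S0675.result E hret (m.comap (algebraMap E C)))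

/-- The w-local square over a map with algebraic residue extensions. -/
theorem exists_strict_square (A B : Type u) [CommRing A] [CommRing B] [Algebra A B]
    (h : ProEtW.AlgebraicResidueExtensions A B) :
    ∃ (C D : Type u) (_ : CommRing C) (_ : CommRing D) (_ : Algebra A C) (_ : Algebra B D)
      (_ : Algebra C D) (_ : Algebra A D) (_ : IsScalarTower A C D) (_ : IsScalarTower A B D),
      Module.FaithfullyFlat A C ∧ EtPBC.IsIndEtale A C ∧ Module.FaithfullyFlat B D ∧
      EtPBC.IsIndEtale B D ∧ ProEtW.IsWLocal (PrimeSpectrum C) ∧ ProEtW.IsWLocal (PrimeSpectrum D) ∧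
      ProEtW.IsWLocalMap (PrimeSpectrum.comap (algebraMap C D)) ∧
      ProEtW.closedPoints (PrimeSpectrum D) =
        PrimeSpectrum.comap (algebraMap C D) ⁻¹' ProEtW.closedPoints (PrimeSpectrum C) ∧
      PrimeSpectrum.comap (algebraMap A C) '' ProEtW.closedPoints (PrimeSpectrum C) = Set.univ ∧
      PrimeSpectrum.comap (algebraMap B D) '' ProEtW.closedPoints (PrimeSpectrum D) = Set.univ ∧
      ∀ (m : Ideal C) [m.IsMaximal], EtCoh.IsStrictlyHenselianLocalRing (Localization.AtPrime m) := by
  obtain ⟨C, _, _, hffC, hindC, hWC, hsC, hsh⟩ := exists_strict_wLocal A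
  letI iCX : Algebra C (B ⊗[A] C) :=
    ((Algebra.TensorProduct.includeRight : C →ₐ[A] B ⊗[A] C).toRingHom).toAlgebra
  let e : C ⊗[A] B ≃ₐ[C] B ⊗[A] C :=
    AlgEquiv.ofRingEquiv (f := (Algebra.TensorProduct.comm A C B).toRingEquiv) fun c => rfl
  have hres := algebraicResidueExtensions_of_algEquiv e (algebraicResidueExtensions_baseChange (C := C) h)
  let I := PrimeSpectrum.vanishingIdeal (ProEtW.closedPoints (PrimeSpectrum C))
  have hI : PrimeSpectrum.zeroLocus (R := C) I = ProEtW.closedPoints (PrimeSpectrum C) := by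
    exact (PrimeSpectrum.zeroLocus_vanishingIdeal_eq_closure _).trans (IsClosed.closure_eq hWC.2.1)
  obtain ⟨hcl, D, iD, iXD, iCD, hT, hZ, hb, hWD, hmap, hcpD⟩ :=
    Groth.Agent.S0737.result C (B ⊗[A] C) hWC I (PrimeSpectrum.isRadical_vanishingIdeal _) hI hres
  letI iBD : Algebra B D :=
    ((algebraMap (B ⊗[A] C) D).comp (algebraMap B (B ⊗[A] C))).toAlgebra
  letI iAD : Algebra A D := ((algebraMap B D).comp (algebraMap A B)).toAlgebra
  haveI : IsScalarTower B (B ⊗[A] C) D := IsScalarTower.of_algebraMap_eq' rfl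
  haveI : IsScalarTower A B D := IsScalarTower.of_algebraMap_eq' rfl
  haveI : IsScalarTower A C D := IsScalarTower.of_algebraMap_eq fun a => by
    rw [IsScalarTower.algebraMap_apply C (B ⊗[A] C) D]
    show algebraMap (B ⊗[A] C) D (algebraMap A B a ⊗ₜ 1) = algebraMap (B ⊗[A] C) D (1 ⊗ₜ algebraMap A C a)
    congr 1
    rw [Algebra.algebraMap_eq_smul_one, Algebra.algebraMap_eq_smul_one, TensorProduct.smul_tmul]
  have hindD : EtPBC.IsIndEtale B D := ProEtLib2.isIndEtale_trans
    (ProEtLib2.isIndEtale_baseChange hindC) (isIndEtale_of_isIndZariski hZ)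
  have hsD : PrimeSpectrum.comap (algebraMap B D) '' ProEtW.closedPoints (PrimeSpectrum D) = Set.univ := by
    refine Set.eq_univ_iff_forall.2 fun q => ?_
    obtain ⟨m, hm, hmq⟩ := hsC.ge (Set.mem_univ (PrimeSpectrum.comap (algebraMap A B) q))
    obtain ⟨P, hPq, hPm⟩ := exists_prime_tensor q m hmq.symm
    obtain ⟨r, hr, hrP⟩ := exists_zeroLocus_lift (I.map (algebraMap C (B ⊗[A] C))) hb P
      (show P ∈ PrimeSpectrum.zeroLocus (R := B ⊗[A] C) (I.map (algebraMap C (B ⊗[A] C))) from
        Ideal.map_le_iff_le_comap.2 (show I ≤ (PrimeSpectrum.comap (algebraMap C (B ⊗[A] C)) P).asIdeal by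
          rw [show PrimeSpectrum.comap (algebraMap C (B ⊗[A] C)) P = m from hPm]
          exact hI.ge hm))
    refine ⟨r, ?_, ?_⟩
    · rw [hcpD, Set.mem_preimage, IsScalarTower.algebraMap_eq C (B ⊗[A] C) D,
        PrimeSpectrum.comap_comp_apply, hrP,
        show PrimeSpectrum.comap (algebraMap C (B ⊗[A] C)) P = m from hPm]
      exact hm
    · rw [IsScalarTower.algebraMap_eq B (B ⊗[A] C) D, PrimeSpectrum.comap_comp_apply, hrP]
      exact hPq
  haveI := ProEtLib2.flat_of_isIndEtale hindD
  refine ⟨C, D, inferInstance, inferInstance, inferInstance, iBD, iCD, iAD, inferInstance,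
    inferInstance, hffC, hindC, Module.FaithfullyFlat.of_comap_surjective fun x => ?_, hindD, hWC, hWD,
    hmap, hcpD, hsC, hsD, hsh⟩
  obtain ⟨r, -, hr⟩ := hsD.ge (Set.mem_univ x)
  exact ⟨r, hr⟩

end Groth.Agent.WLocalLib
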