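import Groth.Agent.WLocalLib.Contractible
import Groth.Agent.WLocalLib.StrictCover
import Mathlib

/-!
Constructions of w-contractible rings: covers and localisations along closed subsets.
-/

set_option autoImplicit false

open Topology

universe u

namespace Groth.Agent.WLocalLib

theorem extremallyDisconnected_of_isOpenEmbedding {X Y : Type u} [TopologicalSpace X]
    [TopologicalSpace Y] [ExtremallyDisconnected Y] {f : X → Y} (hf : IsOpenEmbedding f) :
    ExtremallyDisconnected X := by
  refine ⟨fun U hU => ?_⟩
  have h : closure U = f ⁻¹' closure (f '' U) := by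
    rw [hf.isOpenMap.preimage_closure_eq_closure_preimage hf.continuous, hf.injective.preimage_image]
  rw [h]
  exact (ExtremallyDisconnected.open_closure _ (hf.isOpenMap U hU)).preimage hf.continuous

theorem extremallyDisconnected_piZero {X : Type u} [TopologicalSpace X] (hX : ProEtW.IsWLocal X)
    (h : ExtremallyDisconnected (ProEtW.closedPoints X)) :
    ExtremallyDisconnected (_root_.ConnectedComponents X) := by
  obtain ⟨_, _, _⟩ := isProfinite_closedPoints hX
  haveI := hX.1
  have hc : Continuous (fun z : ProEtW.closedPoints X => _root_.ConnectedComponents.mk z.1) :=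
    _root_.ConnectedComponents.continuous_coe.comp continuous_subtype_val
  exact extremallyDisconnected_of_homeo (hc.homeoOfEquivCompactToT2
    (f := Equiv.ofBijective _ (mk_bijective_closedPoints hX)))

theorem isClopen_closedPoints_inter {R : Type u} [CommRing R] (hR : ProEtW.IsWLocal (PrimeSpectrum R))
    (e : R) : IsClopen (Subtype.val ⁻¹' (PrimeSpectrum.basicOpen e : Set (PrimeSpectrum R)) :
      Set (ProEtW.closedPoints (PrimeSpectrum R))) := by
  obtain ⟨_, _, _⟩ := isProfinite_closedPoints hR
  refine ⟨IsCompact.isClosed ?_, (PrimeSpectrum.basicOpen e).isOpen.preimage continuous_subtype_val⟩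
  rw [IsEmbedding.subtypeVal.isCompact_iff, Subtype.image_preimage_coe, Set.inter_comm]
  exact (PrimeSpectrum.isCompact_basicOpen e).inter_right hR.2.1

/-- A localisation with image the generalisations of `V(E)`, `E` finite, is w-contractible. -/
theorem isWContractible_localization (A B : Type u) [CommRing A] [CommRing B]
    [Algebra A B] (S : Submonoid A) [IsLocalization S B] (E : Finset A)
    (hB : Set.range (PrimeSpectrum.comap (algebraMap A B)) =
      {x | ∃ z : PrimeSpectrum A, z ∈ PrimeSpectrum.zeroLocus (R := A) E ∧ x ⤳ z})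
    (hA : EtPBC.IsWContractible A) : EtPBC.IsWContractible B := by
  classical
  obtain ⟨hW, hE, hs⟩ := isWContractible_iff.1 hA
  haveI := hW.1
  haveI := extremallyDisconnected_closedPoints hW hE
  let c := PrimeSpectrum.comap (algebraMap A B)
  let V : Set (ProEtW.closedPoints (PrimeSpectrum A)) := Subtype.val ⁻¹' PrimeSpectrum.zeroLocus (R := A) E
  have hV : IsClopen V := by
    have : V = ⋂ e ∈ E, (Subtype.val ⁻¹' (PrimeSpectrum.basicOpen e : Set (PrimeSpectrum A)))ᶜ := by
      ext z
      simp [V, PrimeSpectrum.mem_zeroLocus, Set.subset_def]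
    rw [this]
    exact isClopen_biInter_finset fun e _ => (isClopen_closedPoints_inter hW e).compl
  have hrange : Set.range c = toClosed hW ⁻¹' V := by
    rw [hB]
    ext x
    refine ⟨?_, fun h => ⟨_, h, specializes_toClosed hW x⟩⟩
    rintro ⟨z, hz, hxz⟩
    have h1 : (toClosed hW x : PrimeSpectrum A) = toClosed hW z :=
      toClosed_eq hW (toClosed hW z).2 (hxz.trans (specializes_toClosed hW z))
    show (toClosed hW x : PrimeSpectrum A) ∈ PrimeSpectrum.zeroLocus (R := A) E
    rw [h1]
    exact (specializes_toClosed hW z).mem_closed (PrimeSpectrum.isClosed_zeroLocus _) hz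
  have hemb := PrimeSpectrum.localization_comap_isEmbedding B S
  have hrc : IsClopen (Set.range c) := hrange ▸ hV.preimage (continuous_toClosed hW)
  have hcl : IsClosedEmbedding c := ⟨hemb, hrc.isClosed⟩
  have hop : IsOpenEmbedding c := ⟨hemb, hrc.isOpen⟩
  have hWB : ProEtW.IsWLocal (PrimeSpectrum B) :=
    isWLocal_of_homeo hemb.toHomeomorph (isWLocal_of_isClosed hW hrc.isClosed)
  have hcp : ∀ y, IsClosed ({y} : Set (PrimeSpectrum B)) ↔ IsClosed ({c y} : Set (PrimeSpectrum A)) :=
    fun y => by rw [hcl.isClosed_iff_image_isClosed, Set.image_singleton]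
  refine isWContractible_iff.2 ⟨hWB, extremallyDisconnected_piZero hWB ?_, fun m _ => ?_⟩
  · let g : ProEtW.closedPoints (PrimeSpectrum B) → ProEtW.closedPoints (PrimeSpectrum A) :=
      fun y => ⟨c y.1, (hcp y.1).1 y.2⟩
    refine extremallyDisconnected_of_isOpenEmbedding (f := g) ⟨?_, ?_⟩
    · exact IsEmbedding.of_comp ((hemb.continuous.comp continuous_subtype_val).subtype_mk _)
        continuous_subtype_val (hemb.comp IsEmbedding.subtypeVal)
    · have : Set.range g = Subtype.val ⁻¹' Set.range c := by
        ext z
        refine ⟨fun ⟨y, hy⟩ => ⟨y.1, congrArg Subtype.val hy⟩, fun ⟨y, hy⟩ => ?_⟩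
        exact ⟨⟨y, (hcp y).2 (by rw [hy]; exact z.2)⟩, Subtype.ext hy⟩
      rw [this]
      exact hrc.isOpen.preimage continuous_subtype_val
  · let q : PrimeSpectrum B := ⟨m, inferInstance⟩
    haveI : (m.comap (algebraMap A B)).IsMaximal :=
      (PrimeSpectrum.isClosed_singleton_iff_isMaximal (c q)).1
        ((hcp q).1 ((PrimeSpectrum.isClosed_singleton_iff_isMaximal q).2 ‹_›))
    exact isStrictlyHenselian_of_ringEquiv
      (RingEquiv.ofBijective _ ((idAt_iff_bijective q).2 (idAt_of_isLocalization S q)))
      (hs (m.comap (algebraMap A B)))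

theorem exists_trans_cover (A C D : Type u) [CommRing A] [CommRing C] [CommRing D] [Algebra A C]
    [Algebra C D] [Module.FaithfullyFlat A C] [Module.FaithfullyFlat C D] (h : EtPBC.IsIndEtale A C)
    (h' : EtPBC.IsIndEtale C D) (hD : EtPBC.IsWContractible D) :
    ∃ (D : Type u) (_ : CommRing D) (_ : Algebra A D),
      Module.FaithfullyFlat A D ∧ EtPBC.IsIndEtale A D ∧ EtPBC.IsWContractible D := by
  letI : Algebra A D := ((algebraMap C D).comp (algebraMap A C)).toAlgebra
  haveI : IsScalarTower A C D := IsScalarTower.of_algebraMap_eq' rfl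
  exact ⟨D, inferInstance, inferInstance, Module.FaithfullyFlat.trans A C D,
    ProEtLib2.isIndEtale_trans h h', hD⟩

/-- Every ring has a faithfully flat ind-étale w-contractible cover. -/
theorem exists_wContractible_cover (A : Type u) [CommRing A] :
    ∃ (D : Type u) (_ : CommRing D) (_ : Algebra A D),
      Module.FaithfullyFlat A D ∧ EtPBC.IsIndEtale A D ∧ EtPBC.IsWContractible D := by
  classical
  obtain ⟨C, _, _, hff, hind, hW, -, hs⟩ := exists_strict_wLocal A
  haveI := hW.1
  let P := _root_.ConnectedComponents (PrimeSpectrum C)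
  letI : TopologicalSpace (P × PUnit.{u + 1}) := ⊥
  haveI : DiscreteTopology (P × PUnit.{u + 1}) := ⟨rfl⟩
  let φ : P × PUnit.{u + 1} → P := Prod.fst
  have hφ : Continuous φ := continuous_of_discreteTopology
  let T := StoneCech (P × PUnit.{u + 1})
  haveI : ExtremallyDisconnected T :=
    CompactT2.Projective.extremallyDisconnected StoneCech.projective
  let g : C(T, P) := ⟨stoneCechExtend hφ, continuous_stoneCechExtend hφ⟩
  have hg : Function.Surjective g := fun c =>
    ⟨stoneCechUnit (c, PUnit.unit), congrFun (stoneCechExtend_extends hφ) _⟩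
  let D := PiRing g
  have hZ : EtPBC.IsIndZariski C D := isIndZariski_localization (piSubmonoid g) (PiRing g)
  haveI := hff
  haveI : Module.Flat C D := ProEtLib2.flat_of_isIndEtale (isIndEtale_of_isIndZariski hZ)
  haveI : Module.FaithfullyFlat C D := Module.FaithfullyFlat.of_comap_surjective fun x => by
    obtain ⟨t, ht⟩ := hg (_root_.ConnectedComponents.mk x)
    obtain ⟨q, hq⟩ := (range_coord_piRing g).ge
      (show (x, t) ∈ {p : PrimeSpectrum C × T | _root_.ConnectedComponents.mk p.1 = g p.2} from ht.symm)
    exact ⟨q, (coord_fst (A := C) (T := T) (PiRing g) q).symm.trans (congrArg Prod.fst hq)⟩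
  refine exists_trans_cover A C D hind (isIndEtale_of_isIndZariski hZ)
    (isWContractible_iff.2 ⟨isWLocal_piRing g hW, ?_, fun m _ => ?_⟩)
  · have hemb := isEmbedding_coord (piSubmonoid g) (PiRing g)
    have hr := range_coord_piRing g
    exact extremallyDisconnected_of_homeo
      (piZeroHomeoOfFibres (X := PrimeSpectrum (PiRing g)) (T := T)
        (f := fun y => (coord (A := C) (T := T) (PiRing g) y).2)
        (continuous_snd.comp hemb.continuous)
        (fun t => by
          obtain ⟨x, hx⟩ := _root_.ConnectedComponents.surjective_coe (g t)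
          obtain ⟨y, hy⟩ := hr.ge (show (x, t) ∈ {p : PrimeSpectrum C × T |
            _root_.ConnectedComponents.mk p.1 = g p.2} from hx)
          exact ⟨y, congrArg Prod.snd hy⟩)
        (preconnected_fibre g hemb hr)).symm
  · let q : PrimeSpectrum (PiRing g) := ⟨m, inferInstance⟩
    haveI : (m.comap (algebraMap C (PiRing g))).IsMaximal :=
      (PrimeSpectrum.isClosed_singleton_iff_isMaximal (PrimeSpectrum.comap (algebraMap C (PiRing g)) q)).1
        ((closedPoints_piRing g hW q).1 ((PrimeSpectrum.isClosed_singleton_iff_isMaximal q).2 ‹_›))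
    exact isStrictlyHenselian_of_ringEquiv
      (RingEquiv.ofBijective _ (identifiesLocalRings_of_isIndZariski hZ q))
      (hs (m.comap (algebraMap C (PiRing g))))

end Groth.Agent.WLocalLib
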