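import Groth.Agent.WLocalLib.PiRing
import Groth.Agent.WLocalLib.Olivier
import Groth.Agent.WLocalLib.StrictCover
import Groth.Agent.S0678
import Groth.Agent.S0675
import Mathlib

/-!
Characterisation of w-contractible rings.
-/

set_option autoImplicit false

universe u

namespace Groth.Agent.WLocalLib

/-- The three conditions on a ring equivalent to w-contractibility. -/
def WContractibleCrit (A : Type u) [CommRing A] : Prop :=
  ProEtW.IsWLocal (PrimeSpectrum A) ∧
    ExtremallyDisconnected (_root_.ConnectedComponents (PrimeSpectrum A)) ∧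
      ∀ (m : Ideal A) [m.IsMaximal], EtCoh.IsStrictlyHenselianLocalRing (Localization.AtPrime m)

theorem idAt_of_strictlyHenselian {A B : Type u} [CommRing A] [CommRing B] [Algebra A B]
    [Algebra.WeaklyEtale A B] (y : PrimeSpectrum B)
    (h : EtCoh.IsStrictlyHenselianLocalRing (Localization.AtPrime (y.asIdeal.comap (algebraMap A B)))) :
    IdAt (algebraMap A B) y.asIdeal := by
  rw [← idAt_iff_bijective]
  let p := y.asIdeal.comap (algebraMap A B)
  let Ap := Localization.AtPrime p
  let Bq := Localization.AtPrime y.asIdeal
  letI : Algebra Ap Bq := (Localization.localRingHom p y.asIdeal (algebraMap A B) rfl).toAlgebra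
  haveI : IsScalarTower A Ap Bq := IsScalarTower.of_algebraMap_eq fun a => by
    show _ = Localization.localRingHom p y.asIdeal (algebraMap A B) rfl (algebraMap A Ap a)
    rw [Localization.localRingHom_to_map, IsScalarTower.algebraMap_apply A B Bq]
  haveI : IsLocalHom (algebraMap Ap Bq) :=
    Localization.isLocalHom_localRingHom p y.asIdeal (algebraMap A B) rfl
  haveI : Algebra.WeaklyEtale B Bq := weaklyEtale_of_isLocalization y.asIdeal.primeCompl
  haveI : Algebra.WeaklyEtale A Bq := Algebra.WeaklyEtale.trans A B Bq
  haveI : Algebra.WeaklyEtale Ap Bq := weaklyEtale_of_isLocalization_base p.primeCompl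
  exact bijective_of_strictlyHenselian Ap Bq h

theorem isWContractible_of_crit {A : Type u} [CommRing A] (h : WContractibleCrit A) :
    EtPBC.IsWContractible A := by
  intro B _ _ hff hwe
  obtain ⟨hA, hE, hs⟩ := h
  refine exists_retraction hA hE B incomparable_of_weaklyEtale fun y hy => ?_
  haveI : (y.asIdeal.comap (algebraMap A B)).IsMaximal :=
    (PrimeSpectrum.isClosed_singleton_iff_isMaximal _).1 hy
  exact idAt_of_strictlyHenselian y (hs _)

theorem crit_of_indEtaleRetractions {A : Type u} [CommRing A] (h : ProEtW.HasIndEtaleRetractions A) :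
    WContractibleCrit A := by
  obtain ⟨h1, h2⟩ := (Groth.Agent.S0678.result A).1
    fun B _ _ hff hB => h B hff (isIndEtale_of_isIndZariski hB)
  refine ⟨h1, h2, fun m _ => Groth.Agent.S0675.result A (fun B _ _ hff hB => ?_) m⟩
  haveI := hB
  exact h B hff ProEtLib2.isIndEtale_of_etale

theorem indEtaleRetractions_of_isWContractible {A : Type u} [CommRing A]
    (h : EtPBC.IsWContractible A) : ProEtW.HasIndEtaleRetractions A :=
  fun B _ _ hff hB => h B hff (ProEtLib2.weaklyEtale_of_isIndEtale hB)

theorem isWContractible_iff {A : Type u} [CommRing A] :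
    EtPBC.IsWContractible A ↔ WContractibleCrit A :=
  ⟨fun h => crit_of_indEtaleRetractions (indEtaleRetractions_of_isWContractible h),
    isWContractible_of_crit⟩

end Groth.Agent.WLocalLib
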