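import Mathlib
import Groth.Agent.WLocalLib.StrictCover
import Groth.Agent.WLocalLib.Contractible
import Groth.Agent.WLocalLib.WeakEtaleScheme
import Groth.Agent.WEField.Basic

set_option autoImplicit false
set_option linter.style.haveILetI false
universe u

namespace Groth.Agent.WLocalLib

open CategoryTheory AlgebraicGeometry
open scoped TensorProduct

theorem algebraicResidueExtensions_of_weaklyEtale (A B : Type u) [CommRing A] [CommRing B] [Algebra A B]
    [Algebra.WeaklyEtale A B] : ProEtW.AlgebraicResidueExtensions A B := by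
  intro q _
  let p := q.comap (algebraMap A B)
  let K := p.ResidueField
  let L := q.ResidueField
  letI : Algebra K L := (Ideal.ResidueField.map p q (algebraMap A B) rfl).toAlgebra
  haveI : IsScalarTower A K L := IsScalarTower.of_algebraMap_eq fun a => by
    show _ = Ideal.ResidueField.map p q (algebraMap A B) rfl (algebraMap A K a)
    rw [Ideal.ResidueField.map_algebraMap, IsScalarTower.algebraMap_apply A B L]
  haveI := WEField.isIntegral_of_weaklyEtale (K := K) (K ⊗[A] B)
  let f : K ⊗[A] B →ₐ[K] L :=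
    Algebra.TensorProduct.lift (Algebra.ofId K L) (IsScalarTower.toAlgHom A B L) (fun _ _ => Commute.all _ _)
  letI : Algebra (A ⧸ p) L := ((algebraMap K L).comp (algebraMap (A ⧸ p) K)).toAlgebra
  haveI : IsScalarTower (A ⧸ p) K L := IsScalarTower.of_algebraMap_eq' rfl
  haveI : IsScalarTower (A ⧸ p) (B ⧸ q) L := IsScalarTower.of_algebraMap_eq' (Ideal.Quotient.ringHom_ext
    (RingHom.ext fun a => by
      show algebraMap K L (algebraMap (A ⧸ p) K (algebraMap A (A ⧸ p) a)) =
        algebraMap (B ⧸ q) L (algebraMap B (B ⧸ q) (algebraMap A B a))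
      rw [← IsScalarTower.algebraMap_apply A (A ⧸ p) K, ← IsScalarTower.algebraMap_apply A K L,
        ← IsScalarTower.algebraMap_apply B (B ⧸ q) L, ← IsScalarTower.algebraMap_apply A B L]))
  refine ⟨fun z => ?_⟩
  obtain ⟨b, rfl⟩ := Ideal.Quotient.mk_surjective z
  refine (isAlgebraic_algebraMap_iff (FaithfulSMul.algebraMap_injective (B ⧸ q) L)).1 ?_
  refine (IsFractionRing.isAlgebraic_iff (A ⧸ p) K L).2 (IsIntegral.isAlgebraic ?_)
  have : f (1 ⊗ₜ b) = algebraMap (B ⧸ q) L (Ideal.Quotient.mk q b) := by
    rw [Algebra.TensorProduct.lift_tmul, map_one, one_mul]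
    exact IsScalarTower.algebraMap_apply B (B ⧸ q) L b
  rw [← this]
  exact (Algebra.IsIntegral.isIntegral (R := K) (1 ⊗ₜ[A] b)).map f

theorem weaklyEtale_spec {A B : Type u} [CommRing A] [CommRing B] [Algebra A B]
    [hwe : Algebra.WeaklyEtale A B] : WeaklyEtale (Spec.map (CommRingCat.ofHom (algebraMap A B))) :=
  { flat := (HasRingHomProperty.Spec_iff (P := @Flat)).2 (RingHom.flat_algebraMap_iff.2 hwe.flat)
    flat_diagonal := by
      rw [diagonal_SpecMap, MorphismProperty.cancel_right_of_respectsIso @Flat,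
        HasRingHomProperty.Spec_iff (P := @Flat)]
      exact hwe.flat_lmul' }

/-- Maps between weakly étale algebras are weakly étale. -/
theorem weaklyEtale_cancel (A C D : Type u) [CommRing A] [CommRing C] [CommRing D] [Algebra A C] [Algebra A D]
    [Algebra C D] [IsScalarTower A C D] [Algebra.WeaklyEtale A C] [Algebra.WeaklyEtale A D] :
    Algebra.WeaklyEtale C D := by
  haveI := weaklyEtale_spec (A := A) (B := C)
  haveI : WeaklyEtale (Spec.map (CommRingCat.ofHom (algebraMap C D)) ≫
      Spec.map (CommRingCat.ofHom (algebraMap A C))) := by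
    rw [← Spec.map_comp, ← CommRingCat.ofHom_comp, ← IsScalarTower.algebraMap_eq]
    exact weaklyEtale_spec
  haveI := WeaklyEtale.of_comp (Spec.map (CommRingCat.ofHom (algebraMap C D)))
    (Spec.map (CommRingCat.ofHom (algebraMap A C)))
  exact weaklyEtale_of_specMap

theorem exists_indEtale_cover_of_weaklyEtale (A B : Type u) [CommRing A] [CommRing B] [Algebra A B]
    [Algebra.WeaklyEtale A B] :
    ∃ (B' : Type u) (_ : CommRing B') (_ : Algebra B B') (_ : Algebra A B') (_ : IsScalarTower A B B'),
      Module.FaithfullyFlat B B' ∧ EtPBC.IsIndEtale B B' ∧ EtPBC.IsIndEtale A B' := by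
  obtain ⟨C, D, _, _, _, _, _, _, _, _, hffC, hindC, hffD, hindD, hC, hD, hmap, hcp, -, -, hsh⟩ :=
    exists_strict_square A B (algebraicResidueExtensions_of_weaklyEtale A B)
  haveI := ProEtLib2.weaklyEtale_of_isIndEtale hindC
  haveI := ProEtLib2.weaklyEtale_of_isIndEtale hindD
  haveI : Algebra.WeaklyEtale A D := Algebra.WeaklyEtale.trans A B D
  haveI := weaklyEtale_cancel A C D
  have hid : EtPBC.IdentifiesLocalRings C D := identifiesLocalRings_iff.2 fun y => by
    obtain ⟨m, hm, hle⟩ := Ideal.exists_le_maximal y.asIdeal y.2.ne_top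
    let z : PrimeSpectrum D := ⟨m, hm.isPrime⟩
    haveI : (z.asIdeal.comap (algebraMap C D)).IsMaximal :=
      (PrimeSpectrum.isClosed_singleton_iff_isMaximal _).1
        (hmap.2 z ((PrimeSpectrum.isClosed_singleton_iff_isMaximal z).2 hm))
    exact (idAt_of_strictlyHenselian z (hsh _)).of_le y hle
  exact ⟨D, inferInstance, inferInstance, inferInstance, inferInstance, hffD, hindD,
    ProEtLib2.isIndEtale_trans hindC (isIndEtale_of_isIndZariski (isIndZariski_of_wLocalMap hid hC hD hmap))⟩

end Groth.Agent.WLocalLib
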