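import Groth.Agent.WLocalLib.IndCover
import Groth.Agent.WLocalLib.WContrConstr
import Groth.Agent.ProEtLib2.IndEtaleWeakly
import Groth.Agent.S0755

/-!
# Lifting w-contractible rings along surjections
-/

set_option autoImplicit false
set_option linter.style.haveILetI false

open scoped TensorProduct

universe u

namespace Groth.Agent.WLocalLib

variable {A : Type u} [CommRing A] (I : Ideal A) {B : Type u} [CommRing B] [Algebra A B] [Algebra (A ⧸ I) B]
  [IsScalarTower A (A ⧸ I) B]

theorem map_le_ker {D : Type u} [CommRing D] [Algebra A D] (φ : D →ₐ[A] B) :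
    I.map (algebraMap A D) ≤ RingHom.ker φ := by
  rw [Ideal.map_le_iff_le_comap]
  intro a ha
  show φ (algebraMap A D a) = 0
  rw [φ.commutes, IsScalarTower.algebraMap_apply A (A ⧸ I) B, show algebraMap A (A ⧸ I) a = 0 from
    Ideal.Quotient.eq_zero_iff_mem.2 ha, map_zero]

/-- A surjection of a weakly étale algebra onto a weakly étale algebra over the quotient is, modulo the
ideal, cut out by elements congruent to one. -/
theorem exists_kill_mod [Algebra.WeaklyEtale (A ⧸ I) B] {D : Type u} [CommRing D] [Algebra A D]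
    [Algebra.WeaklyEtale A D] (φ : D →ₐ[A] B) (hφ : Function.Surjective φ) (a : D) (ha : φ a = 0) :
    ∃ t, φ t = 1 ∧ t * a ∈ I.map (algebraMap A D) := by
  let R := (A ⧸ I) ⊗[A] D
  let χ : R →ₐ[A ⧸ I] B := Algebra.TensorProduct.lift (Algebra.ofId (A ⧸ I) B) φ fun _ _ => Commute.all _ _
  letI : Algebra R B := χ.toRingHom.toAlgebra
  haveI : IsScalarTower (A ⧸ I) R B := IsScalarTower.of_algebraMap_eq fun x => (χ.commutes x).symm
  haveI := weaklyEtale_cancel (A ⧸ I) R B
  have hχ : ∀ x : D, χ (1 ⊗ₜ x) = φ x := fun x => by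
    rw [Algebra.TensorProduct.lift_tmul, map_one, one_mul]
  have hsurj : Function.Surjective χ.toRingHom := fun b => by
    obtain ⟨x, rfl⟩ := hφ b
    exact ⟨1 ⊗ₜ x, hχ x⟩
  obtain ⟨z, hz, hza⟩ := exists_kill (φ := χ.toRingHom)
    (RingHom.flat_algebraMap_iff.2 (inferInstance : Module.Flat R B)) hsurj (1 ⊗ₜ a) ((hχ a).trans ha)
  have hs : Function.Surjective (fun x : D => ((1 : A ⧸ I) ⊗ₜ[A] x)) := fun w => by
    induction w using TensorProduct.induction_on with
    | zero => exact ⟨0, TensorProduct.tmul_zero _ _⟩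
    | tmul q x =>
      obtain ⟨r, rfl⟩ := Ideal.Quotient.mk_surjective q
      refine ⟨r • x, ?_⟩
      show (1 : A ⧸ I) ⊗ₜ[A] (r • x) = _
      rw [← TensorProduct.smul_tmul, Algebra.smul_def, mul_one]
      rfl
    | add u v hu hv =>
      obtain ⟨x, hx⟩ := hu
      obtain ⟨y, hy⟩ := hv
      exact ⟨x + y, (TensorProduct.tmul_add _ _ _).trans (congrArg₂ (· + ·) hx hy)⟩
  obtain ⟨t, ht⟩ := hs z
  have ht' : (1 : A ⧸ I) ⊗ₜ[A] t = z := ht
  refine ⟨t, by rw [← hχ, ht']; exact hz, ?_⟩
  let J := I.map (algebraMap A D)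
  let q : A ⧸ I →ₐ[A] D ⧸ J := Ideal.Quotient.liftₐ I (Algebra.ofId A (D ⧸ J)) fun x hx => by
    show algebraMap A (D ⧸ J) x = 0
    rw [IsScalarTower.algebraMap_apply A D (D ⧸ J)]
    exact Ideal.Quotient.eq_zero_iff_mem.2 (Ideal.mem_map_of_mem _ hx)
  let θ : R →ₐ[A] D ⧸ J := Algebra.TensorProduct.lift q (Ideal.Quotient.mkₐ A J) fun _ _ => Commute.all _ _
  refine Ideal.Quotient.eq_zero_iff_mem.1 ?_
  have h0 : θ (z * (1 ⊗ₜ a)) = 0 := by rw [hza, map_zero]
  rw [← ht', Algebra.TensorProduct.tmul_mul_tmul, one_mul, Algebra.TensorProduct.lift_tmul, map_one, one_mul] at h0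
  exact h0

/-- The localisation of a weakly étale algebra at the elements mapping to one. -/
theorem exists_localization_one [Algebra.WeaklyEtale (A ⧸ I) B] {D : Type u} [CommRing D] [Algebra A D]
    [Algebra.WeaklyEtale A D] (φ : D →ₐ[A] B) (hφ : Function.Surjective φ) :
    ∃ (C : Type u) (_ : CommRing C) (_ : Algebra A C) (_ : Algebra D C) (_ : IsScalarTower A D C) (ψ : C →ₐ[A] B),
      Algebra.WeaklyEtale A C ∧ Algebra.WeaklyEtale D C ∧ (∃ S : Submonoid D, IsLocalization S C) ∧
      (∀ d, ψ (algebraMap D C d) = φ d) ∧ Function.Surjective ψ ∧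
      RingHom.ker ψ = I.map (algebraMap A C) ∧ ∀ x, ψ x = 1 → IsUnit x := by
  let S : Submonoid D :=
    { carrier := {x | φ x = 1}
      one_mem' := map_one φ
      mul_mem' := fun {x y} (hx : φ x = 1) (hy : φ y = 1) => show φ (x * y) = 1 by rw [map_mul, hx, hy, one_mul] }
  let C := Localization S
  have hu : ∀ s : S, IsUnit (φ s.1) := fun s => by rw [show φ s.1 = 1 from s.2]; exact isUnit_one
  let ψ : C →ₐ[A] B := IsLocalization.liftAlgHom (M := S) hu
  have hψ : ∀ d, ψ (algebraMap D C d) = φ d := fun d => by simp [ψ, C]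
  haveI : Algebra.WeaklyEtale D C := weaklyEtale_of_isLocalization S
  refine ⟨C, inferInstance, inferInstance, inferInstance, inferInstance, ψ, Algebra.WeaklyEtale.trans A D C,
    inferInstance, ⟨S, inferInstance⟩, hψ, fun b => ?_, le_antisymm (fun x hx => ?_) (map_le_ker I ψ), fun x hx => ?_⟩
  · obtain ⟨d, rfl⟩ := hφ b
    exact ⟨algebraMap D C d, hψ d⟩
  all_goals
    obtain ⟨⟨a, s⟩, hxs⟩ := IsLocalization.surj S x
    have hxs' : x * algebraMap D C s.1 = algebraMap D C a := hxs
    have he := congrArg ψ hxs'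
    rw [map_mul, hψ, hψ, show φ s.1 = 1 from s.2, mul_one] at he
  · obtain ⟨t, ht, hta⟩ := exists_kill_mod I φ hφ a (he.symm.trans hx)
    have hmem : algebraMap D C (t * a) ∈ I.map (algebraMap A C) := by
      rw [IsScalarTower.algebraMap_eq A D C, ← Ideal.map_map]
      exact Ideal.mem_map_of_mem _ hta
    rw [map_mul, ← hxs'] at hmem
    refine (Ideal.mul_unit_mem_iff_mem _ (IsLocalization.map_units C s)).1
      ((Ideal.unit_mul_mem_iff_mem _ (IsLocalization.map_units C (⟨t, ht⟩ : S))).1 hmem)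
  · have hau : IsUnit (algebraMap D C a) := IsLocalization.map_units C (⟨a, he.symm.trans hx⟩ : S)
    rw [← hxs'] at hau
    exact isUnit_of_mul_isUnit_left hau

theorem ker_le_maximal {C : Type u} [CommRing C] [Algebra A C] (ψ : C →ₐ[A] B)
    (hu : ∀ x, ψ x = 1 → IsUnit x) (M : Ideal C) [hM : M.IsMaximal] : RingHom.ker ψ ≤ M := by
  intro k hk
  by_contra hkM
  obtain ⟨y, hy⟩ := hM.exists_inv hkM
  obtain ⟨m, hm, hym⟩ := hy
  have h1 : ψ m = 1 := by
    have := congrArg ψ hym
    rwa [map_add, map_mul, show ψ k = 0 from hk, mul_zero, zero_add, map_one] at this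
  exact hM.ne_top (Ideal.eq_top_of_isUnit_mem _ hm (hu m h1))

/-- A w-contractible weakly étale algebra over a quotient lifts uniquely to a weakly étale algebra with the
universal lifting property. -/
theorem exists_lift_wContractible [Algebra.WeaklyEtale (A ⧸ I) B] (hB : EtPBC.IsWContractible B) :
    ∃ (C : Type u) (_ : CommRing C) (_ : Algebra A C) (ψ : C →ₐ[A] B), Algebra.WeaklyEtale A C ∧
      Function.Surjective ψ ∧ RingHom.ker ψ = I.map (algebraMap A C) ∧
      ∀ (E : Type u) [CommRing E] [Algebra A E] [Algebra.WeaklyEtale A E],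
        Function.Bijective (fun g : E →ₐ[A] C => ψ.comp g) := by
  obtain ⟨B', _, _, _, _, hff, hBB', hAB'⟩ := exists_indEtale_cover_of_weaklyEtale (A ⧸ I) B
  obtain ⟨r⟩ := hB B' hff (ProEtLib2.weaklyEtale_of_isIndEtale hBB')
  obtain ⟨C₀, _, _, hC₀, ⟨e⟩⟩ := S0755.result A I B' hAB'
  haveI := ProEtLib2.weaklyEtale_of_isIndEtale hC₀
  let φ₀ : C₀ →ₐ[A] B := ((r.restrictScalars (A ⧸ I)).comp e.toAlgHom).restrictScalars A |>.comp
    (Ideal.Quotient.mkₐ A _)
  have hφ₀ : Function.Surjective φ₀ := fun b => by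
    obtain ⟨c, hc⟩ := Ideal.Quotient.mk_surjective (e.symm (algebraMap B B' b))
    refine ⟨c, ?_⟩
    show r (e (Ideal.Quotient.mk _ c)) = b
    rw [hc, AlgEquiv.apply_symm_apply, AlgHom.commutes]
    rfl
  obtain ⟨D, _, _, hffD, hindD, hD⟩ := exists_wContractible_cover C₀
  haveI := hffD
  haveI := ProEtLib2.weaklyEtale_of_isIndEtale hindD
  letI : Algebra C₀ B := φ₀.toRingHom.toAlgebra
  haveI : IsScalarTower A C₀ B := IsScalarTower.of_algebraMap_eq fun x => (φ₀.commutes x).symm
  obtain ⟨s⟩ := hB (B ⊗[C₀] D) inferInstance inferInstance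
  letI : Algebra A D := ((algebraMap C₀ D).comp (algebraMap A C₀)).toAlgebra
  haveI : IsScalarTower A C₀ D := IsScalarTower.of_algebraMap_eq' rfl
  haveI : Algebra.WeaklyEtale A D := Algebra.WeaklyEtale.trans A C₀ D
  let φ : D →ₐ[A] B :=
    ((s.restrictScalars C₀).comp (Algebra.TensorProduct.includeRight : D →ₐ[C₀] B ⊗[C₀] D)).restrictScalars A
  have hφ : Function.Surjective φ := fun b => by
    obtain ⟨c, rfl⟩ := hφ₀ b
    exact ⟨algebraMap C₀ D c, ((s.restrictScalars C₀).comp
      (Algebra.TensorProduct.includeRight : D →ₐ[C₀] B ⊗[C₀] D)).commutes c⟩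
  obtain ⟨C, _, _, _, _, ψ, hC, -, ⟨S, hS⟩, hψ, hψs, hker, hunit⟩ := exists_localization_one I φ hφ
  haveI := hC
  haveI := hS
  obtain ⟨hW, -, hsh⟩ := isWContractible_iff.1 hD
  -- maximal ideals of `C` come from maximal ideals of `D`
  have hcm : ∀ M : Ideal C, M.IsMaximal → (M.comap (algebraMap D C)).IsMaximal := fun M hM => by
    haveI := hM
    obtain ⟨q, hq, hle⟩ := Ideal.exists_le_maximal (M.comap (algebraMap D C))
      (Ideal.comap_ne_top _ hM.ne_top)
    haveI := hq
    suffices h : q = M.comap (algebraMap D C) from h ▸ hq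
    have hdis : Disjoint (S : Set D) (q : Set D) := Set.disjoint_left.2 fun x hxS hxq => by
      have hk : RingHom.ker φ ≤ q := fun z hz => hle (by
        show algebraMap D C z ∈ M
        exact ker_le_maximal ψ hunit M (show ψ (algebraMap D C z) = 0 by rw [hψ]; exact hz))
      obtain ⟨y, hy⟩ := hφ ↑((IsLocalization.map_units C ⟨x, hxS⟩).map ψ).unit⁻¹
      have h1 : φ (x * y) = 1 := by
        rw [map_mul, hy, ← hψ x]
        exact IsUnit.mul_val_inv _
      refine hq.ne_top ((Ideal.eq_top_iff_one q).2 ?_)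
      have h2 : x * y - 1 ∈ q := hk (show φ (x * y - 1) = 0 by rw [map_sub, h1, map_one, sub_self])
      have h3 := q.sub_mem (Ideal.mul_mem_right y q hxq) h2
      rwa [sub_sub_cancel] at h3
    haveI : (q.map (algebraMap D C)).IsPrime := IsLocalization.isPrime_of_isPrime_disjoint S C q inferInstance hdis
    have hMq : M ≤ q.map (algebraMap D C) := by
      rw [← IsLocalization.map_comap S C M]
      exact Ideal.map_mono hle
    rw [hM.eq_of_le ‹(q.map (algebraMap D C)).IsPrime›.ne_top hMq]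
    exact (IsLocalization.comap_map_of_isPrime_disjoint S C inferInstance hdis).symm
  have huniq : ∀ (p : Ideal C), p.IsPrime → ∀ M M' : Ideal C, M.IsMaximal → M'.IsMaximal → p ≤ M → p ≤ M' → M = M' := by
    intro p hp M M' hM hM' h h'
    haveI := hp
    obtain ⟨z, -, hz⟩ := hW.2.2 (⟨p.comap (algebraMap D C), inferInstance⟩ : PrimeSpectrum D)
    have hz' : ∀ N : Ideal C, ∀ (hN : N.IsMaximal), p ≤ N →
        (⟨N.comap (algebraMap D C), (hcm N hN).isPrime⟩ : PrimeSpectrum D) = z := fun N hN hpN =>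
      hz _ ⟨(PrimeSpectrum.isClosed_singleton_iff_isMaximal _).2 (hcm N hN),
        (PrimeSpectrum.le_iff_specializes _ _).1 (Ideal.comap_mono hpN)⟩
    have he : M.comap (algebraMap D C) = M'.comap (algebraMap D C) :=
      congrArg PrimeSpectrum.asIdeal ((hz' M hM h).trans (hz' M' hM' h').symm)
    exact (IsLocalization.map_comap S C M).symm.trans
      ((congrArg (Ideal.map (algebraMap D C)) he).trans (IsLocalization.map_comap S C M'))
  have hshC : ∀ (M : Ideal C) [M.IsMaximal], EtCoh.IsStrictlyHenselianLocalRing (Localization.AtPrime M) := by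
    intro M hM
    haveI := hcm M hM
    exact isStrictlyHenselian_of_ringEquiv
      (RingEquiv.ofBijective _ ((idAt_iff_bijective ⟨M, hM.isPrime⟩).2 (idAt_of_isLocalization S ⟨M, hM.isPrime⟩)))
      (hsh (M.comap (algebraMap D C)))
  refine ⟨C, inferInstance, inferInstance, ψ, hC, hψs, hker, fun E _ _ _ => ⟨fun g g' h => ?_, fun g => ?_⟩⟩
  · -- uniqueness
    let H : E ⊗[A] E →ₐ[A] C := Algebra.TensorProduct.lift g g' fun _ _ => Commute.all _ _
    let μ := (Algebra.TensorProduct.lmul' A (S := E)).toRingHom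
    have hH : ψ.comp H = (ψ.comp g).comp (Algebra.TensorProduct.lmul' A (S := E)) := by
      refine Algebra.TensorProduct.ext' fun x y => ?_
      show ψ (H (x ⊗ₜ y)) = ψ (g (Algebra.TensorProduct.lmul' A (x ⊗ₜ y)))
      rw [Algebra.TensorProduct.lift_tmul, Algebra.TensorProduct.lmul'_apply_tmul, map_mul, map_mul, map_mul]
      exact congrArg (ψ (g x) * ·) (AlgHom.congr_fun h y).symm
    refine AlgHom.ext fun x => ?_
    obtain ⟨z, hz, hzx⟩ := exists_kill (φ := μ) (Algebra.WeaklyEtale.flat_lmul' A E)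
      (fun e => ⟨e ⊗ₜ 1, by simp [μ]⟩) (x ⊗ₜ 1 - 1 ⊗ₜ x) (by simp [μ])
    have h1 : ψ (H z) = 1 := by
      rw [show ψ (H z) = ψ (g (Algebra.TensorProduct.lmul' A z)) from AlgHom.congr_fun hH z,
        show Algebra.TensorProduct.lmul' A z = 1 from hz, map_one, map_one]
    have h0 := congrArg H hzx
    rw [map_mul, map_zero, (hunit _ h1).mul_right_eq_zero, map_sub, Algebra.TensorProduct.lift_tmul,
      Algebra.TensorProduct.lift_tmul, map_one, map_one, mul_one, one_mul, sub_eq_zero] at h0
    exact h0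
  · -- existence
    let P := C ⊗[A] E
    let χ : P →ₐ[A] B := Algebra.TensorProduct.lift ψ g fun _ _ => Commute.all _ _
    haveI : Algebra.WeaklyEtale A P := Algebra.WeaklyEtale.trans A C P
    have hχl : ∀ c : C, χ (c ⊗ₜ 1) = ψ c := fun c => by
      rw [Algebra.TensorProduct.lift_tmul, map_one, mul_one]
    obtain ⟨E₂, _, _, _, _, χ₂, -, hPE₂, -, hχ₂, hχ₂s, -, hunit₂⟩ :=
      exists_localization_one I χ fun b => by
        obtain ⟨c, rfl⟩ := hψs b
        exact ⟨c ⊗ₜ 1, hχl c⟩
    haveI := hPE₂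
    letI : Algebra C E₂ := ((algebraMap P E₂).comp (algebraMap C P)).toAlgebra
    haveI : IsScalarTower C P E₂ := IsScalarTower.of_algebraMap_eq' rfl
    haveI : Algebra.WeaklyEtale C E₂ := Algebra.WeaklyEtale.trans C P E₂
    have hκ : ∀ c, χ₂ (algebraMap C E₂ c) = ψ c := fun c => (hχ₂ _).trans (hχl c)
    -- maximal ideals correspond
    have hMn : ∀ N : Ideal E₂, N.IsMaximal → ∃ n : Ideal B, n.IsMaximal ∧ N = n.comap χ₂.toRingHom ∧
        N.comap (algebraMap C E₂) = n.comap ψ.toRingHom := fun N hN => by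
      haveI := hN
      have hk := ker_le_maximal χ₂ hunit₂ N
      have hN' : (N.map χ₂.toRingHom).comap χ₂.toRingHom = N := by
        exact (Ideal.comap_map_of_surjective χ₂.toRingHom hχ₂s N).trans (sup_eq_left.2 hk)
      refine ⟨N.map χ₂.toRingHom,
        Ideal.IsMaximal.map_of_surjective_of_ker_le (f := χ₂.toRingHom) hχ₂s hk, hN'.symm, ?_⟩
      ext c
      refine (SetLike.ext_iff.1 hN' _).symm.trans ?_
      show χ₂ (algebraMap C E₂ c) ∈ N.map χ₂.toRingHom ↔ ψ c ∈ N.map χ₂.toRingHom
      rw [hκ]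
    have hcmax : ∀ N : Ideal E₂, N.IsMaximal → (N.comap (algebraMap C E₂)).IsMaximal := fun N hN => by
      obtain ⟨n, hn, -, he⟩ := hMn N hN
      rw [he]
      haveI := hn
      exact Ideal.comap_isMaximal_of_surjective _ hψs
    have hinj : ∀ N N' : Ideal E₂, N.IsMaximal → N'.IsMaximal →
        N.comap (algebraMap C E₂) = N'.comap (algebraMap C E₂) → N = N' := fun N N' hN hN' h => by
      obtain ⟨n, -, rfl, he⟩ := hMn N hN
      obtain ⟨n', -, rfl, he'⟩ := hMn N' hN'
      rw [he, he'] at h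
      rw [Ideal.comap_injective_of_surjective _ hψs h]
    have hex : ∀ m : Ideal C, m.IsMaximal → ∃ N : Ideal E₂, N.IsMaximal ∧ N.comap (algebraMap C E₂) = m :=
      fun m hm => by
      haveI := hm
      have hm' : (m.map ψ.toRingHom).comap ψ.toRingHom = m := by
        exact (Ideal.comap_map_of_surjective ψ.toRingHom hψs m).trans (sup_eq_left.2 (ker_le_maximal ψ hunit m))
      haveI : (m.map ψ.toRingHom).IsMaximal :=
        Ideal.IsMaximal.map_of_surjective_of_ker_le (f := ψ.toRingHom) hψs (ker_le_maximal ψ hunit m)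
      refine ⟨(m.map ψ.toRingHom).comap χ₂.toRingHom, Ideal.comap_isMaximal_of_surjective _ hχ₂s, ?_⟩
      conv_rhs => rw [← hm']
      ext c
      rw [Ideal.mem_comap, Ideal.mem_comap, Ideal.mem_comap]
      exact Eq.to_iff (congrArg (· ∈ m.map ψ.toRingHom) (hκ c))
    have hid : ∀ (N : Ideal E₂) (_ : N.IsMaximal), IdAt (algebraMap C E₂) N := fun N hN => by
      haveI := hcmax N hN
      exact idAt_of_strictlyHenselian ⟨N, hN.isPrime⟩ (hshC _)
    have hbij : Function.Bijective (algebraMap C E₂) := by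
      refine ⟨(injective_iff_map_eq_zero _).2 fun c hc => ?_, fun e => ?_⟩
      · by_contra hne
        obtain ⟨m, hm, hle⟩ := Ideal.exists_le_maximal (Submodule.colon (⊥ : Ideal C) {c}) (fun htop => hne (by
          have := Submodule.mem_colon_singleton.1 (show (1 : C) ∈ Submodule.colon (⊥ : Ideal C) {c} from htop ▸ trivial)
          simpa using this))
        obtain ⟨N, hN, rfl⟩ := hex m hm
        obtain ⟨v, hv, hv0⟩ := (hid N hN).1 c 1 ((Ideal.ne_top_iff_one _).1 hN.ne_top) (by rw [hc, mul_zero])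
        exact hv (hle (Submodule.mem_colon_singleton.2 (by simpa using hv0)))
      · let J : Ideal C := Submodule.colon (LinearMap.range (Algebra.linearMap C E₂)) {e}
        suffices hJ : J = ⊤ by
          obtain ⟨c, hc⟩ := Submodule.mem_colon_singleton.1 (show (1 : C) ∈ J from hJ ▸ trivial)
          exact ⟨c, hc.trans (one_smul C e)⟩
        by_contra hJ
        obtain ⟨m, hm, hle⟩ := Ideal.exists_le_maximal J hJ
        obtain ⟨N, hN, hNm⟩ := hex m hm
        obtain ⟨a, s, hs, w, hw, hw0⟩ := (hid N hN).2 e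
        let x := algebraMap C E₂ s * e - algebraMap C E₂ a
        let K : Ideal E₂ := Submodule.colon (⊥ : Ideal E₂) {x}
        obtain ⟨v, hv, hvx⟩ : ∃ v, v ∉ m ∧ algebraMap C E₂ v * x = 0 := by
          by_contra hcon
          push Not at hcon
          obtain ⟨q, hq, hKq, hqd⟩ := Ideal.exists_le_prime_disjoint K
            ((m.primeCompl).map (algebraMap C E₂)) (Set.disjoint_left.2 fun y hy hy' => by
              obtain ⟨v, hv, rfl⟩ := hy'
              exact hcon v hv (by simpa using Submodule.mem_colon_singleton.1 hy))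
          obtain ⟨N', hN', hqN'⟩ := Ideal.exists_le_maximal q hq.ne_top
          have h1 : q.comap (algebraMap C E₂) ≤ m := fun c hc => by
            by_contra h
            exact Set.disjoint_left.1 hqd hc ⟨c, h, rfl⟩
          haveI := hq
          have h2 := huniq _ inferInstance m _ hm (hcmax N' hN') h1 (Ideal.comap_mono hqN')
          have h3 := hinj N N' hN hN' (hNm.trans h2)
          exact hw (h3 ▸ hqN' (hKq (Submodule.mem_colon_singleton.2 (by simpa using hw0))))
        refine hm.ne_top ((Ideal.eq_top_iff_one m).2 ?_)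
        have hvs : v * s ∈ J := Submodule.mem_colon_singleton.2 ⟨v * a, by
          rw [Algebra.linearMap_apply, Algebra.smul_def, map_mul, map_mul]
          linear_combination -hvx⟩
        exact ((hm.isPrime.mem_or_mem (hle hvs)).elim (fun h => absurd h hv)
          fun h => absurd (show algebraMap C E₂ s ∈ N from hNm.ge h) hs)
    let ε := RingEquiv.ofBijective (algebraMap C E₂) hbij
    let θ : E →+* E₂ := (algebraMap P E₂).comp (Algebra.TensorProduct.includeRight : E →ₐ[A] P).toRingHom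
    have hθ : ∀ x : A, θ (algebraMap A E x) = algebraMap C E₂ (algebraMap A C x) := fun x => by
      show algebraMap P E₂ ((Algebra.TensorProduct.includeRight : E →ₐ[A] P) (algebraMap A E x)) =
        algebraMap P E₂ (algebraMap C P (algebraMap A C x))
      rw [AlgHom.commutes, ← IsScalarTower.algebraMap_apply A C P]
    let g' : E →ₐ[A] C :=
      { ε.symm.toRingHom.comp θ with
        commutes' := fun x => by
          show ε.symm (θ (algebraMap A E x)) = algebraMap A C x
          rw [hθ]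
          exact ε.symm_apply_apply _ }
    refine ⟨g', AlgHom.ext fun x => ?_⟩
    show ψ (ε.symm (θ x)) = g x
    rw [← hκ, show algebraMap C E₂ (ε.symm (θ x)) = θ x from ε.apply_symm_apply _]
    show χ₂ (algebraMap P E₂ ((1 : C) ⊗ₜ x)) = _
    rw [hχ₂, Algebra.TensorProduct.lift_tmul, map_one, one_mul]

end Groth.Agent.WLocalLib
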