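import Groth.Agent.ProEtLib2.IndEtaleWeakly
import Mathlib

/-!
Localizations of the ring of locally constant functions on a profinite space with values in `A`:
their spectrum sits inside `Spec A × T` and they are ind-Zariski over `A`.
-/

set_option autoImplicit false

open CategoryTheory CategoryTheory.Limits Topology

universe u

namespace Groth.Agent.WLocalLib

variable (A : Type u) [CommRing A] (T : Type u) [TopologicalSpace T]

/-- Locally constant functions with values in `A`. -/
abbrev LC : Type u := LocallyConstant T A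

variable {A T}

/-- Evaluation at a point. -/
abbrev ev (t : T) : LC A T →+* A := LocallyConstant.evalRingHom t

theorem ev_algebraMap (t : T) (a : A) : ev t (algebraMap A (LC A T) a) = a := rfl

/-- The prime of `LC A T` given by a prime of `A` and a point of `T`. -/
abbrev point (x : PrimeSpectrum A) (t : T) : PrimeSpectrum (LC A T) := PrimeSpectrum.comap (ev t) x

theorem charFn_mul (s : LC A T) (t : T) (hC : IsClopen (s ⁻¹' {s t})) :
    s * LocallyConstant.charFn A hC = algebraMap A (LC A T) (s t) * LocallyConstant.charFn A hC := by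
  ext y
  by_cases hy : y ∈ s ⁻¹' {s t}
  · show s y * LocallyConstant.charFn A hC y = s t * LocallyConstant.charFn A hC y
    rw [show s y = s t from hy]
  · show s y * LocallyConstant.charFn A hC y = s t * LocallyConstant.charFn A hC y
    simp [LocallyConstant.coe_charFn, Set.indicator_of_notMem hy]

theorem exists_eq_point [CompactSpace T] (q : PrimeSpectrum (LC A T)) :
    ∃ t : T, q = point (PrimeSpectrum.comap (algebraMap A (LC A T)) q) t := by
  classical
  let F : Set (Set T) := {C | ∃ hC : IsClopen C, LocallyConstant.charFn A hC ∉ q.asIdeal}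
  have h0 : ∀ (C D : Set T) (hC : IsClopen C) (hD : IsClopen D), LocallyConstant.charFn A hC *
      LocallyConstant.charFn A hD = LocallyConstant.charFn A (hC.inter hD) := by
    intro C D hC hD; ext y
    by_cases hy : y ∈ C <;> by_cases hy' : y ∈ D <;>
      simp [LocallyConstant.coe_charFn, Set.indicator, hy, hy']
  have hF : ∀ C ∈ F, ∀ D ∈ F, C ∩ D ∈ F := by
    rintro C ⟨hC, hC'⟩ D ⟨hD, hD'⟩
    exact ⟨hC.inter hD, fun h => (q.2.mem_or_mem (h0 C D hC hD ▸ h)).elim hC' hD'⟩
  have hne : ∀ C ∈ F, C.Nonempty := by
    rintro C ⟨hC, hC'⟩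
    by_contra h
    apply hC'
    have : LocallyConstant.charFn A hC = 0 := by
      ext y; simp [LocallyConstant.coe_charFn, Set.not_nonempty_iff_eq_empty.1 h]
    rw [this]; exact zero_mem _
  haveI : Nonempty F := ⟨⟨Set.univ, isClopen_univ, by
    rw [show LocallyConstant.charFn A (isClopen_univ (X := T)) = 1 by
      ext y; simp [LocallyConstant.coe_charFn]]
    exact fun h => q.2.ne_top ((Ideal.eq_top_iff_one _).2 h)⟩⟩
  obtain ⟨t, ht⟩ : (⋂ C : F, (C : Set T)).Nonempty :=
    IsCompact.nonempty_iInter_of_directed_nonempty_isCompact_isClosed _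
      (fun C D => ⟨⟨_, hF _ C.2 _ D.2⟩, Set.inter_subset_left, Set.inter_subset_right⟩)
      (fun C => hne _ C.2) (fun C => C.2.1.isClosed.isCompact) fun C => C.2.1.isClosed
  refine ⟨t, PrimeSpectrum.ext (Ideal.ext fun s => ?_)⟩
  show s ∈ q.asIdeal ↔ algebraMap A (LC A T) (s t) ∈ q.asIdeal
  have hC : IsClopen (s ⁻¹' {s t}) := s.isLocallyConstant.isClopen_fiber (s t)
  have hnot : LocallyConstant.charFn A hC ∉ q.asIdeal := by
    intro h
    have hsum : LocallyConstant.charFn A hC + LocallyConstant.charFn A hC.compl = 1 := by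
      ext y; by_cases hy : y ∈ s ⁻¹' {s t} <;>
        simp [LocallyConstant.coe_charFn, Set.indicator, hy]
    have hc : LocallyConstant.charFn A hC.compl ∉ q.asIdeal := fun h' =>
      q.2.ne_top ((Ideal.eq_top_iff_one _).2 (hsum ▸ add_mem h h'))
    exact Set.mem_iInter.1 ht ⟨_, hC.compl, hc⟩ rfl
  constructor
  · intro h
    have := q.asIdeal.mul_mem_right (LocallyConstant.charFn A hC) h
    rw [charFn_mul s t hC] at this
    exact (q.2.mem_or_mem this).resolve_right hnot
  · intro h
    have := q.asIdeal.mul_mem_right (LocallyConstant.charFn A hC) h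
    rw [← charFn_mul s t hC] at this
    exact (q.2.mem_or_mem this).resolve_right hnot

section Point

variable [CompactSpace T] [T2Space T] [TotallyDisconnectedSpace T]

theorem point_injective {x x' : PrimeSpectrum A} {t t' : T} (h : point x t = point x' t') :
    x = x' ∧ t = t' := by
  classical
  refine ⟨?_, ?_⟩
  · have := congrArg (PrimeSpectrum.comap (algebraMap A (LC A T))) h
    exact this
  · by_contra hne
    obtain ⟨C, hC, htC, hC'⟩ := compact_exists_isClopen_in_isOpen
      (isOpen_compl_singleton (x := t')) (show t ∈ ({t'} : Set T)ᶜ from hne)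
    have h' : LocallyConstant.charFn A hC t ∈ x.asIdeal ↔ LocallyConstant.charFn A hC t' ∈ x'.asIdeal := by
      show LocallyConstant.charFn A hC ∈ (point x t).asIdeal ↔
        LocallyConstant.charFn A hC ∈ (point x' t').asIdeal
      rw [h]
    have h1 : LocallyConstant.charFn A hC t = 1 := by simp [LocallyConstant.coe_charFn, htC]
    have h2 : LocallyConstant.charFn A hC t' = 0 := by
      simp [LocallyConstant.coe_charFn, Set.indicator_of_notMem (fun h => hC' h rfl)]
    rw [h1, h2] at h'
    exact x.2.ne_top ((Ideal.eq_top_iff_one _).2 (h'.2 (zero_mem _)))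

/-- `Spec (LC A T)` is `Spec A × T`. -/
noncomputable def specEquiv : PrimeSpectrum (LC A T) ≃ PrimeSpectrum A × T where
  toFun q := (PrimeSpectrum.comap (algebraMap A (LC A T)) q, (exists_eq_point q).choose)
  invFun p := point p.1 p.2
  left_inv q := (exists_eq_point q).choose_spec.symm
  right_inv p := by
    have h := point_injective (exists_eq_point (point p.1 p.2)).choose_spec
    exact Prod.ext h.1.symm h.2.symm

theorem specEquiv_symm_apply (p : PrimeSpectrum A × T) :
    (specEquiv (A := A) (T := T)).symm p = point p.1 p.2 := rfl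

theorem isHomeomorph_specEquiv : IsHomeomorph (specEquiv (A := A) (T := T)) := by
  classical
  have hcont : Continuous (specEquiv (A := A) (T := T)) := by
    refine (PrimeSpectrum.continuous_comap _).prodMk
      (isTopologicalBasis_isClopen.continuous_iff.2 fun C hC => ?_)
    convert (PrimeSpectrum.basicOpen (LocallyConstant.charFn A (show IsClopen C from hC))).isOpen
    ext q
    show (exists_eq_point q).choose ∈ C ↔ LocallyConstant.charFn A _ ∉ q.asIdeal
    have hq := (exists_eq_point q).choose_spec
    rw [show q.asIdeal = (point (PrimeSpectrum.comap (algebraMap A (LC A T)) q)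
      (exists_eq_point q).choose).asIdeal from congrArg _ hq]
    show _ ↔ LocallyConstant.charFn A (show IsClopen C from hC) (exists_eq_point q).choose ∉ (PrimeSpectrum.comap (algebraMap A (LC A T)) q).asIdeal
    by_cases hy : (exists_eq_point q).choose ∈ C
    · simp only [hy, true_iff, LocallyConstant.coe_charFn, Set.indicator_of_mem hy, Pi.one_apply]
      exact fun h => (PrimeSpectrum.comap (algebraMap A (LC A T)) q).2.ne_top
        ((Ideal.eq_top_iff_one _).2 h)
    · simp [hy, LocallyConstant.coe_charFn, Set.indicator_of_notMem hy]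
  refine ⟨hcont, ?_, specEquiv.bijective⟩
  refine PrimeSpectrum.isBasis_basic_opens.isOpenMap_iff.2 ?_
  rintro _ ⟨_, ⟨s, rfl⟩, rfl⟩
  refine isOpen_iff_forall_mem_open.2 fun p hp => ?_
  refine ⟨(PrimeSpectrum.basicOpen (s p.2) : Set (PrimeSpectrum A)) ×ˢ (s ⁻¹' {s p.2}),
    fun p' hp' => ⟨point p'.1 p'.2, ?_, Equiv.apply_symm_apply _ p'⟩,
    (PrimeSpectrum.basicOpen _).isOpen.prod (s.isLocallyConstant.isOpen_fiber _), ?_, rfl⟩
  · show s p'.2 ∉ p'.1.asIdeal
    rw [show s p'.2 = s p.2 from hp'.2]
    exact hp'.1
  · obtain ⟨q, hq, rfl⟩ := hp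
    show s _ ∉ _
    intro h
    apply hq
    rw [show q = point (specEquiv q).1 (specEquiv q).2 from (specEquiv.symm_apply_apply q).symm]
    exact h

end Point

section Localization

variable (S : Submonoid (LC A T)) (B : Type u) [CommRing B] [Algebra (LC A T) B] [Algebra A B]
  [IsScalarTower A (LC A T) B] [IsLocalization S B]

/-- The pairs `(x, t)` surviving in the localization at `S`. -/
def locusSet : Set (PrimeSpectrum A × T) := {p | ∀ s ∈ S, s p.2 ∉ p.1.asIdeal}

variable [CompactSpace T] [T2Space T] [TotallyDisconnectedSpace T]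

/-- The coordinates of a prime of the localization. -/
noncomputable def coord (q : PrimeSpectrum B) : PrimeSpectrum A × T :=
  specEquiv (PrimeSpectrum.comap (algebraMap (LC A T) B) q)

theorem coord_fst (q : PrimeSpectrum B) :
    (coord (A := A) (T := T) B q).1 = PrimeSpectrum.comap (algebraMap A B) q := by
  rw [IsScalarTower.algebraMap_eq A (LC A T) B, PrimeSpectrum.comap_comp_apply]
  rfl

include S in
theorem isEmbedding_coord : IsEmbedding (coord (T := T) (A := A) B) :=
  isHomeomorph_specEquiv.isEmbedding.comp (PrimeSpectrum.localization_comap_isEmbedding B S)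

theorem range_coord : Set.range (coord (T := T) (A := A) B) = locusSet S := by
  rw [show coord (T := T) (A := A) B = specEquiv ∘ PrimeSpectrum.comap (algebraMap (LC A T) B) from rfl,
    Set.range_comp, PrimeSpectrum.localization_comap_range B S]
  ext p
  rw [Equiv.image_eq_preimage_symm]
  exact ⟨fun h s hs hsp => Set.disjoint_left.1 h hs hsp,
    fun h => Set.disjoint_left.2 fun s hs hsp => h s hs hsp⟩

end Localization

section IndZariski

variable (S : Submonoid (LC A T))

/-- Pullback of functions on a discrete quotient. -/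
noncomputable def pullQ (Q : DiscreteQuotient T) : (Q → A) →+* LC A T where
  toFun g := ⟨g ∘ Q.proj, Q.proj_isLocallyConstant.comp g⟩
  map_one' := rfl
  map_mul' _ _ := rfl
  map_zero' := rfl
  map_add' _ _ := rfl

theorem pullQ_apply (Q : DiscreteQuotient T) (g : Q → A) (t : T) : pullQ Q g t = g (Q.proj t) := rfl

theorem pullQ_injective (Q : DiscreteQuotient T) : Function.Injective (pullQ (A := A) Q) := by
  intro g g' h
  funext x
  obtain ⟨t, rfl⟩ := Q.proj_surjective x
  exact LocallyConstant.congr_fun h t

/-- A stage: a discrete quotient with a function on it lying in `S`. -/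
structure Stage : Type u where
  Q : DiscreteQuotient T
  fn : Q → A
  mem : pullQ Q fn ∈ S

/-- Restriction along a refinement. -/
def pullLE {Q Q' : DiscreteQuotient T} (h : Q' ≤ Q) : (Q → A) →+* (Q' → A) :=
  Pi.ringHom fun x => Pi.evalRingHom _ (DiscreteQuotient.ofLE h x)

theorem pullQ_pullLE {Q Q' : DiscreteQuotient T} (h : Q' ≤ Q) (g : Q → A) :
    pullQ Q' (pullLE h g) = pullQ Q g :=
  LocallyConstant.ext fun t => congrArg g (DiscreteQuotient.ofLE_proj h t)

instance : Preorder (Stage S) where
  le a b := ∃ h : b.Q ≤ a.Q, pullLE h a.fn ∣ b.fn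
  le_refl a := ⟨le_rfl, ⟨1, pullQ_injective a.Q (by rw [mul_one, pullQ_pullLE])⟩⟩
  le_trans a b c := fun ⟨h, h'⟩ ⟨k, k'⟩ => ⟨k.trans h, by
    obtain ⟨u, hu⟩ := h'
    obtain ⟨v, hv⟩ := k'
    refine ⟨pullLE k u * v, pullQ_injective c.Q ?_⟩
    simp only [hv, hu, map_mul, pullQ_pullLE]
    ring⟩

instance : Nonempty (Stage S) :=
  ⟨⟨⊤, 1, by rw [map_one]; exact S.one_mem⟩⟩

theorem exists_le_le (a b : Stage S) : ∃ c : Stage S, a ≤ c ∧ b ≤ c := by
  refine ⟨⟨a.Q ⊓ b.Q, pullLE inf_le_left a.fn * pullLE inf_le_right b.fn, ?_⟩,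
    ⟨inf_le_left, dvd_mul_right _ _⟩, ⟨inf_le_right, dvd_mul_left _ _⟩⟩
  rw [map_mul, pullQ_pullLE, pullQ_pullLE]
  exact S.mul_mem a.mem b.mem

instance : IsDirectedOrder (Stage S) := ⟨exists_le_le S⟩

/-- The ring at a stage. -/
abbrev Stage.ring (a : Stage S) : Type u := Localization.Away a.fn

theorem Stage.isUnit_of_le {a b : Stage S} (h : a ≤ b) :
    IsUnit ((algebraMap (b.Q → A) (Stage.ring S b)).comp (pullLE h.1) a.fn) := by
  show IsUnit (algebraMap (b.Q → A) (Stage.ring S b) (pullLE h.1 a.fn))
  exact isUnit_of_dvd_unit (map_dvd _ h.2) (IsLocalization.Away.algebraMap_isUnit b.fn)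

/-- Transition maps between stages. -/
noncomputable def Stage.map {a b : Stage S} (h : a ≤ b) : Stage.ring S a →+* Stage.ring S b :=
  IsLocalization.Away.lift a.fn (Stage.isUnit_of_le S h)

theorem Stage.map_algebraMap {a b : Stage S} (h : a ≤ b) (g : a.Q → A) :
    Stage.map S h (algebraMap (a.Q → A) (Stage.ring S a) g) =
      algebraMap (b.Q → A) (Stage.ring S b) (pullLE h.1 g) :=
  IsLocalization.Away.lift_eq _ _ g

/-- The structure map of a stage. -/
noncomputable def Stage.str (a : Stage S) : A →+* Stage.ring S a :=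
  (algebraMap (a.Q → A) (Stage.ring S a)).comp (algebraMap A (a.Q → A))

/-- The diagram of stages. -/
noncomputable abbrev stageDiagram : Stage S ⥤ Under (CommRingCat.of A) where
  obj a := Under.mk (CommRingCat.ofHom (Stage.str S a))
  map {a b} f := Under.homMk (CommRingCat.ofHom (Stage.map S (leOfHom f)))
    (CommRingCat.hom_ext (RingHom.ext fun x => Stage.map_algebraMap S (leOfHom f) _))
  map_id a := Under.UnderMorphism.ext <| CommRingCat.hom_ext <|
    IsLocalization.ringHom_ext (S := Stage.ring S a) (Submonoid.powers a.fn) <| RingHom.ext fun g => by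
      refine (Stage.map_algebraMap S (le_refl a) g).trans (congrArg _ ?_)
      exact pullQ_injective a.Q (pullQ_pullLE _ g)
  map_comp {a b c} f g := Under.UnderMorphism.ext <| CommRingCat.hom_ext <|
    IsLocalization.ringHom_ext (S := Stage.ring S a) (Submonoid.powers a.fn) <| RingHom.ext fun x => by
      refine (Stage.map_algebraMap S (le_trans (leOfHom f) (leOfHom g)) x).trans ?_
      show _ = Stage.map S (leOfHom g) (Stage.map S (leOfHom f) (algebraMap (a.Q → A) _ x))
      rw [Stage.map_algebraMap, Stage.map_algebraMap]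
      exact congrArg _ (pullQ_injective c.Q (by rw [pullQ_pullLE, pullQ_pullLE, pullQ_pullLE]))

theorem isIndZariski_localization [CompactSpace T] (B : Type u) [CommRing B] [Algebra (LC A T) B] [Algebra A B]
    [IsScalarTower A (LC A T) B] [IsLocalization S B] : EtPBC.IsIndZariski A B := by
  classical
  have hu : ∀ a : Stage S, IsUnit ((algebraMap (LC A T) B).comp (pullQ a.Q) a.fn) := fun a =>
    IsLocalization.map_units B ⟨_, a.mem⟩
  let toB : ∀ a : Stage S, Stage.ring S a →+* B := fun a => IsLocalization.Away.lift a.fn (hu a)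
  have htoB : ∀ a g, toB a (algebraMap (a.Q → A) _ g) = algebraMap (LC A T) B (pullQ a.Q g) :=
    fun a g => IsLocalization.Away.lift_eq _ _ g
  let c : Cocone (stageDiagram S) :=
    { pt := Under.mk (CommRingCat.ofHom (algebraMap A B))
      ι :=
        { app := fun a => Under.homMk (CommRingCat.ofHom (toB a))
            (CommRingCat.hom_ext (RingHom.ext fun x =>
              (htoB a _).trans (IsScalarTower.algebraMap_apply A (LC A T) B x).symm))
          naturality := fun a b f => Under.UnderMorphism.ext <| CommRingCat.hom_ext <|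
            IsLocalization.ringHom_ext (S := Stage.ring S a) (Submonoid.powers a.fn) <| RingHom.ext fun g => by
              show toB b (Stage.map S (leOfHom f) (algebraMap (a.Q → A) _ g)) =
                toB a (algebraMap (a.Q → A) _ g)
              rw [Stage.map_algebraMap, htoB, htoB, pullQ_pullLE] } }
  have hdesc : ∀ d : Cocone (stageDiagram S),
      ∃! m : c.pt ⟶ d.pt, ∀ a, c.ι.app a ≫ m = d.ι.app a := by
    intro d
    let app : ∀ a : Stage S, Stage.ring S a →+* d.pt.right := fun a => (d.ι.app a).right.hom
    let val : ∀ (Q : DiscreteQuotient T), (Q → A) → d.pt.right := fun Q g =>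
      app ⟨Q, 1, by rw [map_one]; exact S.one_mem⟩ (algebraMap (Q → A) _ g)
    have hval : ∀ (a : Stage S) (g : a.Q → A), app a (algebraMap (a.Q → A) _ g) = val a.Q g := by
      intro a g
      let a1 : Stage S := ⟨a.Q, 1, by rw [map_one]; exact S.one_mem⟩
      have hle : a1 ≤ a := ⟨le_rfl, ⟨a.fn, by rw [map_one, one_mul]⟩⟩
      have h := congr($(d.w (homOfLE hle)).right.hom (algebraMap (a.Q → A) (Stage.ring S a1) g))
      refine Eq.trans ?_ h
      show app a _ = app a (Stage.map S hle (algebraMap (a.Q → A) _ g))
      rw [Stage.map_algebraMap]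
      exact congrArg _ (congrArg _ (pullQ_injective a.Q (pullQ_pullLE _ g).symm))
    have hrefine : ∀ (Q Q' : DiscreteQuotient T) (h : Q' ≤ Q) (g : Q → A),
        val Q' (pullLE h g) = val Q g := by
      intro Q Q' h g
      let a : Stage S := ⟨Q, 1, by rw [map_one]; exact S.one_mem⟩
      let b : Stage S := ⟨Q', 1, by rw [map_one]; exact S.one_mem⟩
      have hle : a ≤ b := ⟨h, by rw [map_one]⟩
      have h' := congr($(d.w (homOfLE hle)).right.hom (algebraMap (Q → A) (Stage.ring S a) g))
      refine Eq.trans ?_ h'
      show app b _ = app b (Stage.map S hle (algebraMap (a.Q → A) _ g))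
      rw [Stage.map_algebraMap]
    let qf : (s : LC A T) → s.discreteQuotient → A := fun s => s.lift
    have hqf : ∀ s, pullQ s.discreteQuotient (qf s) = s := fun s =>
      LocallyConstant.ext fun t => congr_fun s.lift_comp_proj t
    let f₀ : LC A T → d.pt.right := fun s => val s.discreteQuotient (qf s)
    have hf₀ : ∀ (Q : DiscreteQuotient T) (g : Q → A), f₀ (pullQ Q g) = val Q g := by
      intro Q g
      rw [show f₀ (pullQ Q g) = val _ (qf (pullQ Q g)) from rfl,
        ← hrefine _ _ (inf_le_left (b := Q)), ← hrefine Q _ (inf_le_right (a := (pullQ Q g).discreteQuotient))]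
      exact congrArg _ (pullQ_injective _ (by rw [pullQ_pullLE, pullQ_pullLE, hqf]))
    let f : LC A T →+* d.pt.right :=
      { toFun := f₀
        map_one' := by
          refine (congrArg f₀ (map_one (pullQ ⊤)).symm).trans ((hf₀ ⊤ 1).trans ?_)
          exact (congrArg (app _) (map_one _)).trans (RingHom.map_one _)
        map_mul' := fun s s' => by
          let Q := s.discreteQuotient ⊓ s'.discreteQuotient
          have hs : s = pullQ Q (pullLE inf_le_left (qf s)) := by rw [pullQ_pullLE, hqf]
          have hs' : s' = pullQ Q (pullLE inf_le_right (qf s')) := by rw [pullQ_pullLE, hqf]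
          have key : ∀ g g' : Q → A, f₀ (pullQ Q g * pullQ Q g') = f₀ (pullQ Q g) * f₀ (pullQ Q g') := by
            intro g g'
            rw [← map_mul, hf₀, hf₀, hf₀]
            exact (congrArg (app _) (map_mul _ _ _)).trans (RingHom.map_mul _ _ _)
          exact (congrArg₂ (fun a b => f₀ (a * b)) hs hs').trans
            ((key _ _).trans (congrArg₂ (fun a b => f₀ a * f₀ b) hs.symm hs'.symm))
        map_zero' := by
          refine (congrArg f₀ (map_zero (pullQ ⊤)).symm).trans ((hf₀ ⊤ 0).trans ?_)
          exact (congrArg (app _) (map_zero _)).trans (RingHom.map_zero _)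
        map_add' := fun s s' => by
          let Q := s.discreteQuotient ⊓ s'.discreteQuotient
          have hs : s = pullQ Q (pullLE inf_le_left (qf s)) := by rw [pullQ_pullLE, hqf]
          have hs' : s' = pullQ Q (pullLE inf_le_right (qf s')) := by rw [pullQ_pullLE, hqf]
          have key : ∀ g g' : Q → A, f₀ (pullQ Q g + pullQ Q g') = f₀ (pullQ Q g) + f₀ (pullQ Q g') := by
            intro g g'
            rw [← map_add, hf₀, hf₀, hf₀]
            exact (congrArg (app _) (map_add _ _ _)).trans (RingHom.map_add _ _ _)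
          exact (congrArg₂ (fun a b => f₀ (a + b)) hs hs').trans
            ((key _ _).trans (congrArg₂ (fun a b => f₀ a + f₀ b) hs.symm hs'.symm)) }
    have hfS : ∀ s : S, IsUnit (f s) := by
      intro s
      let a : Stage S := ⟨(s : LC A T).discreteQuotient, qf s, by rw [hqf]; exact s.2⟩
      show IsUnit (val _ (qf s))
      rw [← hval a]
      exact (IsLocalization.Away.algebraMap_isUnit a.fn).map (app a)
    let F : B →+* d.pt.right := IsLocalization.lift (M := S) hfS
    have hF : ∀ a, F.comp (toB a) = app a := fun a =>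
      IsLocalization.ringHom_ext (Submonoid.powers a.fn) <| RingHom.ext fun g => by
        show F (toB a (algebraMap _ _ g)) = app a (algebraMap _ _ g)
        rw [htoB, IsLocalization.lift_eq, hval]
        exact hf₀ a.Q g
    refine ⟨Under.homMk (CommRingCat.ofHom F) (CommRingCat.hom_ext (RingHom.ext fun x => ?_)),
      fun a => Under.UnderMorphism.ext <| CommRingCat.hom_ext (hF a), fun m hm => ?_⟩
    · show F (algebraMap A B x) = d.pt.hom.hom x
      let a : Stage S := ⟨⊤, 1, by rw [map_one]; exact S.one_mem⟩
      rw [IsScalarTower.algebraMap_apply A (LC A T) B, show algebraMap A (LC A T) x =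
        pullQ a.Q (algebraMap A (a.Q → A) x) from rfl, ← htoB a]
      exact (RingHom.congr_fun (hF a) _).trans congr($(Under.w (d.ι.app a)).hom x)
    · refine Under.UnderMorphism.ext <| CommRingCat.hom_ext <|
        IsLocalization.ringHom_ext (S := B) S <| RingHom.ext fun s => ?_
      show m.right.hom (algebraMap _ B s) = F (algebraMap _ B s)
      let a : Stage S := ⟨s.discreteQuotient, 1, by rw [map_one]; exact S.one_mem⟩
      rw [← hqf s, ← htoB a (qf s)]
      exact (congr($(hm a).right.hom (algebraMap (a.Q → A) (Stage.ring S a) (qf s)))).trans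
        (RingHom.congr_fun (hF a) _).symm
  refine ⟨Stage S, inferInstance, inferInstance, stageDiagram S, c, .ofExistsUnique hdesc,
    fun a => ?_, ⟨Iso.refl _⟩⟩
  haveI : Finite a.Q := inferInstance
  haveI : Algebra.IsLocalIso A (a.Q → A) := Algebra.IsLocalIso.pi_of_finite A _
  rw [show ((stageDiagram S).obj a).hom.hom.toAlgebra =
    (OreLocalization.instAlgebra : Algebra A (Localization.Away a.fn)) from
      Algebra.algebra_ext _ _ fun _ => rfl]
  exact Algebra.IsLocalIso.trans A (a.Q → A) (Localization.Away a.fn)

end IndZariski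

end Groth.Agent.WLocalLib
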